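import Mathlib.RingTheory.MvPolynomial.Symmetric.Defs
import Mathlib.RingTheory.MvPolynomial.Homogeneous
import Mathlib.RingTheory.PowerSeries.Basic
import Mathlib.LinearAlgebra.Vandermonde
import Mathlib.Algebra.Order.Antidiag.Pi

/-!
# Alternants times power sums

`F m β` is the coefficient at `β` of the Vandermonde alternant times the product of the power
sums of the multiset `m`. For strictly increasing `β` these are Frobenius' character values of
symmetric groups.
-/

set_option autoImplicit false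
set_option linter.unusedSectionVars false

namespace CfsgLib.SymChar

open MvPolynomial Finset Equiv

variable {N : ℕ}

/-- The alternant `det (X i ^ j)`. -/
noncomputable def delta (N : ℕ) : MvPolynomial (Fin N) ℤ :=
  (Matrix.vandermonde fun i : Fin N => (X i : MvPolynomial (Fin N) ℤ)).det

/-- The product of power sums. -/
noncomputable def pProd (N : ℕ) (m : Multiset ℕ) : MvPolynomial (Fin N) ℤ :=
  (m.map fun k => psum (Fin N) ℤ k).prod

/-- An exponent vector. -/
noncomputable def expo (β : Fin N → ℕ) : Fin N →₀ ℕ := Finsupp.equivFunOnFinite.symm β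

@[simp] theorem expo_apply (β : Fin N → ℕ) (i : Fin N) : expo β i = β i := rfl

@[simp] theorem expo_coe (d : Fin N →₀ ℕ) : expo (⇑d) = d := Finsupp.ext fun _ => rfl

theorem expo_inj {β γ : Fin N → ℕ} : expo β = expo γ ↔ β = γ :=
  Finsupp.equivFunOnFinite.symm.injective.eq_iff

/-- The coefficient of the alternant times power sums. -/
noncomputable def F (m : Multiset ℕ) (β : Fin N → ℕ) : ℤ :=
  coeff (expo β) (delta N * pProd N m)

theorem pProd_cons (k : ℕ) (m : Multiset ℕ) :
    pProd N (k ::ₘ m) = psum (Fin N) ℤ k * pProd N m := by simp [pProd]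

theorem rename_delta (π : Perm (Fin N)) :
    rename π (delta N) = (Perm.sign π : ℤ) • delta N := by
  rw [delta, AlgHom.map_det, zsmul_eq_mul]
  refine Eq.trans ?_ (Matrix.det_permute π
    (Matrix.vandermonde fun i : Fin N => (X i : MvPolynomial (Fin N) ℤ)))
  congr 1
  ext i j
  simp [Matrix.vandermonde_apply]

theorem rename_pProd (π : Perm (Fin N)) (m : Multiset ℕ) :
    rename π (pProd N m) = pProd N m := by
  rw [pProd, map_multiset_prod, Multiset.map_map]
  congr 1
  exact Multiset.map_congr rfl fun k _ => rename_psum _ _ k π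

theorem F_comp (m : Multiset ℕ) (β : Fin N → ℕ) (π : Perm (Fin N)) :
    F m (β ∘ π) = (Perm.sign π : ℤ) * F m β := by
  have h1 : Finsupp.mapDomain π (expo (β ∘ π)) = expo β := by
    ext a
    conv_lhs => rw [← π.apply_symm_apply a, Finsupp.mapDomain_apply π.injective]
    simp
  have h2 := coeff_rename_mapDomain π π.injective (delta N * pProd N m) (expo (β ∘ π))
  rw [map_mul, rename_delta, rename_pProd, h1, smul_mul_assoc, coeff_smul] at h2
  rw [F, ← h2, smul_eq_mul]
  rfl

theorem F_eq_zero_of_not_injective (m : Multiset ℕ) {β : Fin N → ℕ}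
    (h : ¬ Function.Injective β) : F m β = 0 := by
  obtain ⟨i, j, hij, hne⟩ : ∃ i j, β i = β j ∧ i ≠ j := by
    simpa [Function.Injective] using h
  have h1 : β ∘ Equiv.swap i j = β := by
    funext a
    simp only [Function.comp_apply, Equiv.swap_apply_def]
    split_ifs with h1 h2
    · rw [h1, hij]
    · rw [h2, hij]
    · rfl
  have h2 := F_comp m β (Equiv.swap i j)
  rw [h1, Perm.sign_swap hne] at h2
  simp at h2
  omega

/-- Adding a part removes a hook. -/
theorem F_cons (k : ℕ) (m : Multiset ℕ) (β : Fin N → ℕ) :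
    F (k ::ₘ m) β =
      ∑ i, if k ≤ β i then F m (Function.update β i (β i - k)) else 0 := by
  rw [F, pProd_cons, ← mul_assoc, mul_comm (delta N), mul_assoc, psum, sum_mul, coeff_sum]
  refine sum_congr rfl fun i _ => ?_
  rw [X_pow_eq_monomial, coeff_monomial_mul']
  by_cases hk : k ≤ β i
  · rw [if_pos hk, if_pos (Finsupp.single_le_iff.2 hk), one_mul, F]
    congr 1
    ext a
    rcases eq_or_ne a i with rfl | ha
    · simp
    · simp [ha]
  · rw [if_neg hk, if_neg (fun h => hk (Finsupp.single_le_iff.1 h))]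

theorem delta_ne_zero (N : ℕ) : delta N ≠ 0 :=
  Matrix.det_vandermonde_ne_zero_iff.2 (MvPolynomial.X_injective)

/-- The least sum of `N` distinct natural numbers. -/
def base (N : ℕ) : ℕ := ∑ i : Fin N, (i : ℕ)

theorem isHomogeneous_delta (N : ℕ) : (delta N).IsHomogeneous (base N) := by
  rw [delta, Matrix.det_apply']
  refine IsHomogeneous.sum _ _ _ fun σ _ => ?_
  have h := IsHomogeneous.prod (R := ℤ) (univ : Finset (Fin N))
    (fun i => (Matrix.vandermonde fun i : Fin N => (X i : MvPolynomial (Fin N) ℤ)) (σ i) i)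
    (fun i => (i : ℕ)) fun i _ => by
      rw [Matrix.vandermonde_apply]
      simpa using (isHomogeneous_X ℤ (σ i)).pow (i : ℕ)
  have h0 := (isHomogeneous_C (Fin N) ((Perm.sign σ : ℤ))).mul h
  rw [zero_add] at h0
  simpa [base] using h0

theorem isHomogeneous_pProd (m : Multiset ℕ) : (pProd N m).IsHomogeneous m.sum := by
  induction m using Multiset.induction_on with
  | empty => simpa [pProd] using isHomogeneous_one (Fin N) ℤ
  | cons k m ih =>
    rw [pProd_cons, Multiset.sum_cons]
    refine IsHomogeneous.mul ?_ ih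
    rw [psum]
    exact IsHomogeneous.sum _ _ _ fun i _ => by
      simpa using (isHomogeneous_X ℤ i).pow k

theorem sum_eq_of_F_ne_zero {m : Multiset ℕ} {β : Fin N → ℕ} (h : F m β ≠ 0) :
    ∑ i, β i = base N + m.sum := by
  have h1 := ((isHomogeneous_delta N).mul (isHomogeneous_pProd m)).degree_eq_sum_deg_support
    (mem_support_iff.2 h)
  rw [h1]
  refine (Finset.sum_subset (subset_univ _) fun i _ hi => ?_).symm
  simpa using hi

theorem coeff_delta_mul (q : MvPolynomial (Fin N) ℤ) (β : Fin N → ℕ) :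
    coeff (expo β) (delta N * q) = ∑ σ : Perm (Fin N), (Perm.sign σ : ℤ) *
      if ∀ i, (σ.symm i : ℕ) ≤ β i then coeff (expo fun i => β i - (σ.symm i : ℕ)) q else 0 := by
  rw [delta, Matrix.det_apply', sum_mul, coeff_sum]
  refine sum_congr rfl fun σ _ => ?_
  have h : ∏ i, (Matrix.vandermonde fun i : Fin N => (X i : MvPolynomial (Fin N) ℤ)) (σ i) i =
      monomial (expo fun i => (σ.symm i : ℕ)) 1 := by
    rw [monomial_eq, C_1, one_mul, Finsupp.prod_fintype _ _ fun i => by simp]
    refine (Fintype.prod_equiv σ _ _ fun i => ?_)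
    simp [Matrix.vandermonde_apply]
  rw [h, ← map_intCast (C (σ := Fin N) (R := ℤ)), mul_assoc, coeff_C_mul, coeff_monomial_mul',
    Int.cast_id]
  congr 1
  simp only [one_mul]
  refine if_congr Iff.rfl ?_ rfl
  congr 1
  ext i
  simp

/-- The complete homogeneous polynomial. -/
noncomputable def hPoly (N m : ℕ) : MvPolynomial (Fin N) ℤ :=
  ∑ c ∈ (univ : Finset (Fin N)).piAntidiag m, ∏ a, X a ^ c a

theorem coeff_prod_geom (m : ℕ) :
    PowerSeries.coeff m (∏ a : Fin N, PowerSeries.mk fun k => (X a : MvPolynomial (Fin N) ℤ) ^ k) =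
      hPoly N m := by
  rw [PowerSeries.coeff_prod, hPoly]
  refine sum_bij' (fun l _ => ⇑l) (fun c _ => expo c) (fun l hl => ?_) (fun c hc => ?_)
    (fun l _ => expo_coe l) (fun c _ => rfl) fun l _ => by simp [PowerSeries.coeff_mk]
  · rw [mem_finsuppAntidiag] at hl
    rw [mem_piAntidiag]
    exact ⟨hl.1, fun a _ => mem_univ a⟩
  · rw [mem_piAntidiag] at hc
    rw [mem_finsuppAntidiag]
    exact ⟨hc.1, subset_univ _⟩

/-- The Jacobi–Trudi matrix. -/
noncomputable def hMat (γ : Fin N → ℕ) : Matrix (Fin N) (Fin N) (MvPolynomial (Fin N) ℤ) :=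
  fun j s => if (s : ℕ) ≤ γ j then hPoly N (γ j - s) else 0

theorem natDegree_coeff_prod_one_sub (s : Finset (Fin N)) (k : ℕ) (hk : s.card < k) :
    PowerSeries.coeff k
      (∏ a ∈ s, (1 - PowerSeries.C (X a : MvPolynomial (Fin N) ℤ) * PowerSeries.X)) = 0 := by
  induction s using Finset.induction_on generalizing k with
  | empty => simp at hk; simp [PowerSeries.coeff_one, Nat.pos_iff_ne_zero.1 hk]
  | insert a s ha ih =>
    rw [card_insert_of_notMem ha] at hk
    obtain ⟨j, rfl⟩ : ∃ j, k = j + 1 := ⟨k - 1, by omega⟩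
    rw [prod_insert ha, sub_mul, one_mul, map_sub, mul_assoc, PowerSeries.coeff_C_mul,
      PowerSeries.coeff_succ_X_mul, ih _ (by omega), ih _ (by omega), mul_zero, sub_zero]

/-- Powers of one variable through complete homogeneous polynomials. -/
theorem exists_hMat_mul (N : ℕ) : ∃ C : Matrix (Fin N) (Fin N) (MvPolynomial (Fin N) ℤ),
    ∀ (γ : Fin N → ℕ), hMat γ * C = Matrix.of fun j i => (X i : MvPolynomial (Fin N) ℤ) ^ γ j := by
  classical
  let Q : Fin N → PowerSeries (MvPolynomial (Fin N) ℤ) := fun i =>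
    ∏ a ∈ univ.erase i, (1 - PowerSeries.C (X a : MvPolynomial (Fin N) ℤ) * PowerSeries.X)
  refine ⟨Matrix.of fun s i => PowerSeries.coeff (s : ℕ) (Q i), fun γ => ?_⟩
  refine Matrix.ext fun j i => ?_
  simp only [Matrix.mul_apply, Matrix.of_apply, hMat]
  have hgeom : ∀ a : Fin N, (1 - PowerSeries.C (X a : MvPolynomial (Fin N) ℤ) * PowerSeries.X) *
      PowerSeries.mk (fun k => (X a : MvPolynomial (Fin N) ℤ) ^ k) = 1 := by
    intro a
    ext k : 1
    rcases k with _ | k
    · simp
    · rw [sub_mul, one_mul, map_sub, mul_assoc, PowerSeries.coeff_C_mul,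
        PowerSeries.coeff_succ_X_mul, PowerSeries.coeff_mk, PowerSeries.coeff_mk,
        PowerSeries.coeff_one, if_neg k.succ_ne_zero, pow_succ']
      simp
  have key : Q i * (∏ a : Fin N, PowerSeries.mk fun k => (X a : MvPolynomial (Fin N) ℤ) ^ k) =
      PowerSeries.mk fun k => (X i : MvPolynomial (Fin N) ℤ) ^ k := by
    rw [← Finset.mul_prod_erase univ _ (mem_univ i), mul_left_comm, ← prod_mul_distrib,
      prod_congr rfl fun a _ => hgeom a, prod_const_one, mul_one]
  have h := congrArg (PowerSeries.coeff (γ j)) key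
  rw [PowerSeries.coeff_mk, PowerSeries.coeff_mul, Nat.sum_antidiagonal_eq_sum_range_succ
    (fun a b => PowerSeries.coeff a (Q i) * PowerSeries.coeff b
      (∏ a : Fin N, PowerSeries.mk fun k => (X a : MvPolynomial (Fin N) ℤ) ^ k))] at h
  rw [← h, Fin.sum_univ_eq_sum_range (fun s => (if s ≤ γ j then hPoly N (γ j - s) else 0) *
    PowerSeries.coeff s (Q i)) N]
  simp only [coeff_prod_geom]
  have hQ : ∀ s, N ≤ s → PowerSeries.coeff s (Q i) = 0 := fun s hs =>
    natDegree_coeff_prod_one_sub _ s (by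
      rw [card_erase_of_mem (mem_univ i), card_univ, Fintype.card_fin]
      have := i.isLt; omega)
  rw [sum_subset (range_subset_range.2 (le_max_left N (γ j + 1))) (fun s _ hs => by
      rw [hQ s (not_lt.1 (mem_range.not.1 hs)), mul_zero])]
  have h3 : ∑ s ∈ range (γ j).succ, (if s ≤ γ j then hPoly N (γ j - s) else 0) *
      PowerSeries.coeff s (Q i) = ∑ s ∈ range (max N (γ j + 1)),
      (if s ≤ γ j then hPoly N (γ j - s) else 0) * PowerSeries.coeff s (Q i) :=
    sum_subset (range_subset_range.2 (le_max_right N (γ j + 1))) fun s _ hs => by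
      rw [if_neg (fun h => hs (mem_range.2 (Nat.lt_succ_of_le h))), zero_mul]
  rw [← h3]
  exact sum_congr rfl fun s hs => by
    rw [if_pos (Nat.lt_succ_iff.1 (mem_range.1 hs)), mul_comm]

theorem eq_one_of_strictMono {β γ : Fin N → ℕ} (hβ : StrictMono β) (hγ : StrictMono γ)
    {σ : Perm (Fin N)} (h : γ ∘ σ = β) : σ = 1 := by
  have hσ : StrictMono σ := fun a b hab => by
    have := hβ hab
    rw [← h] at this
    exact hγ.lt_iff_lt.1 this
  refine Equiv.ext fun a => ?_
  exact congrFun (Subsingleton.elim (hσ.orderIsoOfSurjective σ σ.surjective) (OrderIso.refl _)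
    |> congrArg DFunLike.coe) a

/-- The Jacobi–Trudi identity, at the coefficient of a strictly increasing exponent. -/
theorem coeff_delta_mul_det_hMat {β γ : Fin N → ℕ} (hβ : StrictMono β) (hγ : StrictMono γ) :
    coeff (expo β) (delta N * (hMat γ).det) = if γ = β then 1 else 0 := by
  classical
  obtain ⟨C, hC⟩ := exists_hMat_mul N
  have h1 : C.det = delta N := by
    have h := congrArg Matrix.det (hC fun i : Fin N => (i : ℕ))
    rw [Matrix.det_mul, Matrix.det_of_isLowerTriangular _ (fun a b hab => by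
      simp only [hMat]
      rw [if_neg (by simpa using hab)])] at h
    rw [prod_eq_one (fun a _ => by simp [hMat, hPoly]), one_mul] at h
    rw [h, delta, ← Matrix.det_transpose]
    congr 1
  rw [← h1, mul_comm, ← Matrix.det_mul, hC γ, Matrix.det_apply', coeff_sum]
  have h2 : ∀ σ : Perm (Fin N), coeff (expo β) (((Perm.sign σ : ℤ) : MvPolynomial (Fin N) ℤ) *
      ∏ i, (Matrix.of fun j i => (X i : MvPolynomial (Fin N) ℤ) ^ γ j) (σ i) i) =
      (Perm.sign σ : ℤ) * if γ ∘ σ = β then 1 else 0 := by
    intro σ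
    have h : ∏ i, (Matrix.of fun j i => (X i : MvPolynomial (Fin N) ℤ) ^ γ j) (σ i) i =
        monomial (expo (γ ∘ σ)) 1 := by
      rw [monomial_eq, C_1, one_mul, Finsupp.prod_fintype _ _ fun i => by simp]
      rfl
    rw [h, ← map_intCast (MvPolynomial.C (σ := Fin N) (R := ℤ)), coeff_C_mul, coeff_monomial,
      Int.cast_id]
    congr 1
    exact if_congr expo_inj rfl rfl
  simp only [h2]
  rw [sum_eq_single (1 : Perm (Fin N)) (fun σ _ hσ => by
      rw [if_neg fun h => hσ (eq_one_of_strictMono hβ hγ h), mul_zero]) (fun h => absurd (mem_univ _) h)]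
  simp

theorem det_hMat (γ : Fin N → ℕ) : (hMat γ).det = ∑ σ : Perm (Fin N), (Perm.sign σ : ℤ) •
    if ∀ j, (σ j : ℕ) ≤ γ j then ∏ j, hPoly N (γ j - (σ j : ℕ)) else 0 := by
  rw [← Matrix.det_transpose, Matrix.det_apply']
  refine sum_congr rfl fun σ _ => ?_
  rw [zsmul_eq_mul]
  congr 1
  simp only [Matrix.transpose_apply, hMat]
  split_ifs with h
  · exact prod_congr rfl fun j _ => by rw [if_pos (h j)]
  · push Not at h
    obtain ⟨j, hj⟩ := h
    exact prod_eq_zero (mem_univ j) (if_neg (not_le.2 hj))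

end CfsgLib.SymChar
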