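import Cfsg.Agent.Lib.SymChar.Flip

/-!
# Self-conjugate weight sets in a core, and numerical bounds
-/

set_option autoImplicit false
set_option linter.unusedSectionVars false
set_option linter.style.haveILetI false

namespace CfsgLib.SymChar

open Finset

theorem numPartitions_mono {a b : ℕ} (h : a ≤ b) : numPartitions a ≤ numPartitions b := by
  induction b, h using Nat.le_induction with
  | base => rfl
  | succ b _ ih =>
    refine ih.trans (Fintype.card_le_of_injective (fun l : Nat.Partition b =>
      (⟨1 ::ₘ l.parts, fun {i} hi => (Multiset.mem_cons.1 hi).elim (fun e => e ▸ one_pos)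
        (fun h => l.parts_pos h), by rw [Multiset.sum_cons, l.parts_sum, add_comm]⟩ :
        Nat.Partition (b + 1))) ?_)
    intro l l' e
    exact Nat.Partition.ext ((Multiset.cons_inj_right 1).1 (congrArg Nat.Partition.parts e))

theorem numPartitions_succ_le_double (j : ℕ) :
    numPartitions (j + 1) ≤ 2 * numPartitions j := by
  classical
  have hmin : ∀ l : Nat.Partition (j + 1), ∃ k ∈ l.parts, ∀ a ∈ l.parts, k ≤ a := by
    intro l
    have hne : l.parts.toFinset.Nonempty := by
      rw [Multiset.toFinset_nonempty]
      intro h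
      have := l.parts_sum
      rw [h] at this
      simp at this
    exact ⟨_, Multiset.mem_toFinset.1 (min'_mem _ hne),
      fun a ha => min'_le _ a (Multiset.mem_toFinset.2 ha)⟩
  choose k hk hkmin using hmin
  have hsum : ∀ l : Nat.Partition (j + 1), k l + (l.parts.erase (k l)).sum = j + 1 := fun l => by
    rw [← Multiset.sum_cons, Multiset.cons_erase (hk l), l.parts_sum]
  let T : Nat.Partition (j + 1) → Nat.Partition j ⊕ Nat.Partition j := fun l =>
    if h : k l = 1 then
      Sum.inl ⟨l.parts.erase (k l), fun {i} hi => l.parts_pos (Multiset.mem_of_mem_erase hi), by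
        have := hsum l; omega⟩
    else Sum.inr ⟨(k l - 1) ::ₘ l.parts.erase (k l), fun {i} hi => by
      rcases Multiset.mem_cons.1 hi with rfl | hi
      · have := l.parts_pos (hk l); omega
      · exact l.parts_pos (Multiset.mem_of_mem_erase hi), by
        have := hsum l
        have := l.parts_pos (hk l)
        rw [Multiset.sum_cons]; omega⟩
  rw [two_mul]
  unfold numPartitions
  refine (Fintype.card_le_of_injective T fun l l' e => Nat.Partition.ext ?_).trans_eq
    Fintype.card_sum
  simp only [T] at e
  split_ifs at e with h h'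
  · have e' : l.parts.erase (k l) = l'.parts.erase (k l') :=
      congrArg Nat.Partition.parts (Sum.inl.inj e)
    rw [← Multiset.cons_erase (hk l), ← Multiset.cons_erase (hk l'), e', h, h']
  · have e' : (k l - 1) ::ₘ l.parts.erase (k l) = (k l' - 1) ::ₘ l'.parts.erase (k l') :=
      congrArg Nat.Partition.parts (Sum.inr.inj e)
    have hpos := l.parts_pos (hk l)
    have hpos' := l'.parts_pos (hk l')
    have h1 : k l - 1 = k l' - 1 ∨ k l' ≤ k l - 1 := by
      rcases Multiset.mem_cons.1 (e' ▸ Multiset.mem_cons_self (k l - 1) _) with h1 | h1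
      · exact Or.inl h1
      · exact Or.inr (hkmin l' _ (Multiset.mem_of_mem_erase h1))
    have h2 : k l' - 1 = k l - 1 ∨ k l ≤ k l' - 1 := by
      rcases Multiset.mem_cons.1 (e'.symm ▸ Multiset.mem_cons_self (k l' - 1) _) with h1 | h1
      · exact Or.inl h1
      · exact Or.inr (hkmin l _ (Multiset.mem_of_mem_erase h1))
    have hkk : k l = k l' := by omega
    rw [hkk] at e'
    rw [← Multiset.cons_erase (hk l), ← Multiset.cons_erase (hk l'), hkk,
      (Multiset.cons_inj_right _).1 e']

theorem numPartitions_eq_card (j : ℕ) : numPartitions j = (wSets j j).card :=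
  (card_wSets le_rfl).symm

theorem numPartitions_one : numPartitions 1 = 1 := by rw [numPartitions_eq_card]; decide

theorem numPartitions_two : numPartitions 2 = 2 := by rw [numPartitions_eq_card]; decide

theorem numPartitions_three : numPartitions 3 = 3 := by rw [numPartitions_eq_card]; decide

theorem numPartitions_four : numPartitions 4 = 5 := by rw [numPartitions_eq_card]; decide

theorem numMulti_one (w : ℕ) : numMulti 1 w = numPartitions w := by
  rw [numMulti_succ, sum_eq_single w, Nat.sub_self, numMulti_zero_right, mul_one]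
  · intro j hj hne
    rw [numMulti_zero_left (by have := mem_range.1 hj; omega), mul_zero]
  · intro h; exact absurd (mem_range.2 (Nat.lt_succ_self w)) h

theorem numMulti_mono_right (q : ℕ) {a b : ℕ} (h : a ≤ b) :
    numMulti (q + 1) a ≤ numMulti (q + 1) b := by
  induction b, h using Nat.le_induction with
  | base => rfl
  | succ b _ ih =>
    refine ih.trans ?_
    rw [numMulti_succ, numMulti_succ q (b + 1), sum_range_succ' _ (b + 1)]
    refine le_add_right (sum_le_sum fun j hj => ?_)
    rw [show b + 1 - (j + 1) = b - j by omega]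
    exact Nat.mul_le_mul_right _ (numPartitions_mono (Nat.le_succ j))

theorem numMulti_le_succ (q w : ℕ) : numMulti q w ≤ numMulti (q + 1) w := by
  rw [numMulti_succ, sum_range_succ', numPartitions_zero, one_mul, Nat.sub_zero]
  exact Nat.le_add_left _ _

theorem numMulti_mono_left {q q' : ℕ} (h : q ≤ q') (w : ℕ) : numMulti q w ≤ numMulti q' w := by
  induction q', h using Nat.le_induction with
  | base => rfl
  | succ b _ ih => exact ih.trans (numMulti_le_succ b w)

theorem numMulti_succ_right_le (q w : ℕ) : numMulti q (w + 1) ≤ (q + 1) * numMulti q w := by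
  induction q generalizing w with
  | zero => rw [numMulti_zero_left (Nat.succ_ne_zero w)]; exact Nat.zero_le _
  | succ q ih =>
    have hA : numMulti (q + 1) (w + 1) = ∑ k ∈ range w,
        numPartitions (k + 1 + 1) * numMulti q (w - (k + 1)) + numMulti q w + numMulti q (w + 1) := by
      rw [numMulti_succ, sum_range_succ', sum_range_succ']
      simp only [Nat.zero_add, Nat.sub_zero, numPartitions_zero, numPartitions_one, one_mul,
        Nat.add_sub_add_right, Nat.add_sub_cancel]
    have hB : numMulti (q + 1) w = ∑ i ∈ range w,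
        numPartitions (i + 1) * numMulti q (w - (i + 1)) + numMulti q w := by
      rw [numMulti_succ, sum_range_succ']
      simp only [numPartitions_zero, one_mul, Nat.sub_zero]
    rw [hA, hB, mul_add]
    have h1 : ∑ k ∈ range w, numPartitions (k + 1 + 1) * numMulti q (w - (k + 1)) ≤
        (q + 1 + 1) * ∑ i ∈ range w, numPartitions (i + 1) * numMulti q (w - (i + 1)) := by
      rw [mul_sum]
      refine sum_le_sum fun i _ => ?_
      rw [← mul_assoc]
      exact Nat.mul_le_mul_right _ ((numPartitions_succ_le_double _).trans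
        (Nat.mul_le_mul_right _ (by omega)))
    have h2 := ih w
    have h3 : (q + 1 + 1) * numMulti q w = (q + 1) * numMulti q w + numMulti q w := by ring
    omega

theorem numMulti_one_right (q : ℕ) : numMulti q 1 = q := by
  induction q with
  | zero => exact numMulti_zero_left one_ne_zero
  | succ q ih =>
    rw [numMulti_succ, sum_range_succ, sum_range_succ, sum_range_zero, zero_add, numPartitions_zero,
      one_mul, numPartitions_one, one_mul, Nat.sub_zero, ih, Nat.sub_self, numMulti_zero_right]

theorem numMulti_two_right (q : ℕ) : 2 * numMulti q 2 = q * (q + 3) := by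
  induction q with
  | zero => rw [numMulti_zero_left two_ne_zero]
  | succ q ih =>
    rw [numMulti_succ, sum_range_succ, sum_range_succ, sum_range_succ, sum_range_zero, zero_add,
      numPartitions_zero, numPartitions_one, numPartitions_two, Nat.sub_zero, Nat.sub_self,
      numMulti_zero_right, show 2 - 1 = 1 from rfl, numMulti_one_right]
    nlinarith

theorem two_mul_numMulti_three_lt (q : ℕ) (hq : 2 ≤ q) : 2 * numMulti q 3 < (q + 1) ^ 3 := by
  induction q, hq using Nat.le_induction with
  | base =>
    rw [numMulti_succ, sum_range_succ, sum_range_succ, sum_range_succ, sum_range_succ,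
      sum_range_zero, numMulti_one, numMulti_one, numMulti_one, numMulti_one]
    simp [numPartitions_zero, numPartitions_one, numPartitions_two, numPartitions_three]
  | succ q _ ih =>
    rw [numMulti_succ, sum_range_succ, sum_range_succ, sum_range_succ, sum_range_succ,
      sum_range_zero, numPartitions_zero, numPartitions_one, numPartitions_two, numPartitions_three,
      show 3 - 0 = 3 from rfl, show 3 - 1 = 2 from rfl, show 3 - 2 = 1 from rfl, Nat.sub_self,
      numMulti_zero_right, numMulti_one_right]
    have := numMulti_two_right q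
    nlinarith

theorem two_mul_numMulti_lt {q w : ℕ} (hq : 2 ≤ q) (hw : 3 ≤ w) :
    2 * numMulti q w < (q + 1) ^ w := by
  induction w, hw using Nat.le_induction with
  | base => exact two_mul_numMulti_three_lt q hq
  | succ w _ ih =>
    calc 2 * numMulti q (w + 1) ≤ 2 * ((q + 1) * numMulti q w) :=
          Nat.mul_le_mul_left 2 (numMulti_succ_right_le q w)
      _ = (q + 1) * (2 * numMulti q w) := by ring
      _ < (q + 1) * (q + 1) ^ w := Nat.mul_lt_mul_of_pos_left ih (Nat.succ_pos q)
      _ = (q + 1) ^ (w + 1) := by ring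

/-- The number of symmetric multipartitions with `2 h + 1` components. -/
def numSym (h w : ℕ) : ℕ :=
  ∑ j ∈ range (w / 2 + 1), numMulti h j * numPartitions (w - 2 * j)

theorem numSym_le (h w : ℕ) : numSym (h + 1) w ≤ numMulti (h + 2) w := by
  rw [numMulti_succ (h + 1), numSym]
  calc ∑ j ∈ range (w / 2 + 1), numMulti (h + 1) j * numPartitions (w - 2 * j)
      ≤ ∑ j ∈ range (w / 2 + 1), numPartitions (w - 2 * j) * numMulti (h + 1) (w - (w - 2 * j)) := by
        refine sum_le_sum fun j hj => ?_
        have := mem_range.1 hj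
        rw [mul_comm]
        exact Nat.mul_le_mul_left _ (numMulti_mono_right h (by omega))
    _ = ∑ i ∈ (range (w / 2 + 1)).image (fun j => w - 2 * j),
          numPartitions i * numMulti (h + 1) (w - i) := by
        rw [sum_image]
        intro a ha b hb e
        have ha' := mem_range.1 ha
        have hb' := mem_range.1 hb
        have e' : w - 2 * a = w - 2 * b := e
        omega
    _ ≤ _ := sum_le_sum_of_subset (fun i hi => by
        obtain ⟨j, -, rfl⟩ := mem_image.1 hi
        exact mem_range.2 (by omega))

theorem numMulti_add_numSym_lt {h w : ℕ} (hh : 1 ≤ h) (hw : 2 ≤ w) :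
    numMulti (2 * h) w + numSym h w < (2 * h + 1) ^ w := by
  rcases hw.lt_or_eq with hw | rfl
  · obtain ⟨h', rfl⟩ : ∃ h', h = h' + 1 := ⟨h - 1, by omega⟩
    have h1 := (numSym_le h' w).trans (numMulti_mono_left (show h' + 2 ≤ 2 * (h' + 1) by omega) w)
    have h2 := two_mul_numMulti_lt (show 2 ≤ 2 * (h' + 1) by omega) hw
    omega
  · have h1 : numSym h 2 = 2 + h := by
      rw [numSym, show 2 / 2 + 1 = 2 from rfl, sum_range_succ, sum_range_succ, sum_range_zero]
      simp [numMulti_zero_right, numMulti_one_right, numPartitions_two, numPartitions_zero]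
    have h2 := numMulti_two_right (2 * h)
    rw [h1]
    nlinarith

theorem numSym_le_one {h w : ℕ} (hw : w ≤ 1) : numSym h w = 1 := by
  interval_cases w <;> simp [numSym, numMulti_zero_right, numPartitions_zero, numPartitions_one]

theorem numPartitions_add_half_lt {w : ℕ} (hw : 4 ≤ w) :
    numPartitions w + numPartitions (w / 2) < 2 ^ (w - 1) := by
  induction w, hw using Nat.le_induction with
  | base => rw [numPartitions_four, show 4 / 2 = 2 from rfl, numPartitions_two]; norm_num
  | succ w hw ih =>
    have h1 := numPartitions_succ_le_double w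
    have h2 : numPartitions ((w + 1) / 2) ≤ 2 * numPartitions (w / 2) :=
      (numPartitions_mono (show (w + 1) / 2 ≤ w / 2 + 1 by omega)).trans
        (numPartitions_succ_le_double _)
    rw [show w + 1 - 1 = (w - 1) + 1 by omega, pow_succ]
    omega

variable {p N n : ℕ}

theorem runLen_flipSet [NeZero p] {K : ℕ} {S : Finset ℕ} (hS : S ⊆ range (p * K)) (r : Fin p) :
    runLen (p := p) (flipSet (p * K) S) r = K - runLen (p := p) S r.rev := by
  rw [runLen, runner_flipSet, card_flipSet (runner_subset hS _)]
  rfl

/-- Excess of a runner over the least sum of its length. -/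
def excess (p : ℕ) (S : Finset ℕ) (r : Fin p) : ℕ :=
  ∑ y ∈ runner p S r, y - base (runner p S r).card

theorem excess_rev [NeZero p] {K : ℕ} {S : Finset ℕ} (hS : S ⊆ range (p * K))
    (hfix : flipSet (p * K) S = S) (r : Fin p) : excess p S r.rev = excess p S r := by
  have h := sum_flipSet (runner_subset (p := p) hS r.rev)
  have hc := card_flipSet (runner_subset (p := p) hS r.rev)
  rw [← runner_flipSet K S r, hfix] at h hc
  have h1 := base_le_sum (runner p S r)
  have h2 := base_le_sum (runner p S r.rev)
  unfold excess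
  rw [hc] at h1 ⊢
  omega

theorem sum_excess [NeZero p] {S : Finset ℕ} (hS : S ∈ wSets N n) {w : ℕ}
    (hw : base N + n = coreBase p (runLen (p := p) S) + p * w) : ∑ r, excess p S r = w := by
  have h2 := sum_eq_sum_runner (p := p) S
  rw [(mem_wSets.1 hS).2, hw, coreBase] at h2
  have h3 : ∑ r : Fin p, ((r : ℕ) * (runner p S r).card + p * ∑ y ∈ runner p S r, y) =
      ∑ r : Fin p, ((r : ℕ) * runLen (p := p) S r + p * base (runLen (p := p) S r)) +
        p * ∑ r, excess p S r := by
    rw [mul_sum, ← sum_add_distrib]
    exact sum_congr rfl fun r _ => by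
      rw [runLen, excess, add_assoc, ← Nat.mul_add, Nat.add_sub_of_le (base_le_sum _)]
  rw [h3] at h2
  exact Nat.eq_of_mul_eq_mul_left (NeZero.pos p) (Nat.add_left_cancel h2).symm

theorem runner_mem_wSets {S : Finset ℕ} {c : Fin p → ℕ} (hc : runLen (p := p) S = c) (r : Fin p) :
    runner p S r ∈ wSets (c r) (excess p S r) := by
  rw [mem_wSets, ← hc]
  exact ⟨rfl, by rw [excess, runLen]; exact (Nat.add_sub_of_le (base_le_sum _)).symm⟩

theorem eq_of_runners_half [NeZero p] {K : ℕ} {S T : Finset ℕ}
    (hS : flipSet (p * K) S = S) (hT : flipSet (p * K) T = T)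
    (h : ∀ r : Fin p, (r : ℕ) + (r : ℕ) < p → runner p S r = runner p T r) : S = T := by
  rw [← joinRunners_runner (p := p) S, ← joinRunners_runner (p := p) T]
  congr 1
  funext r
  by_cases hr : (r : ℕ) + (r : ℕ) < p
  · exact h r hr
  · rw [← hS, ← hT, runner_flipSet, runner_flipSet, h r.rev]
    rw [Fin.val_rev]
    have := r.2
    omega

/-- Fixed weight sets in a core, two runners. -/
theorem card_fixed_le_two {K w : ℕ} {c : Fin 2 → ℕ} (s : Finset (Finset ℕ))
    (hs : ∀ S ∈ s, S ∈ wSets N n ∧ S ⊆ range (2 * K) ∧ flipSet (2 * K) S = S ∧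
      runLen (p := 2) S = c) (hw : base N + n = coreBase 2 c + 2 * w) (hcw : ∀ r, w ≤ c r) :
    s.card ≤ if Even w then numPartitions (w / 2) else 0 := by
  have key : ∀ S ∈ s, 2 * excess 2 S 0 = w := by
    intro S hS
    obtain ⟨h1, h2, h3, h4⟩ := hs S hS
    have h5 := sum_excess h1 (h4.symm ▸ hw)
    have h6 := excess_rev h2 h3 (0 : Fin 2)
    rw [Fin.sum_univ_two] at h5
    rw [show (0 : Fin 2).rev = 1 from rfl] at h6
    omega
  split_ifs with he
  · unfold numPartitions
    rw [← card_wSets (N := c 0) (n := w / 2) ((Nat.div_le_self w 2).trans (hcw 0))]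
    refine card_le_card_of_injOn (fun S => runner 2 S 0) (fun S hS => ?_) fun S hS T hT e => ?_
    · have := key S hS
      rw [show w / 2 = excess 2 S 0 by omega]
      exact runner_mem_wSets (hs S hS).2.2.2 0
    · refine eq_of_runners_half (hs S hS).2.2.1 (hs T hT).2.2.1 fun r hr => ?_
      rw [show r = 0 from Fin.ext (by omega)]
      exact e
  · refine (card_eq_zero.2 (eq_empty_of_forall_notMem fun S hS => he ?_)).le
    exact ⟨excess 2 S 0, by have := key S hS; omega⟩

/-- Fixed weight sets in a core, an odd number of runners. -/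
theorem card_fixed_le_odd {h K w : ℕ} {c : Fin (2 * h + 1) → ℕ} (s : Finset (Finset ℕ))
    (hs : ∀ S ∈ s, S ∈ wSets N n ∧ S ⊆ range ((2 * h + 1) * K) ∧
      flipSet ((2 * h + 1) * K) S = S ∧ runLen (p := 2 * h + 1) S = c)
    (hw : base N + n = coreBase (2 * h + 1) c + (2 * h + 1) * w) (hcw : ∀ r, w ≤ c r) :
    s.card ≤ numSym h w := by
  classical
  let lo : Fin h → Fin (2 * h + 1) := fun i => ⟨i, by omega⟩
  let mid : Fin (2 * h + 1) := ⟨h, by omega⟩
  set target := (range (w / 2 + 1)).sigma fun j =>
    ((univ : Finset (Fin h)).piAntidiag j).sigma (fun d => Fintype.piFinset fun i =>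
      wSets (c (lo i)) (d i)) ×ˢ wSets (c mid) (w - 2 * j) with htarget
  have hcard : target.card = numSym h w := by
    rw [htarget, card_sigma, numSym]
    refine sum_congr rfl fun j hj => ?_
    have hj' : 2 * j ≤ w := by have := mem_range.1 hj; omega
    rw [card_product, card_sigma, card_wSets ((Nat.sub_le w _).trans (hcw mid)), numMulti]
    congr 1
    refine sum_congr rfl fun d hd => ?_
    rw [Fintype.card_piFinset]
    refine prod_congr rfl fun i _ => card_wSets ?_
    have hle : d i ≤ j := (single_le_sum (fun a _ => Nat.zero_le (d a)) (mem_univ i)).trans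
      (mem_piAntidiag.1 hd).1.le
    have := hcw (lo i)
    omega
  have hsum : ∀ S ∈ s, 2 * ∑ i, excess _ S (lo i) + excess _ S mid = w := by
    intro S hS
    obtain ⟨h1, h2, h3, h4⟩ := hs S hS
    rw [← sum_excess (p := 2 * h + 1) (w := w) h1 (by rw [h4]; exact hw)]
    set f : ℕ → ℕ := fun i => if hi : i < 2 * h + 1 then excess (2 * h + 1) S ⟨i, hi⟩ else 0
    have hf : ∑ r, excess (2 * h + 1) S r = ∑ i ∈ range (2 * h + 1), f i := by
      rw [← Fin.sum_univ_eq_sum_range]
      exact sum_congr rfl fun r _ => by simp only [f, dif_pos r.2]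
    have hlo : ∑ i, excess (2 * h + 1) S (lo i) = ∑ i ∈ range h, f i := by
      rw [← Fin.sum_univ_eq_sum_range]
      exact sum_congr rfl fun i _ => by
        simp only [f, lo, dif_pos (show (i : ℕ) < 2 * h + 1 by omega)]
    have hhi : ∑ i ∈ range h, f (h + 1 + i) = ∑ i ∈ range h, f i := by
      rw [← sum_range_reflect]
      refine sum_congr rfl fun i hi => ?_
      have hi' := mem_range.1 hi
      simp only [f, dif_pos (show h + 1 + (h - 1 - i) < 2 * h + 1 by omega),
        dif_pos (show i < 2 * h + 1 by omega)]
      rw [← excess_rev h2 h3 ⟨i, by omega⟩]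
      congr 1
      ext
      rw [Fin.val_rev]
      simp only
      omega
    rw [hf, hlo, show range (2 * h + 1) = range (h + 1 + h) by congr 1; omega, sum_range_add, hhi,
      sum_range_succ]
    simp only [f, dif_pos (show h < 2 * h + 1 by omega), mid]
    omega
  rw [← hcard]
  refine card_le_card_of_injOn (fun S => ⟨∑ i, excess _ S (lo i),
    (⟨fun i => excess _ S (lo i), fun i => runner _ S (lo i)⟩, runner _ S mid)⟩)
    (fun S hS => ?_) fun S hS T hT e => ?_
  · have := hsum S hS
    refine mem_sigma.2 ⟨mem_range.2 (by simp only; omega), mem_product.2 ⟨mem_sigma.2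
      ⟨mem_piAntidiag.2 ⟨rfl, fun i _ => mem_univ i⟩,
        Fintype.mem_piFinset.2 fun i => runner_mem_wSets (hs S hS).2.2.2 _⟩, ?_⟩⟩
    simp only
    rw [show w - 2 * ∑ i, excess _ S (lo i) = excess _ S mid by omega]
    exact runner_mem_wSets (hs S hS).2.2.2 _
  · have h1 := congrArg (fun x : (_ : ℕ) × (((_ : Fin h → ℕ) × (Fin h → Finset ℕ)) × Finset ℕ) =>
      (x.2.1.2, x.2.2)) e
    simp only [Prod.mk.injEq] at h1
    refine eq_of_runners_half (hs S hS).2.2.1 (hs T hT).2.2.1 fun r hr => ?_
    rcases (show (r : ℕ) < h ∨ (r : ℕ) = h by omega) with hr' | hr'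
    · exact congrFun h1.1 ⟨r, hr'⟩
    · rw [show r = mid from Fin.ext hr']
      exact h1.2

end CfsgLib.SymChar
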