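import Cfsg.Agent.Lib.SymChar.Blocks
import Cfsg.Agent.Lib.SymChar.FixedCount
import Cfsg.Agent.Lib.BlockLocal.BlockCover
import Cfsg.Agent.Lib.BlockLocal.NormalInduce

/-!
# Blocks of alternating groups under the cores of the symmetric group

Each member of a block of the alternating group lies under a weight set of one fixed core. The
block rank is at most the regular trace of the core plus the number of self-conjugate weight
sets in it.
-/

set_option autoImplicit false
set_option linter.unusedSectionVars false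
set_option linter.style.haveILetI false

namespace CfsgLib.SymChar

open Equiv Finset Cfsg CfsgLib.CharTheory CfsgLib.BrauerCharacters
open scoped Nat ComplexConjugate

variable {p N n : ℕ}

theorem two_mul_card_alt (hn : 2 ≤ n) :
    2 * Nat.card (alternatingGroup (Fin n)) = n ! := by
  haveI : Nontrivial (Fin n) := Fin.nontrivial_iff_two_le.2 hn
  rw [Nat.card_eq_fintype_card, two_mul_card_alternatingGroup, Fintype.card_perm, Fintype.card_fin]

theorem sum_alt_eq (f : Perm (Fin n) → ℂ) :
    ∑ a : alternatingGroup (Fin n), f a =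
      (∑ g, f g + ∑ g, ((Perm.sign g : ℤ) : ℂ) * f g) / 2 := by
  classical
  rw [← sum_add_distrib, sum_div,
    ← sum_subtype (univ.filter fun g : Perm (Fin n) => g ∈ alternatingGroup (Fin n))
      (fun g => by simp) f, sum_filter]
  refine sum_congr rfl fun g _ => ?_
  rcases Int.units_eq_one_or (Perm.sign g) with h | h
  · rw [if_pos (Perm.mem_alternatingGroup.2 h), h]
    push_cast
    ring
  · rw [if_neg fun h' => by rw [Perm.mem_alternatingGroup.1 h'] at h; exact absurd h (by decide), h]
    push_cast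
    ring

/-- A weight set lies over a character of the alternating group. -/
def Over (S : ↥(wSets N n)) (χ : IrrCharacter ↥(alternatingGroup (Fin n))) : Prop :=
  classInner (fun a : alternatingGroup (Fin n) => (chi S : Perm (Fin n) → ℂ) a)
    (χ : alternatingGroup (Fin n) → ℂ) ≠ 0

theorem exists_over_set (hN : n ≤ N) (χ : IrrCharacter ↥(alternatingGroup (Fin n))) :
    ∃ S : ↥(wSets N n), Over S χ := by
  obtain ⟨ψ, hψ⟩ := BlockLocal.exists_over (alternatingGroup (Fin n)) χ
  exact ⟨(chiEquiv hN).symm ψ, by rwa [Over, chi_symm]⟩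

theorem sum_theta_sq (S : ↥(wSets N n)) : ∑ g, theta S g * theta S g = (n ! : ℂ) := by
  rw [sum_theta_mul_theta, if_pos rfl]

theorem sum_sign_theta_sq (hN : n ≤ N) (S : ↥(wSets N n)) :
    ∑ g, ((Perm.sign g : ℤ) : ℂ) * (theta S g * theta S g) =
      if flipW hN S = S then (n ! : ℂ) else 0 := by
  rw [← sum_theta_mul_theta]
  exact sum_congr rfl fun g _ => by rw [theta_flipW]; ring

theorem sum_chi_mul_conj (S : ↥(wSets N n)) (g : Perm (Fin n)) :
    (chi S : Perm (Fin n) → ℂ) g * conj ((chi S : Perm (Fin n) → ℂ) g) = theta S g * theta S g := by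
  rw [chi_apply, map_mul, conj_sgn, show conj (theta S g) = theta S g from conj_thetaFun _ g]
  calc sgn S * theta S g * (sgn S * theta S g) = sgn S * sgn S * (theta S g * theta S g) := by ring
    _ = _ := by rw [sgn_mul_self, one_mul]

/-- The norm of a restriction is one or two. -/
theorem classInner_res_self (hN : n ≤ N) (hn : 2 ≤ n) (S : ↥(wSets N n)) :
    classInner (fun a : alternatingGroup (Fin n) => (chi S : Perm (Fin n) → ℂ) a)
      (fun a : alternatingGroup (Fin n) => (chi S : Perm (Fin n) → ℂ) a) =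
      if flipW hN S = S then 2 else 1 := by
  have h0 : (Nat.card (alternatingGroup (Fin n)) : ℂ) ≠ 0 := Nat.cast_ne_zero.2 Nat.card_pos.ne'
  have h2 : (n ! : ℂ) = 2 * (Nat.card (alternatingGroup (Fin n)) : ℂ) := by
    rw [← two_mul_card_alt hn]; push_cast; ring
  simp only [classInner, sum_chi_mul_conj]
  rw [sum_alt_eq (fun g => theta S g * theta S g), sum_theta_sq, sum_sign_theta_sq hN S]
  split_ifs <;> rw [h2] <;> field_simp <;> ring

theorem over_flipW (hN : n ≤ N) {S : ↥(wSets N n)} {χ : IrrCharacter ↥(alternatingGroup (Fin n))}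
    (h : Over S χ) : Over (flipW hN S) χ := by
  intro h0
  apply h
  have e : ∀ a : alternatingGroup (Fin n), (chi S : Perm (Fin n) → ℂ) a =
      sgn S * sgn (flipW hN S) * (chi (flipW hN S) : Perm (Fin n) → ℂ) a := by
    intro a
    rw [chi_apply, chi_apply, theta_flipW, Perm.mem_alternatingGroup.1 a.2]
    push_cast
    rw [one_mul, mul_assoc, ← mul_assoc (sgn (flipW hN S)), sgn_mul_self, one_mul]
  simp only [classInner, e, mul_assoc, ← mul_sum] at h0 ⊢
  rw [mul_eq_zero] at h0
  rcases h0 with h0 | h0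
  · exact absurd h0 (inv_ne_zero (Nat.cast_ne_zero.2 Nat.card_pos.ne'))
  · rw [h0, mul_zero, mul_zero, mul_zero]

/-- Below a weight set: one character, or two when it is self-conjugate. -/
theorem res_cases (hN : n ≤ N) (hn : 2 ≤ n) (S : ↥(wSets N n)) :
    (flipW hN S ≠ S → ∃ χ₁ : IrrCharacter ↥(alternatingGroup (Fin n)),
      (∀ χ, Over S χ ↔ χ = χ₁) ∧
      ∀ a : alternatingGroup (Fin n), (χ₁ : alternatingGroup (Fin n) → ℂ) a =
        (chi S : Perm (Fin n) → ℂ) a) ∧
    (flipW hN S = S → ∃ χ₁ χ₂ : IrrCharacter ↥(alternatingGroup (Fin n)), χ₁ ≠ χ₂ ∧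
      (∀ χ, Over S χ ↔ χ = χ₁ ∨ χ = χ₂) ∧
      ∀ a : alternatingGroup (Fin n), (χ₁ : alternatingGroup (Fin n) → ℂ) a +
        (χ₂ : alternatingGroup (Fin n) → ℂ) a = (chi S : Perm (Fin n) → ℂ) a) := by
  classical
  haveI := Fintype.ofFinite (IrrCharacter ↥(alternatingGroup (Fin n)))
  obtain ⟨m, hm, hm'⟩ := BlockLocal.res_eq_sum (alternatingGroup (Fin n)) (chi S)
  have hres : (fun a : alternatingGroup (Fin n) => (chi S : Perm (Fin n) → ℂ) a) =
      ∑ η, (m η : ℂ) • (η : alternatingGroup (Fin n) → ℂ) :=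
    funext fun a => by simp [hm a, Finset.sum_apply]
  have hnorm : ((∑ η, m η * m η : ℕ) : ℂ) = if flipW hN S = S then 2 else 1 := by
    rw [← classInner_res_self hN hn S]
    conv_rhs => arg 2; rw [hres]
    rw [classInner_sum_right, Nat.cast_sum]
    refine sum_congr rfl fun η _ => ?_
    rw [classInner_smul_right, hm', Nat.cast_mul, map_natCast]
  have hover : ∀ η, Over S η ↔ m η ≠ 0 := fun η => by
    rw [Over, hm', Ne, Nat.cast_eq_zero]
  set P := univ.filter fun η => m η ≠ 0 with hP
  have hval : ∀ a : alternatingGroup (Fin n), (chi S : Perm (Fin n) → ℂ) a =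
      ∑ η ∈ P, (m η : ℂ) * (η : alternatingGroup (Fin n) → ℂ) a := fun a => by
    rw [hm a, hP, sum_filter]
    exact sum_congr rfl fun η _ => by split_ifs with h <;> simp_all
  have hsumP : ∑ η, m η * m η = ∑ η ∈ P, m η * m η := by
    rw [hP, sum_filter]
    exact sum_congr rfl fun η _ => by split_ifs with h <;> simp_all
  have hle : P.card ≤ ∑ η, m η * m η := by
    rw [hsumP, card_eq_sum_ones]
    exact sum_le_sum fun η hη => Nat.mul_pos (Nat.pos_of_ne_zero (mem_filter.1 hη).2)
      (Nat.pos_of_ne_zero (mem_filter.1 hη).2)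
  constructor
  · intro hfix
    rw [if_neg hfix] at hnorm
    have hsum1 : ∑ η, m η * m η = 1 := by exact_mod_cast hnorm
    obtain ⟨χ₁, hχ₁⟩ : ∃ χ₁, P = {χ₁} := card_eq_one.1 (le_antisymm (by omega) (by
      rw [Nat.one_le_iff_ne_zero]
      intro h
      rw [hsumP, card_eq_zero.1 h, sum_empty] at hsum1
      omega))
    have hm1 : m χ₁ = 1 := by
      rw [hsumP, hχ₁, sum_singleton] at hsum1
      exact Nat.eq_one_of_mul_eq_one_right hsum1
    refine ⟨χ₁, fun χ => ?_, fun a => ?_⟩
    · rw [hover, ← mem_singleton, ← hχ₁, hP, mem_filter]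
      exact ⟨fun h => ⟨mem_univ _, h⟩, fun h => h.2⟩
    · rw [hval, hχ₁, sum_singleton, hm1, Nat.cast_one, one_mul]
  · intro hfix
    rw [if_pos hfix] at hnorm
    have hsum2 : ∑ η, m η * m η = 2 := by exact_mod_cast hnorm
    have hone : ∀ η ∈ P, m η = 1 := by
      intro η hη
      by_contra h
      have h0 := (mem_filter.1 hη).2
      have : m η * m η ≤ ∑ η, m η * m η :=
        single_le_sum (f := fun η => m η * m η) (fun _ _ => Nat.zero_le _) (mem_univ η)
      have : 2 * 2 ≤ m η * m η := Nat.mul_le_mul (by omega) (by omega)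
      omega
    have hcard : P.card = 2 := by
      rw [hsumP, sum_congr rfl fun η hη => by rw [hone η hη], sum_const, smul_eq_mul] at hsum2
      omega
    obtain ⟨χ₁, χ₂, hne, h12⟩ := card_eq_two.1 hcard
    refine ⟨χ₁, χ₂, hne, fun χ => ?_, fun a => ?_⟩
    · rw [hover, show (χ = χ₁ ∨ χ = χ₂) ↔ χ ∈ P by simp [h12], hP, mem_filter]
      exact ⟨fun h => ⟨mem_univ _, h⟩, fun h => h.2⟩
    · rw [hval, h12, sum_pair hne, hone χ₁ (by simp [h12]), hone χ₂ (by simp [h12]), Nat.cast_one,
        one_mul, one_mul]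

variable [hp : Fact p.Prime]

/-- The regular norm of a character of the alternating group. -/
noncomputable def altNorm (p : ℕ) (χ : IrrCharacter ↥(alternatingGroup (Fin n))) : ℝ :=
  (∑ a : alternatingGroup (Fin n), if RegParts p (parts (a : Perm (Fin n))) then
    Complex.normSq ((χ : alternatingGroup (Fin n) → ℂ) a) else 0) /
    Nat.card (alternatingGroup (Fin n))

/-- The regular norm of a weight set. -/
noncomputable def setNorm (p : ℕ) (S : ↥(wSets N n)) : ℝ := (regNorm p S : ℝ) / n !

theorem setNorm_nonneg (S : ↥(wSets N n)) : 0 ≤ setNorm p S :=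
  div_nonneg (Int.cast_nonneg (regNorm_nonneg S)) (Nat.cast_nonneg _)

theorem altNorm_nonneg (χ : IrrCharacter ↥(alternatingGroup (Fin n))) : 0 ≤ altNorm p χ :=
  div_nonneg (sum_nonneg fun a _ => by split_ifs <;> simp [Complex.normSq_nonneg])
    (Nat.cast_nonneg _)

theorem coe_altNorm (χ : IrrCharacter ↥(alternatingGroup (Fin n))) :
    (altNorm p χ : ℂ) = regInner p (χ : alternatingGroup (Fin n) → ℂ) χ := by
  classical
  rw [altNorm, regInner, classInner, Complex.ofReal_div, Complex.ofReal_sum,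
    Complex.ofReal_natCast, div_eq_inv_mul]
  congr 1
  refine sum_congr rfl fun a _ => ?_
  rw [pRegularPart_apply, ← Subgroup.orderOf_coe]
  by_cases h : RegParts p (parts (a : Perm (Fin n)))
  · rw [if_pos h, if_neg ((not_dvd_orderOf_iff hp.out _).2 h), Complex.mul_conj]
  · rw [if_neg h, if_pos (not_not.1 fun h' => h ((not_dvd_orderOf_iff hp.out _).1 h'))]
    simp

/-- The real regular sum of squares over the alternating group. -/
theorem sum_alt_reg_sq (hn : 2 ≤ n) (S : ↥(wSets N n)) :
    ((∑ a : alternatingGroup (Fin n), if RegParts p (parts (a : Perm (Fin n))) then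
        (F (parts (a : Perm (Fin n))) (tup S) : ℝ) ^ 2 else 0) : ℝ) /
      Nat.card (alternatingGroup (Fin n)) =
    setNorm p S + ((∑ g ∈ regPerms p n, (Perm.sign g : ℤ) *
      (F (parts g) (tup S) * F (parts g) (tup S)) : ℤ) : ℝ) / n ! := by
  classical
  have h0 : (Nat.card (alternatingGroup (Fin n)) : ℝ) ≠ 0 := Nat.cast_ne_zero.2 Nat.card_pos.ne'
  have h2 : (n ! : ℝ) = 2 * (Nat.card (alternatingGroup (Fin n)) : ℝ) := by
    rw [← two_mul_card_alt hn]; push_cast; ring
  apply Complex.ofReal_injective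
  push_cast
  rw [show (n ! : ℂ) = 2 * (Nat.card (alternatingGroup (Fin n)) : ℂ) by
    rw [← two_mul_card_alt hn]; push_cast; ring]
  have hf := sum_alt_eq fun g : Perm (Fin n) =>
    if RegParts p (parts g) then (F (parts g) (tup S) : ℂ) ^ 2 else 0
  simp only [apply_ite Complex.ofReal, Complex.ofReal_pow, Complex.ofReal_intCast,
    Complex.ofReal_zero]
  rw [hf]
  simp only [setNorm, regNorm, regPerms, sum_filter, mul_ite, mul_zero]
  push_cast
  rw [show (n ! : ℂ) = 2 * (Nat.card (alternatingGroup (Fin n)) : ℂ) by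
    rw [← two_mul_card_alt hn]; push_cast; ring]
  rw [div_div, ← add_div]
  congr 1
  congr 1 <;> refine sum_congr rfl fun x _ => ?_ <;> split_ifs <;> push_cast <;> ring

theorem sum_sign_reg_eq_zero (hN : n ≤ N) {S : ↥(wSets N n)}
    (hne : runLen (p := p) (flipW hN S : Finset ℕ) ≠ runLen (p := p) (S : Finset ℕ)) :
    (∑ g ∈ regPerms p n, (Perm.sign g : ℤ) * (F (parts g) (tup S) * F (parts g) (tup S))) = 0 := by
  have h := sum_regPerms_eq_zero (p := p) hN hne
  simp only [theta_flipW] at h
  refine Int.cast_injective (α := ℂ) ?_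
  push_cast
  rw [← h]
  exact sum_congr rfl fun g _ => by rw [theta]; ring

theorem sum_sign_reg_le (S : ↥(wSets N n)) :
    (∑ g ∈ regPerms p n, (Perm.sign g : ℤ) * (F (parts g) (tup S) * F (parts g) (tup S))) ≤
      regNorm p S := by
  refine sum_le_sum fun g _ => ?_
  rcases Int.units_eq_one_or (Perm.sign g) with h | h <;> rw [h]
  · simp
  · simp only [Units.val_neg, Units.val_one, neg_one_mul]
    have := mul_self_nonneg (F (parts g) (tup S))
    omega

theorem setNorm_flipW (hN : n ≤ N) (S : ↥(wSets N n)) :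
    setNorm p (flipW hN S) = setNorm p S := by
  rw [setNorm, setNorm, regNorm, regNorm]
  congr 2
  refine sum_congr rfl fun g _ => ?_
  have h := theta_flipW hN S g
  rw [theta, theta, ← Int.cast_mul, Int.cast_inj] at h
  rw [h]
  rcases Int.units_eq_one_or (Perm.sign g) with h | h <;> simp [h]

theorem chi_normSq (S : ↥(wSets N n)) (g : Perm (Fin n)) :
    Complex.normSq ((chi S : Perm (Fin n) → ℂ) g) = (F (parts g) (tup S) : ℝ) ^ 2 := by
  apply Complex.ofReal_injective
  rw [← Complex.mul_conj, sum_chi_mul_conj]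
  simp [theta, sq]

theorem altNorm_le_of_not_fixed (hN : n ≤ N) (hn : 2 ≤ n) {S : ↥(wSets N n)}
    (hfix : flipW hN S ≠ S) {χ : IrrCharacter ↥(alternatingGroup (Fin n))} (h : Over S χ) :
    (runLen (p := p) (flipW hN S : Finset ℕ) ≠ runLen (p := p) (S : Finset ℕ) →
        altNorm p χ = setNorm p S) ∧
      altNorm p χ ≤ setNorm p S + setNorm p (flipW hN S) := by
  classical
  obtain ⟨χ₁, hover, hval⟩ := (res_cases hN hn S).1 hfix
  obtain rfl := (hover χ).1 h
  have e : altNorm p χ = setNorm p S + ((∑ g ∈ regPerms p n, (Perm.sign g : ℤ) *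
      (F (parts g) (tup S) * F (parts g) (tup S)) : ℤ) : ℝ) / n ! := by
    rw [← sum_alt_reg_sq hn S, altNorm]
    congr 1
    exact sum_congr rfl fun a _ => by rw [hval, chi_normSq]
  refine ⟨fun hne => by rw [e, sum_sign_reg_eq_zero hN hne]; simp, ?_⟩
  rw [e, setNorm_flipW, add_le_add_iff_left, setNorm]
  exact div_le_div_of_nonneg_right (Int.cast_le.2 (sum_sign_reg_le S)) (Nat.cast_nonneg _)

theorem sum_normSq_irr {G : Type*} [Group G] [Fintype G] (χ : IrrCharacter G) :
    ∑ g, Complex.normSq ((χ : G → ℂ) g) = (Fintype.card G : ℝ) := by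
  have h := classInner_self_of_isIrr χ.2
  rw [classInner, inv_mul_eq_iff_eq_mul₀ (Nat.cast_ne_zero.2 Nat.card_pos.ne'), mul_one] at h
  apply Complex.ofReal_injective
  rw [Complex.ofReal_sum, Complex.ofReal_natCast, ← Nat.card_eq_fintype_card, ← h]
  exact sum_congr rfl fun g _ => (Complex.mul_conj _).symm

theorem sum_altNorm_fixed_le (hN : n ≤ N) (hn : 2 ≤ n) {S : ↥(wSets N n)}
    (hfix : flipW hN S = S) {χ₁ χ₂ : IrrCharacter ↥(alternatingGroup (Fin n))}
    (hval : ∀ a : alternatingGroup (Fin n), (χ₁ : alternatingGroup (Fin n) → ℂ) a +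
      (χ₂ : alternatingGroup (Fin n) → ℂ) a = (chi S : Perm (Fin n) → ℂ) a) :
    altNorm p χ₁ + altNorm p χ₂ ≤ setNorm p S + 1 := by
  classical
  set cA : ℝ := (Nat.card (alternatingGroup (Fin n)) : ℝ) with hcA
  have hcpos : 0 < cA := Nat.cast_pos.2 Nat.card_pos
  set δ   : alternatingGroup (Fin n) → ℝ := fun a => Complex.normSq ((χ₁ : alternatingGroup (Fin n) → ℂ) a - (χ₂ : alternatingGroup (Fin n) → ℂ) a) with hδ
  set q   : alternatingGroup (Fin n) → ℝ := fun a => (F (parts (a : Perm (Fin n))) (tup S) : ℝ) ^ 2 with hq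
  have hpar : ∀ a : alternatingGroup (Fin n), 2 * (Complex.normSq ((χ₁ : alternatingGroup (Fin n) → ℂ) a) + Complex.normSq ((χ₂ : alternatingGroup (Fin n) → ℂ) a)) =
      q a + δ a := by
    intro a
    simp only [hq, hδ]
    rw [← chi_normSq S, ← hval a]
    simp only [Complex.normSq_apply, Complex.add_re, Complex.add_im, Complex.sub_re, Complex.sub_im]
    ring
  have hq' : (∑ a : alternatingGroup (Fin n), if RegParts p (parts (a : Perm (Fin n))) then q a else 0) / cA ≤
      2 * setNorm p S := by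
    rw [hq, hcA, sum_alt_reg_sq hn S, two_mul, add_le_add_iff_left, setNorm]
    exact div_le_div_of_nonneg_right (Int.cast_le.2 (sum_sign_reg_le S)) (Nat.cast_nonneg _)
  have hqall : ∑ a : alternatingGroup (Fin n), q a = 2 * cA := by
    apply Complex.ofReal_injective
    have h := classInner_res_self hN hn S
    rw [if_pos hfix, classInner, inv_mul_eq_iff_eq_mul₀
      (Nat.cast_ne_zero.2 Nat.card_pos.ne')] at h
    simp only [hq, ← chi_normSq, Complex.ofReal_sum, ← Complex.mul_conj]
    rw [h, hcA]; push_cast; ring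
  have hδall : ∑ a : alternatingGroup (Fin n), δ a = 2 * cA := by
    have h1 : ∑ a : alternatingGroup (Fin n), 2 * (Complex.normSq ((χ₁ : alternatingGroup (Fin n) → ℂ) a) +
        Complex.normSq ((χ₂ : alternatingGroup (Fin n) → ℂ) a)) = ∑ a : alternatingGroup (Fin n), (q a + δ a) :=
      sum_congr rfl fun a _ => hpar a
    rw [← mul_sum, sum_add_distrib, sum_add_distrib, sum_normSq_irr, sum_normSq_irr, hqall,
      ← Nat.card_eq_fintype_card, ← hcA] at h1
    linarith
  have hmain : 2 * (altNorm p χ₁ + altNorm p χ₂) ≤ 2 * setNorm p S + 2 := by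
    have e : 2 * (altNorm p χ₁ + altNorm p χ₂) =
        (∑ a : alternatingGroup (Fin n), if RegParts p (parts (a : Perm (Fin n))) then q a else 0) / cA +
        (∑ a : alternatingGroup (Fin n), if RegParts p (parts (a : Perm (Fin n))) then δ a else 0) / cA := by
      rw [altNorm, altNorm, ← add_div, ← add_div, mul_div_assoc', ← sum_add_distrib, mul_sum,
        ← sum_add_distrib]
      congr 1
      exact sum_congr rfl fun a _ => by
        split_ifs
        · exact hpar a
        · ring
    have hδ' : (∑ a : alternatingGroup (Fin n), if RegParts p (parts (a : Perm (Fin n))) then δ a else 0) / cA ≤ 2 := by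
      rw [div_le_iff₀ hcpos, ← hδall]
      exact sum_le_sum fun a _ => by
        split_ifs
        · exact le_rfl
        · exact Complex.normSq_nonneg _
    linarith
  linarith

variable {M : Ideal AlgInt} {B : Set (IrrCharacter ↥(alternatingGroup (Fin n)))}

theorem sameBlock_flipW (hN : n ≤ N) [M.IsPrime] {S U : ↥(wSets N n)}
    (h : SameBlock M (chi S : Perm (Fin n) → ℂ) (chi U : Perm (Fin n) → ℂ)) :
    SameBlock M (chi (flipW hN S) : Perm (Fin n) → ℂ) (chi (flipW hN U) : Perm (Fin n) → ℂ) := by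
  intro g
  have key : ∀ V : ↥(wSets N n), centralChar (chi (flipW hN V) : Perm (Fin n) → ℂ) g =
      ((Perm.sign g : ℤ) : ℂ) * centralChar (chi V : Perm (Fin n) → ℂ) g := by
    intro V
    simp only [centralChar, chi_apply, theta_flipW, map_one]
    have h1 : sgn (flipW hN V) ≠ 0 := fun h => by simpa [h] using sgn_mul_self (flipW hN V)
    have h2 : sgn V ≠ 0 := fun h => by simpa [h] using sgn_mul_self V
    rw [Units.val_one, Int.cast_one, one_mul]
    field_simp
  rw [key, key, ← mul_sub]
  rcases Int.units_eq_one_or (Perm.sign g) with h' | h' <;> rw [h']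
  · simpa using h g
  · simpa using Blocks.memLocalIdeal_neg (h g)

/-- All members of a block lie under weight sets of one core. -/
theorem exists_core_alt [M.IsPrime] (hM : IsPModular p M) (hB : IsPBlock M B) (hN : n ≤ N)
    {χ₀ : IrrCharacter ↥(alternatingGroup (Fin n))} (hχ₀ : χ₀ ∈ B) {U₀ : ↥(wSets N n)}
    (hU₀ : Over U₀ χ₀) :
    ∀ χ ∈ B, ∃ S ∈ coreSets p N n (runLen (p := p) (U₀ : Finset ℕ)), Over S χ := by
  classical
  haveI := Fintype.ofFinite (IrrCharacter (Perm (Fin n)))
  intro χ hχ
  obtain ⟨V, hV⟩ := exists_over_set hN χ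
  set X : Finset (IrrCharacter (Perm (Fin n))) := univ.filter fun ψ =>
    SameBlock M (chi U₀ : Perm (Fin n) → ℂ) (ψ : Perm (Fin n) → ℂ) ∨
      SameBlock M (chi (flipW hN U₀) : Perm (Fin n) → ℂ) (ψ : Perm (Fin n) → ℂ) with hX
  have hclosed : ∀ ψ ∈ X, ∀ ζ : IrrCharacter (Perm (Fin n)),
      SameBlock M (ψ : Perm (Fin n) → ℂ) (ζ : Perm (Fin n) → ℂ) → ζ ∈ X := by
    intro ψ hψ ζ hζ
    refine mem_filter.2 ⟨mem_univ _, ?_⟩
    rcases (mem_filter.1 hψ).2 with h | h
    · exact Or.inl (Blocks.sameBlock_trans h hζ)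
    · exact Or.inr (Blocks.sameBlock_trans h hζ)
  set T := X.map (chiEquiv hN).symm.toEmbedding with hT
  have hmemT : ∀ S, S ∈ T ↔ chi S ∈ X := fun S => by
    rw [hT, mem_map_equiv, Equiv.symm_symm]; rfl
  have hflipT : ∀ S ∈ T, flipW hN S ∈ T := by
    intro S hS
    rw [hmemT] at hS ⊢
    refine mem_filter.2 ⟨mem_univ _, ?_⟩
    rcases (mem_filter.1 hS).2 with h | h
    · exact Or.inr (sameBlock_flipW hN h)
    · refine Or.inl ?_
      have h' := sameBlock_flipW hN h
      rwa [flipW_flipW] at h'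
  set a : Perm (Fin n) → ℂ := BlockLocal.coeffSet X with ha
  have hodd : ∀ x : Perm (Fin n), x ∉ alternatingGroup (Fin n) → a x = 0 := by
    intro x hx
    have hs : Perm.sign x = -1 := (Int.units_eq_one_or _).resolve_left fun h =>
      hx (Perm.mem_alternatingGroup.2 h)
    have hterm : ∀ V : ↥(wSets N n), (chi V : Perm (Fin n) → ℂ) 1 *
        (chi V : Perm (Fin n) → ℂ) x⁻¹ = theta V 1 * theta V x⁻¹ := fun V => by
      rw [chi_apply, chi_apply]
      calc _ = sgn V * sgn V * (theta V 1 * theta V x⁻¹) := by ring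
        _ = _ := by rw [sgn_mul_self, one_mul]
    have hsumT : ∑ η ∈ X, (η : Perm (Fin n) → ℂ) 1 * (η : Perm (Fin n) → ℂ) x⁻¹ =
        ∑ V ∈ T, theta V 1 * theta V x⁻¹ := by
      rw [hT, sum_map]
      refine sum_congr rfl fun η _ => ?_
      rw [← hterm, Equiv.coe_toEmbedding, chi_symm]
    have hneg : ∑ V ∈ T, theta V 1 * theta V x⁻¹ = -∑ V ∈ T, theta V 1 * theta V x⁻¹ := by
      conv_lhs => rw [sum_bij' (fun V _ => flipW hN V) (fun V _ => flipW hN V) hflipT hflipT
        (fun V _ => flipW_flipW hN V) (fun V _ => flipW_flipW hN V) (g := fun V =>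
          theta (flipW hN V) 1 * theta (flipW hN V) x⁻¹) (fun V _ => by rw [flipW_flipW])]
      rw [← sum_neg_distrib]
      refine sum_congr rfl fun V _ => ?_
      rw [theta_flipW, theta_flipW, map_one, map_inv, hs, Int.units_inv_eq_self]
      push_cast
      ring
    rw [ha, BlockLocal.coeffSet, hsumT]
    have h0 : ∑ V ∈ T, theta V 1 * theta V x⁻¹ = 0 := by linear_combination hneg / 2
    rw [h0, mul_zero]
  have hclass := BlockLocal.isClassFunction_coeffSet X
  have hloc := BlockLocal.memLocalRing_coeffSet_of_closed (M := M) X hclosed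
  have h1 := BlockLocal.sum_coeffSet_mul_div X (chi U₀)
  have h2 := BlockLocal.sum_coeffSet_mul_div X (chi V)
  rw [BlockLocal.sum_mul_div_eq_of_constituent _ hU₀ hclass hodd] at h1
  rw [BlockLocal.sum_mul_div_eq_of_constituent _ hV hclass hodd] at h2
  have hcong := BlockLocal.memLocalIdeal_sum_sub_of_sameBlock
    (IsIrrCharacter.isClassFunction χ₀.2) (IsIrrCharacter.isClassFunction χ.2)
    (Blocks.sameBlock_of_mem hB hχ₀ hχ)
    (a := fun m : alternatingGroup (Fin n) => BlockLocal.coeffSet X (m : Perm (Fin n)))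
    (fun m c => hclass (m : Perm (Fin n)) (c : Perm (Fin n))) (fun m => hloc _)
  rw [h1, h2, if_pos (mem_filter.2 ⟨mem_univ _, Or.inl (Blocks.sameBlock_refl _)⟩ :
    chi U₀ ∈ X)] at hcong
  have hVX : chi V ∈ X := by
    by_contra h
    rw [if_neg h, sub_zero] at hcong
    exact Blocks.not_memLocalIdeal_one hcong
  obtain ⟨S, hS, hover⟩ : ∃ S : ↥(wSets N n),
      SameBlock M (chi U₀ : Perm (Fin n) → ℂ) (chi S : Perm (Fin n) → ℂ) ∧ Over S χ := by
    rcases (mem_filter.1 hVX).2 with h | h
    · exact ⟨V, h, hV⟩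
    · refine ⟨flipW hN V, ?_, over_flipW hN hV⟩
      have h' := sameBlock_flipW hN h
      rwa [flipW_flipW] at h'
  refine ⟨S, ?_, hover⟩
  have hBU := Blocks.isPBlock_blockOf (M := M) (chi U₀)
  obtain ⟨S₀, -, hcore⟩ := exists_core hM hBU hN
  have hU := mem_coreSets.1 (hcore (chi U₀) (Blocks.mem_blockOf_self _))
  have hS' := mem_coreSets.1 (hcore (chi S) hS)
  rw [show (chiEquiv hN).symm (chi U₀) = U₀ from (chiEquiv hN).symm_apply_apply U₀] at hU
  rw [show (chiEquiv hN).symm (chi S) = S from (chiEquiv hN).symm_apply_apply S] at hS'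
  rw [mem_coreSets, hS', hU]

/-- The self-conjugate weight sets of a core. -/
noncomputable def fixedSets (hN : n ≤ N) (c : Fin p → ℕ) : Finset ↥(wSets N n) :=
  (coreSets p N n c).filter fun S => flipW hN S = S

/-- The rank of a block of the alternating group under a core. -/
theorem blockRank_alt_le [M.IsPrime] (hM : IsPModular p M) (hB : IsPBlock M B) (hN : n ≤ N)
    (hn : 2 ≤ n) (c : Fin p → ℕ) (hc : ∀ χ ∈ B, ∃ S ∈ coreSets p N n c, Over S χ) :
    (blockRank p B : ℝ) ≤ ∑ S ∈ coreSets p N n c, setNorm p S + (fixedSets hN c).card := by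
  classical
  haveI : M.IsMaximal := hM.2.1
  haveI := Fintype.ofFinite (IrrCharacter ↥(alternatingGroup (Fin n)))
  have hrank : (blockRank p B : ℝ) = ∑ χ ∈ blockFinset B, altNorm p χ := by
    apply Complex.ofReal_injective
    rw [Complex.ofReal_natCast, Complex.ofReal_sum,
      ← sum_regInner_self_eq_blockRank (weakOrth hM hB)]
    exact sum_congr rfl fun χ _ => (coe_altNorm χ).symm
  let v : ↥(wSets N n) → IrrCharacter ↥(alternatingGroup (Fin n)) → ℝ := fun S χ =>
    if Over S χ then (if flipW hN S = S then altNorm p χ else setNorm p S) else 0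
  have hv : ∀ S χ, 0 ≤ v S χ := fun S χ => by
    simp only [v]
    split_ifs
    · exact altNorm_nonneg χ
    · exact setNorm_nonneg S
    · exact le_rfl
  have h1 : ∀ χ ∈ blockFinset B, altNorm p χ ≤ ∑ S ∈ coreSets p N n c, v S χ := by
    intro χ hχ
    obtain ⟨S, hS, hover⟩ := hc χ (mem_blockFinset.1 hχ)
    by_cases hfix : flipW hN S = S
    · calc altNorm p χ = v S χ := by simp [v, hover, hfix]
        _ ≤ _ := single_le_sum (f := fun S => v S χ) (fun S _ => hv S χ) hS
    · have hb := altNorm_le_of_not_fixed (p := p) hN hn hfix hover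
      by_cases hcore : flipW hN S ∈ coreSets p N n c
      · have hfix' : flipW hN (flipW hN S) ≠ flipW hN S := by
          rw [flipW_flipW]; exact Ne.symm hfix
        calc altNorm p χ ≤ v S χ + v (flipW hN S) χ := by
              simp only [v, if_pos hover, if_neg hfix, if_pos (over_flipW hN hover), if_neg hfix']
              exact hb.2
          _ = ∑ S' ∈ ({S, flipW hN S} : Finset _), v S' χ :=
            (sum_pair (f := fun S' => v S' χ) (Ne.symm hfix)).symm
          _ ≤ _ := sum_le_sum_of_subset_of_nonneg (by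
              intro x hx
              rcases mem_insert.1 hx with rfl | hx
              · exact hS
              · rw [mem_singleton.1 hx]; exact hcore) fun S' _ _ => hv S' χ
      · calc altNorm p χ = v S χ := by
              simp only [v, if_pos hover, if_neg hfix]
              refine hb.1 fun e => hcore ?_
              rw [mem_coreSets, e, mem_coreSets.1 hS]
          _ ≤ _ := single_le_sum (f := fun S => v S χ) (fun S _ => hv S χ) hS
  have h2 : ∀ S : ↥(wSets N n), ∑ χ, v S χ ≤
      setNorm p S + if flipW hN S = S then 1 else 0 := by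
    intro S
    by_cases hfix : flipW hN S = S
    · obtain ⟨χ₁, χ₂, hne, hover, hval⟩ := (res_cases hN hn S).2 hfix
      simp only [v, if_pos hfix, hover]
      rw [← sum_filter, show univ.filter (fun χ => χ = χ₁ ∨ χ = χ₂) = {χ₁, χ₂} by ext; simp,
        sum_pair hne]
      exact sum_altNorm_fixed_le hN hn hfix hval
    · obtain ⟨χ₁, hover, -⟩ := (res_cases hN hn S).1 hfix
      simp [v, hfix, hover]
  rw [hrank, fixedSets, card_filter, Nat.cast_sum, ← sum_add_distrib]
  calc ∑ χ ∈ blockFinset B, altNorm p χ ≤ ∑ χ ∈ blockFinset B, ∑ S ∈ coreSets p N n c, v S χ :=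
        sum_le_sum h1
    _ = ∑ S ∈ coreSets p N n c, ∑ χ ∈ blockFinset B, v S χ := sum_comm
    _ ≤ _ := sum_le_sum fun S _ => (sum_le_sum_of_subset_of_nonneg (subset_univ _)
        fun χ _ _ => hv S χ).trans ((h2 S).trans_eq (by split_ifs <;> simp))

/-- The number of members of a block under a core invariant under conjugation. -/
theorem two_mul_card_block_le (hN : n ≤ N) (hn : 2 ≤ n) (c : Fin p → ℕ)
    (hc : ∀ χ ∈ B, ∃ S ∈ coreSets p N n c, Over S χ)
    (hinv : ∀ S ∈ coreSets p N n c, flipW hN S ∈ coreSets p N n c) :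
    2 * Nat.card B ≤ (coreSets p N n c).card + 3 * (fixedSets hN c).card := by
  classical
  haveI := Fintype.ofFinite (IrrCharacter ↥(alternatingGroup (Fin n)))
  let v : ↥(wSets N n) → IrrCharacter ↥(alternatingGroup (Fin n)) → ℕ := fun S χ =>
    if Over S χ then (if flipW hN S = S then 2 else 1) else 0
  have h1 : ∀ χ ∈ blockFinset B, 2 ≤ ∑ S ∈ coreSets p N n c, v S χ := by
    intro χ hχ
    obtain ⟨S, hS, hover⟩ := hc χ (mem_blockFinset.1 hχ)
    by_cases hfix : flipW hN S = S
    · calc 2 = v S χ := by simp [v, hover, hfix]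
        _ ≤ _ := single_le_sum (f := fun S => v S χ) (fun S _ => Nat.zero_le _) hS
    · have hfix' : flipW hN (flipW hN S) ≠ flipW hN S := by
        rw [flipW_flipW]; exact Ne.symm hfix
      calc 2 = ∑ S' ∈ ({S, flipW hN S} : Finset _), v S' χ := by
            rw [sum_pair (Ne.symm hfix)]
            simp [v, hover, hfix, over_flipW hN hover, hfix']
        _ ≤ _ := sum_le_sum_of_subset (by
            intro x hx
            rcases mem_insert.1 hx with rfl | hx
            · exact hS
            · rw [mem_singleton.1 hx]; exact hinv S hS)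
  have h2 : ∀ S : ↥(wSets N n), ∑ χ, v S χ = 1 + if flipW hN S = S then 3 else 0 := by
    intro S
    by_cases hfix : flipW hN S = S
    · obtain ⟨χ₁, χ₂, hne, hover, -⟩ := (res_cases hN hn S).2 hfix
      simp only [v, if_pos hfix, hover]
      rw [← sum_filter, show univ.filter (fun χ => χ = χ₁ ∨ χ = χ₂) = {χ₁, χ₂} by ext; simp,
        sum_pair hne]
    · obtain ⟨χ₁, hover, -⟩ := (res_cases hN hn S).1 hfix
      simp [v, hfix, hover]
  rw [fixedSets, card_filter, mul_sum, card_eq_sum_ones, ← sum_add_distrib,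
    ← card_blockFinset, card_eq_sum_ones (blockFinset B), mul_sum]
  calc ∑ χ ∈ blockFinset B, 2 * 1 ≤ ∑ χ ∈ blockFinset B, ∑ S ∈ coreSets p N n c, v S χ :=
        sum_le_sum fun χ hχ => by simpa using h1 χ hχ
    _ = ∑ S ∈ coreSets p N n c, ∑ χ ∈ blockFinset B, v S χ := sum_comm
    _ ≤ _ := sum_le_sum fun S _ => (sum_le_sum_of_subset (subset_univ _)).trans_eq
        ((h2 S).trans (by split_ifs <;> simp))

end CfsgLib.SymChar
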