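import Cfsg.Agent.Lib.Blocks.OneSubsection
import Cfsg.Agent.Lib.Blocks.Sections

/-!
# Defect groups swallow normal `p`-subgroups of centralizers where a character does not vanish
-/

set_option autoImplicit false
set_option linter.style.haveILetI false

namespace CfsgLib.SymChar

open Cfsg CfsgLib.Blocks

variable {G : Type*} [Group G] [Finite G] {p : ℕ} [hp : Fact p.Prime] {M : Ideal AlgInt}
  [M.IsPrime] {B : Set (IrrCharacter G)} {D : Subgroup G}

/-- If a character does not vanish at the `p`-element `x`, every normal `p`-subgroup of the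
centralizer of `x` centralizes some member of each class with invertible central character. -/
theorem exists_conj_le_centralizer (hM : IsPModular p M) {χ : IrrCharacter G} {x : G}
    (hx : ∃ k : ℕ, orderOf x = p ^ k) (hne : (χ : G → ℂ) x ≠ 0) {E : Subgroup G}
    (hE : IsPGroup p E) (hEC : E ≤ Subgroup.centralizer ({x} : Set G))
    (hEn : ∀ h ∈ Subgroup.centralizer ({x} : Set G), ∀ e ∈ E, h * e * h⁻¹ ∈ E)
    {y : G} (hy : ¬ MemLocalIdeal M (centralChar (χ : G → ℂ) y)) :
    ∃ c : G, E.map (MulAut.conj c).toMonoidHom ≤ Subgroup.centralizer ({y} : Set G) := by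
  classical
  haveI := Fintype.ofFinite G
  set C := Subgroup.centralizer ({x} : Set G) with hCdef
  have hxp : IsPPart p x x := ⟨1, mul_one x, Commute.one_right x, hx, by
    rw [orderOf_one]; exact fun h => hp.out.one_lt.ne' (Nat.dvd_one.1 h)⟩
  have hB := isPBlock_blockOf (M := M) χ
  have hχ := mem_blockOf_self (M := M) χ
  obtain ⟨D', hD', hxD'⟩ : ∃ D', IsDefectGroup p M (blockOf M (χ : G → ℂ)) D' ∧ x ∈ D' := by
    by_contra h
    push Not at h
    exact hne (irr_eq_zero_of_isPPart_notMem hM χ hxp h)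
  obtain ⟨b, hb, -, hind⟩ := OneSubsection.sect_of_mem_defect hM hB hD' hxD'
  obtain ⟨ξ, hξ⟩ := isPBlock_nonempty hb
  have h1 : ¬ MemLocalIdeal M (inducedCentralChar C (ξ : C → ℂ) y) := fun h =>
    hy (by simpa using memLocalIdeal_sub h (show MemLocalIdeal M
      (inducedCentralChar C (ξ : C → ℂ) y - centralChar (χ : G → ℂ) y) from hind ξ hξ χ hχ y))
  obtain ⟨h₀, hh₀, hne₀⟩ : ∃ h₀ : C, IsConj y (h₀ : G) ∧
      ¬ MemLocalIdeal M (centralChar (ξ : C → ℂ) h₀) := by
    by_contra hall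
    push Not at hall
    apply h1
    haveI : Fintype C := Fintype.ofFinite _
    rw [inducedCentralChar, finsum_mem_eq_finite_toFinset_sum _ (Set.toFinite _),
      ← Finset.sum_fiberwise_of_maps_to (g := ConjClasses.mk)
        (t := ((Set.toFinite {h : C | IsConj y (h : G)}).toFinset).image ConjClasses.mk)
        fun h hh => Finset.mem_image_of_mem _ hh]
    refine memLocalIdeal_sum fun K hK => ?_
    obtain ⟨h₀, hh₀, rfl⟩ := Finset.mem_image.1 hK
    have hh₀' : IsConj y (h₀ : G) := by simpa using hh₀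
    rw [show ((Set.toFinite {h : C | IsConj y (h : G)}).toFinset).filter
        (fun h => ConjClasses.mk h = ConjClasses.mk h₀) = Finset.univ.filter (IsConj h₀) from ?_]
    · rw [Finset.sum_congr rfl (g := fun _ => (ξ : C → ℂ) h₀ / (ξ : C → ℂ) 1) fun h hh => by
        obtain ⟨c, hc⟩ := isConj_iff.1 (Finset.mem_filter.1 hh).2
        rw [← hc, CharTheory.IsIrrCharacter.isClassFunction ξ.2],
        Finset.sum_const, nsmul_eq_mul, ← Fintype.card_subtype, ← Nat.card_eq_fintype_card,
        CharTheory.card_isConj, ← mul_div_assoc]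
      exact hall h₀ hh₀'
    · ext h
      simp only [Finset.mem_filter, Set.Finite.mem_toFinset, Set.mem_ofPred_eq, Finset.mem_univ,
        true_and, ConjClasses.mk_eq_mk_iff_isConj]
      refine ⟨fun hh => hh.2.symm, fun hh => ⟨hh₀'.trans ?_, hh.symm⟩⟩
      obtain ⟨c, hc⟩ := isConj_iff.1 hh
      exact isConj_iff.2 ⟨(c : G), by rw [← hc]; rfl⟩
  have hcent := mem_centralizer_pCore hM hne₀
  have hEh : E ≤ Subgroup.centralizer ({(h₀ : G)} : Set G) := by
    intro e he
    rw [Subgroup.mem_centralizer_singleton_iff]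
    have hN : (E.subgroupOf C).Normal :=
      ⟨fun n hn g => Subgroup.mem_subgroupOf.2 (hEn (g : G) g.2 (n : G) hn)⟩
    have hle : E.subgroupOf C ≤ pCore p C :=
      le_sSup ⟨hN, hE.comap_of_injective C.subtype Subtype.val_injective⟩
    exact congrArg Subtype.val (Subgroup.mem_centralizer_iff.1 hcent ⟨e, hEC he⟩ (hle he))
  obtain ⟨c, hc⟩ := isConj_iff.1 hh₀
  refine ⟨c⁻¹, ?_⟩
  rintro _ ⟨e, he, rfl⟩
  have h := Subgroup.mem_centralizer_singleton_iff.1 (hEh he)
  rw [← hc] at h
  rw [Subgroup.mem_centralizer_singleton_iff, MulEquiv.coe_toMonoidHom, MulAut.conj_apply,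
    inv_inv]
  calc c⁻¹ * e * c * y = c⁻¹ * (e * (c * y * c⁻¹)) * c := by group
    _ = c⁻¹ * (c * y * c⁻¹ * e) * c := by rw [h]
    _ = y * (c⁻¹ * e * c) := by group

/-- A `p`-subgroup centralizing a conjugate of a defect class is conjugate into the defect group. -/
theorem exists_conj_le_sylow_map {y : G} (P : Sylow p (Subgroup.centralizer ({y} : Set G)))
    {Q : Subgroup G} (hQ : IsPGroup p Q) (hle : Q ≤ Subgroup.centralizer ({y} : Set G)) :
    ∃ d : G, Q.map (MulAut.conj d).toMonoidHom ≤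
      (P : Subgroup (Subgroup.centralizer ({y} : Set G))).map
        (Subgroup.centralizer ({y} : Set G)).subtype := by
  obtain ⟨S, hS⟩ := exists_sylow_map_ge hQ hle
  obtain ⟨d, -, hd⟩ := exists_conj_sylow_map S P
  exact ⟨d, hd ▸ Subgroup.map_mono hS⟩

/-- If a character of `B` does not vanish at the `p`-element `x`, every normal `p`-subgroup of the
centralizer of `x` is conjugate into each defect group of `B`. -/
theorem exists_conj_le_of_apply_ne_zero (hM : IsPModular p M) (_hB : IsPBlock M B)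
    (hD : IsDefectGroup p M B D) {χ : IrrCharacter G} (hχ : χ ∈ B) {x : G}
    (hx : ∃ k : ℕ, orderOf x = p ^ k) (hne : (χ : G → ℂ) x ≠ 0) {E : Subgroup G}
    (hE : IsPGroup p E) (hEC : E ≤ Subgroup.centralizer ({x} : Set G))
    (hEn : ∀ h ∈ Subgroup.centralizer ({x} : Set G), ∀ e ∈ E, h * e * h⁻¹ ∈ E) :
    ∃ c : G, E.map (MulAut.conj c).toMonoidHom ≤ D := by
  obtain ⟨y, hy, P, rfl⟩ := hD
  obtain ⟨c, hc⟩ := exists_conj_le_centralizer hM hx hne hE hEC hEn (hy.2.2 χ hχ)
  obtain ⟨d, hd⟩ := exists_conj_le_sylow_map P (hE.map _) hc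
  refine ⟨d * c, le_trans ?_ hd⟩
  rw [Subgroup.map_map]
  rintro _ ⟨e, he, rfl⟩
  exact ⟨e, he, by simp [mul_assoc]⟩

/-- A subgroup of exponent `p` and order `p ^ w` inside bounds the sectional rank. -/
theorem le_of_sectionalPRankLE {H : Type*} [Group H] {D : Subgroup H} {A : Subgroup H} (hA : A ≤ D)
    (hcomm : ∀ a ∈ A, ∀ b ∈ A, a * b = b * a) (hexp : ∀ a ∈ A, a ^ p = 1) {w : ℕ}
    (hcard : Nat.card A = p ^ w) {s : ℕ} (hs : SectionalPRankLE p s D) : w ≤ s := by
  set A' : Subgroup D := A.subgroupOf D with hA'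
  have hsurj : Function.Surjective (QuotientGroup.mk' (⊥ : Subgroup A')) :=
    QuotientGroup.mk'_surjective _
  have hcard' : Nat.card A' = p ^ w := by
    rw [← hcard]; exact Nat.card_congr (Subgroup.subgroupOfEquivOfLe hA).toEquiv
  have h := hs A' ⊥ (⊤ : Subgroup (A' ⧸ (⊥ : Subgroup A'))) ⟨⟨fun a b => ?_⟩⟩ fun a _ => ?_
  · rw [Subgroup.card_top, Nat.card_congr QuotientGroup.quotientBot.toEquiv, hcard'] at h
    exact (Nat.pow_le_pow_iff_right hp.out.one_lt).1 h
  · obtain ⟨x, hx⟩ := hsurj a.1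
    obtain ⟨y, hy⟩ := hsurj b.1
    refine Subtype.ext ?_
    show a.1 * b.1 = b.1 * a.1
    rw [← hx, ← hy, ← map_mul, ← map_mul]
    exact congrArg _ (Subtype.ext (Subtype.ext (hcomm _ x.2 _ y.2)))
  · obtain ⟨x, rfl⟩ := hsurj a
    rw [← map_pow, show x ^ p = 1 from Subtype.ext (Subtype.ext (hexp _ x.2)), map_one]

end CfsgLib.SymChar
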