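import Cfsg.Agent.Lib.SymChar.Cores

/-!
# Removing hooks of length `p` down to the core

The value at `p`-cycles is a positive multiple of a value at the core.
-/

set_option autoImplicit false
set_option linter.unusedSectionVars false

namespace CfsgLib.SymChar

open Equiv Finset
open scoped Nat

variable {p N : ℕ} [NeZero p]

/-- The number of smaller entries on the same runner. -/
def rankOn (p : ℕ) (β : Fin N → ℕ) (i : Fin N) : ℕ :=
  (univ.filter fun l => β l % p = β i % p ∧ β l < β i).card

/-- The exponent vector pushed down to the core. -/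
def pushDown (p : ℕ) (β : Fin N → ℕ) (i : Fin N) : ℕ := β i % p + p * rankOn p β i

theorem rankOn_le {β : Fin N → ℕ} (hβ : Function.Injective β) (i : Fin N) :
    rankOn p β i ≤ β i / p := by
  rw [rankOn, ← card_range (β i / p)]
  refine card_le_card_of_injOn (fun l => β l / p) (fun l hl => ?_) fun a ha b hb e => ?_
  · obtain ⟨hmod, hlt⟩ := (mem_filter.1 hl).2
    refine mem_range.2 (Nat.lt_of_le_of_ne (Nat.div_le_div_right hlt.le) fun e => hlt.ne ?_)
    rw [← Nat.div_add_mod (β l) p, ← Nat.div_add_mod (β i) p, show β l / p = β i / p from e, hmod]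
  · refine hβ ?_
    rw [← Nat.div_add_mod (β a) p, ← Nat.div_add_mod (β b) p, (mem_filter.1 ha).2.1,
      (mem_filter.1 hb).2.1, show β a / p = β b / p from e]

theorem pushDown_le {β : Fin N → ℕ} (hβ : Function.Injective β) (i : Fin N) :
    pushDown p β i ≤ β i := by
  conv_rhs => rw [← Nat.mod_add_div (β i) p]
  exact Nat.add_le_add_left (Nat.mul_le_mul_left p (rankOn_le hβ i)) _

theorem rankOn_lt {β : Fin N → ℕ} {a b : Fin N} (hmod : β a % p = β b % p) (h : β a < β b) :
    rankOn p β a < rankOn p β b := by
  refine card_lt_card ((ssubset_iff_of_subset fun l hl => ?_).2 ⟨a, ?_, ?_⟩)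
  · obtain ⟨h1, h2⟩ := (mem_filter.1 hl).2
    exact mem_filter.2 ⟨mem_univ _, h1.trans hmod, h2.trans h⟩
  · exact mem_filter.2 ⟨mem_univ _, hmod, h⟩
  · exact fun hl => lt_irrefl _ (mem_filter.1 hl).2.2

theorem pushDown_injective {β : Fin N → ℕ} (hβ : Function.Injective β) :
    Function.Injective (pushDown p β) := by
  intro a b e
  have h1 := congrArg (fun z => z % p) e
  simp only [pushDown, Nat.add_mul_mod_self_left, Nat.mod_mod] at h1
  have h2 : rankOn p β a = rankOn p β b := by
    simp only [pushDown, h1] at e
    exact Nat.eq_of_mul_eq_mul_left (NeZero.pos p) (Nat.add_left_cancel e)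
  rcases lt_trichotomy (β a) (β b) with h | h | h
  · exact absurd h2 (rankOn_lt h1 h).ne
  · exact hβ h
  · exact absurd h2 (rankOn_lt h1.symm h).ne'

theorem pushDown_update {β : Fin N → ℕ} (hβ : Function.Injective β) {i : Fin N} (hi : p ≤ β i)
    (hfree : ∀ l, β l ≠ β i - p) :
    pushDown p (Function.update β i (β i - p)) = pushDown p β := by
  set β' := Function.update β i (β i - p) with hβ'
  have hmod : ∀ l, β' l % p = β l % p := fun l => by
    rcases eq_or_ne l i with rfl | hl
    · rw [hβ', Function.update_self, ← Nat.mod_eq_sub_mod hi]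
    · rw [hβ', Function.update_of_ne hl]
  funext a
  unfold pushDown rankOn
  rw [hmod a]
  congr 3
  refine filter_congr fun l _ => ?_
  rw [hmod l]
  refine and_congr_right fun hla => ?_
  -- two entries of one runner differing by less than `p` are equal
  have key : ∀ u v : ℕ, u % p = v % p → u < v → u + p ≤ v := by
    intro u v huv h
    obtain ⟨k, hk⟩ := (Nat.modEq_iff_dvd' h.le).1 huv
    have : 0 < k := Nat.pos_of_ne_zero fun hk0 => by rw [hk0, mul_zero] at hk; omega
    have := Nat.le_mul_of_pos_right p this
    omega
  have hp := NeZero.pos p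
  have hmi : (β i - p) % p = β i % p := (Nat.mod_eq_sub_mod hi).symm
  rcases eq_or_ne l i with hl | hl <;> rcases eq_or_ne a i with ha | ha
  · rw [hl, ha]; simp
  · rw [hl] at hla ⊢
    rw [hβ', Function.update_self, Function.update_of_ne ha]
    refine ⟨fun h => ?_, fun h => by omega⟩
    have h1 := key _ _ (hmi.trans hla) h
    have h2 : β a ≠ β i - p := hfree a
    rcases (show β i ≤ β a by omega).lt_or_eq with h3 | h3
    · exact h3
    · exact absurd (hβ h3) (Ne.symm ha)
  · rw [ha] at hla ⊢
    rw [hβ', Function.update_of_ne hl, Function.update_self]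
    refine ⟨fun h => by omega, fun h => ?_⟩
    have := key _ _ hla h
    have := hfree l
    omega
  · rw [hβ', Function.update_of_ne hl, Function.update_of_ne ha]

theorem exists_movable {β : Fin N → ℕ} (hβ : Function.Injective β)
    (h : ∑ i, pushDown p β i < ∑ i, β i) : ∃ i, p ≤ β i ∧ ∀ l, β l ≠ β i - p := by
  classical
  have hne : (univ.filter fun i => rankOn p β i < β i / p).Nonempty := by
    by_contra he
    rw [not_nonempty_iff_eq_empty, filter_eq_empty_iff] at he
    refine h.ne (sum_congr rfl fun i _ => ?_)
    rw [pushDown, le_antisymm (rankOn_le hβ i) (not_lt.1 (he (mem_univ i))), Nat.mod_add_div]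
  obtain ⟨i, hi, hmin⟩ := exists_min_image _ β hne
  have hi' := (mem_filter.1 hi).2
  have hp := NeZero.pos p
  have hpi : p ≤ β i := (Nat.div_pos_iff.1 (by omega : 0 < β i / p)).2
  refine ⟨i, hpi, fun l hl => ?_⟩
  have hmod : β l % p = β i % p := by rw [hl, ← Nat.mod_eq_sub_mod hpi]
  have hdiv : β i / p = β l / p + 1 := by
    rw [hl, ← Nat.add_div_right _ hp, Nat.sub_add_cancel hpi]
  have hr := rankOn_lt hmod (show β l < β i by omega)
  have hbad : rankOn p β l < β l / p := by omega
  have := hmin l (mem_filter.2 ⟨mem_univ _, hbad⟩)
  omega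

/-- The value at `w` cycles of length `p` is a positive multiple of the value at the core. -/
theorem exists_F_replicate_add (m : Multiset ℕ) : ∀ (w : ℕ) (β : Fin N → ℕ),
    Function.Injective β → ∑ i, β i = ∑ i, pushDown p β i + p * w →
      ∃ a : ℕ, 0 < a ∧ F (Multiset.replicate w p + m) β = (a : ℤ) * F m (pushDown p β) := by
  intro w
  induction w with
  | zero =>
    intro β hβ hsum
    have hsum' : ∑ i, pushDown p β i = ∑ i, β i := by omega
    have h := (sum_eq_sum_iff_of_le fun i _ => pushDown_le (p := p) hβ i).1 hsum'
    have e : pushDown p β = β := funext fun i => h i (mem_univ i)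
    exact ⟨1, one_pos, by rw [e]; simp⟩
  | succ w ih =>
    intro β hβ hsum
    classical
    have key : ∀ i, ∃ a : ℕ, (p ≤ β i → (∀ l, β l ≠ β i - p) → 0 < a) ∧
        (if p ≤ β i then F (Multiset.replicate w p + m) (Function.update β i (β i - p)) else 0) =
          (a : ℤ) * F m (pushDown p β) := by
      intro i
      by_cases hi : p ≤ β i
      · rw [if_pos hi]
        by_cases hfree : ∀ l, β l ≠ β i - p
        · have hinj : Function.Injective (Function.update β i (β i - p)) := by
            intro a b e
            rcases eq_or_ne a i with rfl | ha <;> rcases eq_or_ne b a with hb | hb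
            · exact hb.symm
            · rw [Function.update_self, Function.update_of_ne hb] at e
              exact absurd e.symm (hfree b)
            · exact hb.symm
            · rcases eq_or_ne b i with rfl | hbi
              · rw [Function.update_self, Function.update_of_ne ha] at e
                exact absurd e (hfree a)
              · rw [Function.update_of_ne hbi, Function.update_of_ne ha] at e
                exact hβ e
          have hu := pushDown_update hβ hi hfree
          obtain ⟨a, ha, hF⟩ := ih _ hinj (by
            rw [hu, sum_update_of_mem (mem_univ i), ← erase_eq]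
            have := add_sum_erase univ β (mem_univ i)
            rw [Nat.mul_succ] at hsum
            omega)
          exact ⟨a, fun _ _ => ha, by rw [hF, hu]⟩
        · refine ⟨0, fun _ h => absurd h hfree, ?_⟩
          push Not at hfree
          obtain ⟨l, hl⟩ := hfree
          have hli : l ≠ i := fun e => by
            have := NeZero.pos p
            rw [e] at hl; omega
          rw [F_eq_zero_of_not_injective _ fun hinj => hli (hinj (by
            rw [Function.update_of_ne hli, Function.update_self, hl]))]
          simp
      · exact ⟨0, fun h => absurd h hi, by rw [if_neg hi]; simp⟩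
    choose a ha hF using key
    obtain ⟨i₀, hi₀, hfree₀⟩ := exists_movable (p := p) hβ (by
      rw [Nat.mul_succ] at hsum
      have := NeZero.pos p
      omega)
    refine ⟨∑ i, a i, sum_pos' (fun i _ => Nat.zero_le _) ⟨i₀, mem_univ _, ha i₀ hi₀ hfree₀⟩, ?_⟩
    rw [Multiset.replicate_succ, Multiset.cons_add, F_cons, sum_congr rfl fun i _ => hF i,
      Nat.cast_sum, sum_mul]

end CfsgLib.SymChar
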