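import Cfsg.Agent.Lib.SymChar.Blocks
import Cfsg.Agent.Lib.SymChar.Paths

/-!
# `l(B) < p ^ s` for blocks of symmetric groups
-/

set_option autoImplicit false
set_option linter.unusedSectionVars false
set_option linter.style.haveILetI false

namespace CfsgLib.SymChar

open Equiv Finset Cfsg CfsgLib.CharTheory
open scoped Nat

variable {p N n : ℕ}

theorem sum_pushDown [NeZero p] {β : Fin N → ℕ} (hβ : Function.Injective β) :
    ∑ i, pushDown p β i = coreBase p (tupLen p β) := by
  rw [coreBase, ← sum_fiberwise univ (fun i => (⟨β i % p, Nat.mod_lt _ (NeZero.pos p)⟩ : Fin p))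
    (pushDown p β)]
  refine sum_congr rfl fun r _ => ?_
  set U := univ.filter fun i => (⟨β i % p, Nat.mod_lt _ (NeZero.pos p)⟩ : Fin p) = r with hUdef
  have hU : U = univ.filter fun i => β i % p = (r : ℕ) :=
    filter_congr fun i _ => by rw [Fin.ext_iff]
  have hUm : ∀ a ∈ U, β a % p = (r : ℕ) := fun a ha => by
    rw [hU] at ha
    exact (mem_filter.1 ha).2
  have hcard : tupLen p β r = U.card := by rw [hU]; rfl
  have hinj : ∀ a ∈ U, ∀ b ∈ U, rankOn p β a = rankOn p β b → a = b := by
    intro a ha b hb e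
    have hab : β a % p = β b % p := by
      rw [hUm a ha, hUm b hb]
    rcases lt_trichotomy (β a) (β b) with h | h | h
    · exact absurd e (rankOn_lt hab h).ne
    · exact hβ h
    · exact absurd e (rankOn_lt hab.symm h).ne'
  have himg : U.image (rankOn p β) = range U.card := by
    refine eq_of_subset_of_card_le (fun x hx => ?_) ?_
    · obtain ⟨a, ha, rfl⟩ := mem_image.1 hx
      refine mem_range.2 (card_lt_card ((ssubset_iff_of_subset fun l hl => ?_).2 ⟨a, ha, ?_⟩))
      · rw [hU]
        exact mem_filter.2 ⟨mem_univ _,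
          (mem_filter.1 hl).2.1.trans (hUm a ha)⟩
      · exact fun hl => lt_irrefl _ (mem_filter.1 hl).2.2
    · rw [card_range, card_image_of_injOn fun a ha b hb e => hinj a ha b hb e]
  rw [hcard, base, Fin.sum_univ_eq_sum_range (fun i => i), ← himg, sum_image hinj, mul_sum,
    mul_comm (r : ℕ), ← smul_eq_mul, ← sum_const, ← sum_add_distrib]
  exact sum_congr rfl fun a ha => by rw [pushDown, hUm a ha]

theorem parts_one (n : ℕ) : parts (1 : Perm (Fin n)) = Multiset.replicate n 1 := by
  simp [parts, Perm.parts_partition]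

theorem F_replicate_one_ne_zero {r : ℕ} {γ : Fin N → ℕ} (hγ : Function.Injective γ)
    (hsum : ∑ i, γ i = base N + r) : F (Multiset.replicate r 1) γ ≠ 0 := by
  obtain ⟨U, π, e⟩ := exists_tup hγ hsum
  intro h
  apply apply_one_ne_zero_of_isIrr (chi U).2
  rw [chi_apply, theta, parts_one, ← e, F_comp, h]
  simp

/-- The elementary abelian group generated by the cycles of a permutation. -/
noncomputable def cycleGroup (x : Perm (Fin n)) : Subgroup (Perm (Fin n)) :=
  (Subgroup.noncommPiCoprod x.pairwise_commute_of_mem_zpowers).range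

theorem cycleGroup_eq_iSup (x : Perm (Fin n)) :
    cycleGroup x = ⨆ c : x.cycleFactorsFinset, Subgroup.zpowers (c : Perm (Fin n)) := by
  rw [cycleGroup, Subgroup.noncommPiCoprod_range]

theorem cycleGroup_le_centralizer (x : Perm (Fin n)) :
    cycleGroup x ≤ Subgroup.centralizer ({x} : Set (Perm (Fin n))) := by
  rw [cycleGroup_eq_iSup, iSup_le_iff]
  intro c
  rw [Subgroup.zpowers_le, Subgroup.mem_centralizer_singleton_iff]
  exact (Perm.self_mem_cycle_factors_commute c.2).eq

theorem conj_mem_cycleGroup (x : Perm (Fin n)) {h : Perm (Fin n)}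
    (hh : h ∈ Subgroup.centralizer ({x} : Set (Perm (Fin n)))) {e : Perm (Fin n)}
    (he : e ∈ cycleGroup x) : h * e * h⁻¹ ∈ cycleGroup x := by
  have hle : (cycleGroup x).map (MulAut.conj h).toMonoidHom ≤ cycleGroup x := by
    rw [cycleGroup_eq_iSup, Subgroup.map_iSup, iSup_le_iff]
    intro c
    rw [MonoidHom.map_zpowers, Subgroup.zpowers_le, MulEquiv.coe_toMonoidHom, MulAut.conj_apply]
    have hx : h * x * h⁻¹ = x := by
      rw [Subgroup.mem_centralizer_singleton_iff.1 hh, mul_inv_cancel_right]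
    have hc : h * (c : Perm (Fin n)) * h⁻¹ ∈ x.cycleFactorsFinset := by
      have h' := (Perm.mem_cycleFactorsFinset_conj x h (c : Perm (Fin n))).2 c.2
      rwa [hx] at h'
    exact Subgroup.mem_iSup_of_mem (⟨_, hc⟩ : x.cycleFactorsFinset) (Subgroup.mem_zpowers _)
  exact hle ⟨e, he, rfl⟩

theorem cycleGroup_spec {x : Perm (Fin n)} {w : ℕ} (hx : x.cycleType = Multiset.replicate w p) :
    Nat.card (cycleGroup x) = p ^ w ∧ (∀ a ∈ cycleGroup x, ∀ b ∈ cycleGroup x, a * b = b * a) ∧
      ∀ a ∈ cycleGroup x, a ^ p = 1 := by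
  classical
  set κ := Subgroup.noncommPiCoprod x.pairwise_commute_of_mem_zpowers with hκ
  have hinj : Function.Injective κ := fun a b e => by
    have h : (Perm.OnCycleFactors.kerParam x) (1, a) = (Perm.OnCycleFactors.kerParam x) (1, b) := by
      simpa [Perm.OnCycleFactors.kerParam, MonoidHom.noncommCoprod_apply] using e
    exact (Prod.ext_iff.1 (Perm.OnCycleFactors.kerParam_injective x h)).2
  have hord : ∀ c : x.cycleFactorsFinset, orderOf (c : Perm (Fin n)) = p := by
    intro c
    rw [(Perm.mem_cycleFactorsFinset_iff.1 c.2).1.orderOf]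
    refine Multiset.eq_of_mem_replicate (n := w) ?_
    rw [← hx, Perm.cycleType_def]
    exact Multiset.mem_map.2 ⟨(c : Perm (Fin n)), c.2, rfl⟩
  refine ⟨?_, fun a ha b hb => ?_, fun a ha => ?_⟩
  · rw [cycleGroup, ← hκ, Nat.card_congr (MonoidHom.ofInjective hinj).symm.toEquiv, Nat.card_pi,
      prod_congr rfl fun c _ => (Nat.card_zpowers _).trans (hord c), prod_const, card_univ,
      Fintype.card_coe]
    congr 1
    have := congrArg Multiset.card hx
    rwa [Perm.cycleType_def, Multiset.card_map, Multiset.card_replicate] at this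
  · obtain ⟨u, rfl⟩ := ha
    obtain ⟨v, rfl⟩ := hb
    rw [← map_mul, ← map_mul]
    refine congrArg _ (funext fun c => ?_)
    exact Subtype.ext (mul_comm_of_mem_zpowers (u c).2 (v c).2)
  · obtain ⟨u, rfl⟩ := ha
    rw [← map_pow, show u ^ p = 1 from funext fun c => Subtype.ext ?_, map_one]
    obtain ⟨k, hk⟩ := Subgroup.mem_zpowers_iff.1 (u c).2
    show ((u c : Subgroup.zpowers (c : Perm (Fin n))) : Perm (Fin n)) ^ p = 1
    rw [← hk, ← zpow_natCast, ← zpow_mul, mul_comm, zpow_mul, zpow_natCast, ← hord c,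
      pow_orderOf_eq_one, one_zpow]
where
  mul_comm_of_mem_zpowers {a b c : Perm (Fin n)} (ha : a ∈ Subgroup.zpowers c)
      (hb : b ∈ Subgroup.zpowers c) : a * b = b * a := by
    obtain ⟨i, rfl⟩ := Subgroup.mem_zpowers_iff.1 ha
    obtain ⟨j, rfl⟩ := Subgroup.mem_zpowers_iff.1 hb
    exact ((Commute.refl c).zpow_zpow i j).eq

/-- A product of `w` disjoint `p`-cycles where a character of weight `w` does not vanish. -/
theorem exists_cycles_apply_ne_zero [Fact p.Prime] (U : ↥(wSets N n)) {w : ℕ}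
    (hw : base N + n = coreBase p (runLen (p := p) (U : Finset ℕ)) + p * w) (hpw : p * w ≤ n) :
    ∃ x : Perm (Fin n), x.cycleType = Multiset.replicate w p ∧ (∃ k, orderOf x = p ^ k) ∧
      (chi U : Perm (Fin n) → ℂ) x ≠ 0 := by
  have hp2 := (Fact.out : p.Prime).two_le
  haveI : NeZero p := ⟨(Fact.out : p.Prime).ne_zero⟩
  obtain ⟨x, hx⟩ := exists_parts (n := n)
    ⟨Multiset.replicate w p + Multiset.replicate (n - p * w) 1, fun {a} ha => by
      rcases Multiset.mem_add.1 ha with h | h <;> rw [Multiset.eq_of_mem_replicate h] <;> omega,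
      by simp [mul_comm w p]; omega⟩
  have hxparts : parts x = Multiset.replicate w p + Multiset.replicate (n - p * w) 1 := hx
  have hct : x.cycleType = Multiset.replicate w p := by
    rw [← Perm.filter_parts_partition_eq_cycleType, show x.partition.parts = _ from hxparts,
      Multiset.filter_add, Multiset.filter_eq_self.2, Multiset.filter_eq_nil.2, add_zero]
    · intro a ha; rw [Multiset.eq_of_mem_replicate ha]; omega
    · intro a ha; rw [Multiset.eq_of_mem_replicate ha]; exact hp2
  refine ⟨x, hct, ?_, ?_⟩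
  · obtain ⟨k, -, hk⟩ := (Nat.dvd_prime_pow (Fact.out : p.Prime)).1
      (show orderOf x ∣ p ^ 1 by
        rw [pow_one, ← Perm.lcm_cycleType, hct]
        exact Multiset.lcm_dvd.2 fun a ha => by rw [Multiset.eq_of_mem_replicate ha])
    exact ⟨k, hk⟩
  have hinj := (strictMono_tup U).injective
  have hsum : ∑ i, tup U i = ∑ i, pushDown p (tup U) i + p * w := by
    rw [sum_tup, sum_pushDown hinj, tupLen_tup, hw]
  obtain ⟨a, ha, hF⟩ :=
    exists_F_replicate_add (Multiset.replicate (n - p * w) 1) w (tup U) hinj hsum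
  have hF0 := F_replicate_one_ne_zero (r := n - p * w) (pushDown_injective (p := p) hinj) (by
    have := sum_tup U
    omega)
  rw [chi_apply, theta, hxparts, hF]
  refine mul_ne_zero (fun h => ?_) (Int.cast_ne_zero.2 (mul_ne_zero (by exact_mod_cast ha.ne') hF0))
  simpa [h] using sgn_mul_self U

variable [hp : Fact p.Prime] {M : Ideal AlgInt} {B : Set (IrrCharacter (Perm (Fin n)))}
  {D : Subgroup (Perm (Fin n))}

theorem blockRank_lt_pow (hM : IsPModular p M) (hB : IsPBlock M B)
    (hD : IsDefectGroup p M B D) (hD1 : D ≠ ⊥) {s : ℕ} (hs : SectionalPRankLE p s D) :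
    blockRank p B < p ^ s := by
  classical
  haveI : NeZero p := ⟨hp.out.ne_zero⟩
  haveI : M.IsMaximal := hM.2.1
  haveI : M.IsPrime := Ideal.IsMaximal.isPrime inferInstance
  have hp2 := hp.out.two_le
  obtain ⟨S₀, hS₀, hcore⟩ := exists_core hM hB (N := p * n + n) le_add_self
  obtain ⟨w, hw⟩ := exists_weight (p := p) S₀.2
  have hc : ∑ r, runLen (p := p) (S₀ : Finset ℕ) r = p * n + n :=
    (card_eq_sum_runner (p := p) (S₀ : Finset ℕ)).symm.trans (mem_wSets.1 S₀.2).1
  have hbase := base_le_coreBase _ hc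
  have hpw : p * w ≤ n := by omega
  have hwn : w ≤ n := le_trans (Nat.le_mul_of_pos_left w (NeZero.pos p)) hpw
  have hle := blockRank_le_numMulti hM hB le_add_self hcore
    (fun r => hwn.trans (runLen_ge (p := p) le_rfl S₀.2 r)) hw
  rcases eq_or_ne w 0 with rfl | hw0
  · rw [numMulti_zero_right] at hle
    refine lt_of_le_of_lt hle (Nat.one_lt_pow ?_ hp2)
    obtain ⟨P, hP⟩ := hD
    obtain ⟨-, S, hS⟩ := hP
    have hDp : IsPGroup p D := hS ▸ S.2.map _
    obtain ⟨a, ha, hord⟩ : ∃ a ∈ D, orderOf a = p := by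
      haveI : Nontrivial D := (Subgroup.nontrivial_iff_ne_bot D).2 hD1
      obtain ⟨k, hk, hcard⟩ := (IsPGroup.nontrivial_iff_card hDp).1 inferInstance
      obtain ⟨a, ha⟩ := exists_prime_orderOf_dvd_card' (G := D) p
        (hcard ▸ dvd_pow_self p (by omega))
      exact ⟨a, a.2, by rw [← ha, Subgroup.orderOf_coe]⟩
    have := le_of_sectionalPRankLE (w := 1) (Subgroup.zpowers_le.2 ha)
      (fun u hu v hv => by
        obtain ⟨i, rfl⟩ := Subgroup.mem_zpowers_iff.1 hu
        obtain ⟨j, rfl⟩ := Subgroup.mem_zpowers_iff.1 hv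
        exact ((Commute.refl a).zpow_zpow i j).eq)
      (fun u hu => by
        obtain ⟨i, rfl⟩ := Subgroup.mem_zpowers_iff.1 hu
        rw [← zpow_natCast, ← zpow_mul, mul_comm, zpow_mul, zpow_natCast, ← hord,
          pow_orderOf_eq_one, one_zpow])
      (by rw [Nat.card_zpowers, hord, pow_one]) hs
    omega
  obtain ⟨x, hct, hk, hne⟩ := exists_cycles_apply_ne_zero S₀ hw hpw
  obtain ⟨hcard, hcomm, hexp⟩ := cycleGroup_spec hct
  have hE : IsPGroup p (cycleGroup x) := IsPGroup.of_card hcard
  obtain ⟨c, hc'⟩ := exists_conj_le_of_apply_ne_zero hM hB hD hS₀ hk hne hE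
    (cycleGroup_le_centralizer x) fun h hh e he => conj_mem_cycleGroup x hh he
  have hws : w ≤ s := by
    refine le_of_sectionalPRankLE hc' ?_ ?_ ?_ hs
    · rintro _ ⟨a, ha, rfl⟩ _ ⟨b, hb, rfl⟩
      rw [← map_mul, ← map_mul, hcomm a ha b hb]
    · rintro _ ⟨a, ha, rfl⟩
      rw [← map_pow, hexp a ha, map_one]
    · rw [Subgroup.card_map_of_injective (MulAut.conj c).injective, hcard]
  refine lt_of_le_of_lt hle (lt_of_lt_of_le ?_ (Nat.pow_le_pow_right (NeZero.pos p) hws))
  obtain ⟨q, hq⟩ : ∃ q, p = q + 1 := ⟨p - 1, by omega⟩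
  have h := (numMulti_bound q w).2 hw0
  rw [← hq] at h
  rwa [show p - 1 = q by omega]

end CfsgLib.SymChar
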