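import Cfsg.Agent.Lib.SymChar.AltBlocks
import Cfsg.Agent.Lib.SymChar.Defect
import Cfsg.Agent.Lib.SymChar.Main

/-!
# Defect groups of blocks of alternating groups

A defect class of a block of positive defect is a class of the symmetric group, so that a
character of the symmetric group over the block is invertible there.
-/

set_option autoImplicit false
set_option linter.unusedSectionVars false
set_option linter.style.haveILetI false

namespace CfsgLib.SymChar

open Equiv Finset Cfsg CfsgLib.CharTheory CfsgLib.Blocks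
open scoped Nat

variable {p N n : ℕ}

theorem nat_card_centralizer_alt (g : alternatingGroup (Fin n))
    (h : Subgroup.centralizer ({(g : Perm (Fin n))} : Set (Perm (Fin n))) ≤
      alternatingGroup (Fin n)) :
    Nat.card (Subgroup.centralizer ({g} : Set (alternatingGroup (Fin n)))) =
      (g : Perm (Fin n)).cycleType.prod := by
  classical
  obtain ⟨-, hfix, hcount⟩ := Equiv.Perm.centralizer_le_alternating_iff.1 h
  have hmap : (Subgroup.centralizer ({g} : Set (alternatingGroup (Fin n)))).map
      (alternatingGroup (Fin n)).subtype =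
      Subgroup.centralizer ({(g : Perm (Fin n))} : Set (Perm (Fin n))) := by
    ext x
    rw [Subgroup.mem_map, Subgroup.mem_centralizer_singleton_iff]
    constructor
    · rintro ⟨y, hy, rfl⟩
      exact congrArg Subtype.val (Subgroup.mem_centralizer_singleton_iff.1 hy)
    · intro hx
      refine ⟨⟨x, h (Subgroup.mem_centralizer_singleton_iff.2 hx)⟩,
        Subgroup.mem_centralizer_singleton_iff.2 (Subtype.ext hx), rfl⟩
  rw [← Subgroup.card_map_of_injective (alternatingGroup (Fin n)).subtype_injective, hmap,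
    Equiv.Perm.nat_card_centralizer]
  have h1 : (Fintype.card (Fin n) - (g : Perm (Fin n)).cycleType.sum)! = 1 :=
    Nat.factorial_eq_one.2 (by omega)
  rw [h1, one_mul, Finset.prod_eq_one fun i _ => Nat.factorial_eq_one.2 (hcount i), mul_one]

variable [hp : Fact p.Prime] {M : Ideal AlgInt} [M.IsPrime]
  {B : Set (IrrCharacter ↥(alternatingGroup (Fin n)))} {D : Subgroup ↥(alternatingGroup (Fin n))}

/-- A defect class of a block of positive defect is a class of the symmetric group. -/
theorem not_centralizer_le_alt (hM : IsPModular p M) (hB : IsPBlock M B)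
    {g : alternatingGroup (Fin n)} (hg : IsDefectClass M B g)
    (P : Sylow p (Subgroup.centralizer ({g} : Set (alternatingGroup (Fin n)))))
    (hP : (P : Subgroup (Subgroup.centralizer ({g} : Set (alternatingGroup (Fin n))))).map
      (Subgroup.centralizer ({g} : Set (alternatingGroup (Fin n)))).subtype ≠ ⊥) :
    ¬ Subgroup.centralizer ({(g : Perm (Fin n))} : Set (Perm (Fin n))) ≤
      alternatingGroup (Fin n) := by
  intro h
  refine hP ?_
  have hreg := not_dvd_orderOf_of_isDefectClass hM hB hg
  have hcard := nat_card_centralizer_alt g h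
  have hndvd : ¬ p ∣ Nat.card (Subgroup.centralizer ({g} : Set (alternatingGroup (Fin n)))) := by
    rw [hcard]
    intro hd
    obtain ⟨c, hc, hpc⟩ := hp.out.prime.exists_mem_multiset_dvd hd
    refine hreg ?_
    rw [← Subgroup.orderOf_coe, ← Equiv.Perm.lcm_cycleType]
    exact hpc.trans (Multiset.dvd_lcm hc)
  rw [Subgroup.map_eq_bot_iff_of_injective _ (Subgroup.subtype_injective _),
    ← Subgroup.card_eq_one, P.card_eq_multiplicity, Nat.factorization_eq_zero_of_not_dvd hndvd,
    pow_zero]

/-- Outside the split classes the central character of a constituent is that of the group. -/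
theorem centralChar_over_eq {g : alternatingGroup (Fin n)}
    (hsplit : ¬ Subgroup.centralizer ({(g : Perm (Fin n))} : Set (Perm (Fin n))) ≤
      alternatingGroup (Fin n))
    {χ₀ : IrrCharacter ↥(alternatingGroup (Fin n))} {U : ↥(wSets N n)} (hU : Over U χ₀) :
    centralChar (chi U : Perm (Fin n) → ℂ) (g : Perm (Fin n)) =
      centralChar (χ₀ : alternatingGroup (Fin n) → ℂ) g := by
  classical
  obtain ⟨t, ht, htA⟩ := SetLike.not_le_iff_exists.1 hsplit
  rw [Subgroup.mem_centralizer_singleton_iff] at ht
  have hconj : ∀ h : alternatingGroup (Fin n), IsConj (g : Perm (Fin n)) h ↔ IsConj g h := by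
    intro h
    refine ⟨fun hh => ?_, fun hh => ?_⟩
    · obtain ⟨c, hc⟩ := isConj_iff.1 hh
      by_cases hcA : c ∈ alternatingGroup (Fin n)
      · exact isConj_iff.2 ⟨⟨c, hcA⟩, Subtype.ext (by simpa using hc)⟩
      · have hctA : c * t ∈ alternatingGroup (Fin n) := by
          rw [Equiv.Perm.mem_alternatingGroup] at hcA htA ⊢
          rw [map_mul, (Int.units_eq_one_or _).resolve_left hcA,
            (Int.units_eq_one_or _).resolve_left htA]
          decide
        refine isConj_iff.2 ⟨⟨c * t, hctA⟩, Subtype.ext ?_⟩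
        simp only [Subgroup.coe_mul, Subgroup.coe_inv]
        rw [← hc]
        calc c * t * (g : Perm (Fin n)) * (c * t)⁻¹ =
              c * (t * (g : Perm (Fin n))) * (c * t)⁻¹ := by group
          _ = c * ((g : Perm (Fin n)) * t) * (c * t)⁻¹ := by rw [ht]
          _ = c * (g : Perm (Fin n)) * c⁻¹ := by group
    · obtain ⟨c, hc⟩ := isConj_iff.1 hh
      exact isConj_iff.2 ⟨(c : Perm (Fin n)), by rw [← hc]; simp⟩
  have hind : inducedCentralChar (alternatingGroup (Fin n))
      (χ₀ : alternatingGroup (Fin n) → ℂ) (g : Perm (Fin n)) =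
      centralChar (χ₀ : alternatingGroup (Fin n) → ℂ) g := by
    rw [← BlockLocal.sum_conj_eq_centralChar (IsIrrCharacter.isClassFunction χ₀.2),
      inducedCentralChar, finsum_mem_eq_toFinset_sum]
    refine sum_congr ?_ fun _ _ => rfl
    ext h
    simp only [Set.mem_toFinset, Set.mem_ofPred_eq, mem_filter, mem_univ, true_and]
    exact hconj h
  rw [BlockLocal.centralChar_eq_inducedCentralChar (alternatingGroup (Fin n)) hU g, hind]

/-- Normal `p`-subgroups of centralizers of points where a character over the block does not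
vanish meet the alternating group in conjugates of subgroups of the defect group. -/
theorem exists_conj_inf_alt_le (hM : IsPModular p M) (hB : IsPBlock M B)
    (hD : IsDefectGroup p M B D) (hD1 : D ≠ ⊥)
    {χ₀ : IrrCharacter ↥(alternatingGroup (Fin n))} (hχ₀ : χ₀ ∈ B) {U : ↥(wSets N n)}
    (hU : Over U χ₀) {x : Perm (Fin n)} (hx : ∃ k : ℕ, orderOf x = p ^ k)
    (hne : (chi U : Perm (Fin n) → ℂ) x ≠ 0) {E : Subgroup (Perm (Fin n))} (hE : IsPGroup p E)
    (hEC : E ≤ Subgroup.centralizer ({x} : Set (Perm (Fin n))))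
    (hEn : ∀ h ∈ Subgroup.centralizer ({x} : Set (Perm (Fin n))), ∀ e ∈ E, h * e * h⁻¹ ∈ E) :
    ∃ c : Perm (Fin n), (E ⊓ alternatingGroup (Fin n)).map (MulAut.conj c).toMonoidHom ≤
      D.map (alternatingGroup (Fin n)).subtype := by
  classical
  obtain ⟨g, hg, P, rfl⟩ := hD
  have hω : ¬ MemLocalIdeal M (centralChar (chi U : Perm (Fin n) → ℂ) (g : Perm (Fin n))) := by
    rw [centralChar_over_eq (not_centralizer_le_alt hM hB hg P hD1) hU]
    exact hg.2.2 χ₀ hχ₀
  obtain ⟨c, hc⟩ := exists_conj_le_centralizer hM hx hne hE hEC hEn hω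
  set T := (E ⊓ alternatingGroup (Fin n)).map (MulAut.conj c).toMonoidHom with hT
  have hTA : T ≤ alternatingGroup (Fin n) := by
    rintro _ ⟨e, he, rfl⟩
    exact Subgroup.Normal.conj_mem (inferInstance : (alternatingGroup (Fin n)).Normal) e he.2 c
  have hTC : T.subgroupOf (alternatingGroup (Fin n)) ≤
      Subgroup.centralizer ({g} : Set (alternatingGroup (Fin n))) := by
    intro a ha
    rw [Subgroup.mem_centralizer_singleton_iff]
    refine Subtype.ext ?_
    exact Subgroup.mem_centralizer_singleton_iff.1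
      (hc (Subgroup.map_mono inf_le_left (Subgroup.mem_subgroupOf.1 ha)))
  have hTp : IsPGroup p (T.subgroupOf (alternatingGroup (Fin n))) :=
    ((hE.to_le inf_le_left).map _).comap_of_injective _ Subtype.val_injective
  obtain ⟨d, hd⟩ := exists_conj_le_sylow_map P hTp hTC
  refine ⟨(d : Perm (Fin n)) * c, ?_⟩
  rintro _ ⟨e, he, rfl⟩
  have hmem : (⟨c * e * c⁻¹, hTA ⟨e, he, rfl⟩⟩ : alternatingGroup (Fin n)) ∈
      T.subgroupOf (alternatingGroup (Fin n)) := Subgroup.mem_subgroupOf.2 ⟨e, he, rfl⟩
  refine ⟨_, hd ⟨_, hmem, rfl⟩, ?_⟩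
  simp [mul_assoc]

/-- Elementary abelian subgroups of the symmetric group inside a defect group bound its rank. -/
theorem le_of_conj_le_map {s : ℕ}
    (hsD : SectionalPRankLE p s D) {T : Subgroup (Perm (Fin n))} {c : Perm (Fin n)}
    (hT : T.map (MulAut.conj c).toMonoidHom ≤ D.map (alternatingGroup (Fin n)).subtype)
    (hcomm : ∀ a ∈ T, ∀ b ∈ T, a * b = b * a) (hexp : ∀ a ∈ T, a ^ p = 1) {w : ℕ}
    (hcard : p ^ w ∣ Nat.card T) : w ≤ s := by
  obtain ⟨K, hK⟩ := Sylow.exists_subgroup_card_pow_prime p hcard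
  set f : K →* Perm (Fin n) :=
    (MulAut.conj c).toMonoidHom.comp (T.subtype.comp K.subtype) with hf
  have hfinj : Function.Injective f :=
    (MulAut.conj c).injective.comp (T.subtype_injective.comp K.subtype_injective)
  have hfD : ∀ k, f k ∈ D.map (alternatingGroup (Fin n)).subtype := fun k =>
    hT ⟨((k : T) : Perm (Fin n)), (k : T).2, rfl⟩
  have hfA : ∀ k, f k ∈ alternatingGroup (Fin n) := fun k => Subgroup.map_subtype_le _ (hfD k)
  set f' : K →* alternatingGroup (Fin n) := f.codRestrict _ hfA with hf'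
  refine le_of_sectionalPRankLE (A := f'.range) ?_ ?_ ?_ ?_ hsD
  · rintro _ ⟨k, rfl⟩
    obtain ⟨d, hd, hdk⟩ := hfD k
    rwa [show f' k = d from Subtype.ext hdk.symm]
  · rintro _ ⟨a, rfl⟩ _ ⟨b, rfl⟩
    rw [← map_mul, ← map_mul]
    exact congrArg _ (Subtype.ext (Subtype.ext (hcomm _ (a : T).2 _ (b : T).2)))
  · rintro _ ⟨a, rfl⟩
    rw [← map_pow, show a ^ p = 1 from Subtype.ext (Subtype.ext (hexp _ (a : T).2)), map_one]
  · have hf'inj : Function.Injective f' := fun a b e => hfinj (congrArg Subtype.val e)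
    rw [Nat.card_congr (MonoidHom.ofInjective hf'inj).symm.toEquiv, hK]

end CfsgLib.SymChar
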