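import Cfsg.Agent.Lib.SymChar.AltDefect
import Cfsg.Agent.Lib.Blocks.Knorr
import Cfsg.Agent.Lib.Blocks.InducedDefect
import Cfsg.Agent.Lib.BrauerCharacters.Consequences
import Mathlib.GroupTheory.SpecificGroups.Alternating.KleinFour

/-!
# `l(B) < p ^ s` for blocks of alternating groups
-/

set_option autoImplicit false
set_option linter.unusedSectionVars false
set_option linter.style.haveILetI false

namespace CfsgLib.SymChar

open Equiv Finset Cfsg CfsgLib.CharTheory CfsgLib.BrauerCharacters
open scoped Nat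

variable {p N n : ℕ}

/-- The product of two pairs of transpositions on four points. -/
theorem exists_fourGroup {x : Perm (Fin n)} (hx : x.cycleType = {2, 2}) :
    ∃ E : Subgroup (Perm (Fin n)), Nat.card E = 4 ∧ (∀ a ∈ E, ∀ b ∈ E, a * b = b * a) ∧
      (∀ a ∈ E, a ^ 2 = 1) ∧ E ≤ alternatingGroup (Fin n) ∧
      E ≤ Subgroup.centralizer ({x} : Set (Perm (Fin n))) ∧
      ∀ h ∈ Subgroup.centralizer ({x} : Set (Perm (Fin n))), ∀ e ∈ E, h * e * h⁻¹ ∈ E := by
  classical
  let β := {a : Fin n // a ∈ x.support}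
  have hβ : Nat.card β = 4 := by
    rw [Nat.card_eq_fintype_card, Fintype.card_coe, ← Perm.sum_cycleType, hx]
    rfl
  set ι : alternatingGroup β →* Perm (Fin n) :=
    (Perm.ofSubtype : Perm β →* Perm (Fin n)).comp (alternatingGroup β).subtype with hι
  have hinj : Function.Injective ι :=
    Perm.ofSubtype_injective.comp (alternatingGroup β).subtype_injective
  haveI := alternatingGroup.kleinFour_isKleinFour hβ
  set E := (alternatingGroup.kleinFour β).map ι with hE
  have hmem : ∀ e : Perm (Fin n), e ∈ E ↔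
      e.support ⊆ x.support ∧ (e = 1 ∨ e.cycleType = {2, 2}) := by
    intro e
    constructor
    · rintro ⟨k, hk, rfl⟩
      refine ⟨fun a ha => ?_, ?_⟩
      · rw [Perm.mem_support] at ha
        by_contra h
        exact ha (Perm.ofSubtype_apply_of_not_mem _ h)
      · rw [alternatingGroup.coe_kleinFour_of_card_eq_four hβ] at hk
        rcases hk with hk | hk
        · exact Or.inl (by rw [Set.mem_singleton_iff.1 hk, map_one])
        · refine Or.inr ?_
          rw [hι, MonoidHom.comp_apply, Perm.cycleType_ofSubtype]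
          exact hk
    · rintro ⟨hsupp, hcase⟩
      have hst : ∀ a, e a ∈ x.support ↔ a ∈ x.support := by
        intro a
        by_cases ha : e a = a
        · rw [ha]
        · exact ⟨fun _ => hsupp (Perm.mem_support.2 ha), fun _ =>
            hsupp (Perm.apply_mem_support.2 (Perm.mem_support.2 ha))⟩
      have heq : Perm.ofSubtype (e.subtypePerm hst) = e :=
        Perm.ofSubtype_subtypePerm _ fun a ha => hsupp (Perm.mem_support.2 ha)
      have hA : e.subtypePerm hst ∈ alternatingGroup β := by
        rw [Perm.mem_alternatingGroup, ← Perm.sign_ofSubtype, heq]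
        rcases hcase with rfl | hc
        · exact map_one _
        · rw [Perm.sign_of_cycleType, hc]; decide
      refine ⟨⟨_, hA⟩, ?_, heq⟩
      rw [alternatingGroup.coe_kleinFour_of_card_eq_four hβ]
      rcases hcase with rfl | hc
      · left
        exact Subtype.ext (Perm.ofSubtype_injective (heq.trans (map_one _).symm))
      · right
        show (e.subtypePerm hst).cycleType = {2, 2}
        rw [← Perm.cycleType_ofSubtype, heq, hc]
  have hxE : x ∈ E := (hmem x).2 ⟨subset_rfl, Or.inr hx⟩
  have hsq : ∀ k : alternatingGroup β, k ∈ alternatingGroup.kleinFour β → k * k = 1 :=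
    fun k hk => congrArg Subtype.val (IsKleinFour.mul_self (⟨k, hk⟩ : alternatingGroup.kleinFour β))
  have hsqE : ∀ e ∈ E, e * e = 1 := by
    rintro _ ⟨k, hk, rfl⟩
    rw [← map_mul, hsq k hk, map_one]
  have hcommE : ∀ a ∈ E, ∀ b ∈ E, a * b = b * a := fun a ha b hb =>
    calc a * b = (b * b) * (a * b) * ((a * a) : Perm (Fin n)) := by
          rw [hsqE a ha, hsqE b hb, one_mul, mul_one]
      _ = b * ((b * a) * (b * a)) * a := by group
      _ = b * a := by rw [hsqE _ (E.mul_mem hb ha), mul_one]
  refine ⟨E, ?_, hcommE, fun a ha => by rw [sq, hsqE a ha], ?_, fun e he => ?_, fun h hh e he => ?_⟩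
  · rw [hE, Subgroup.card_map_of_injective hinj,
      alternatingGroup.kleinFour_card_of_card_eq_four hβ]
  · rintro _ ⟨k, -, rfl⟩
    rw [Perm.mem_alternatingGroup, hι, MonoidHom.comp_apply, Perm.sign_ofSubtype]
    exact Perm.mem_alternatingGroup.1 k.2
  · rw [Subgroup.mem_centralizer_singleton_iff]
    exact hcommE e he x hxE
  · obtain ⟨h1, h2⟩ := (hmem e).1 he
    have hx' : h * x * h⁻¹ = x := by
      rw [Subgroup.mem_centralizer_singleton_iff.1 hh, mul_inv_cancel_right]
    refine (hmem _).2 ⟨?_, ?_⟩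
    · rw [← hx', Perm.support_conj, Perm.support_conj]
      exact Finset.map_subset_map.2 h1
    · rcases h2 with rfl | h2
      · exact Or.inl (by simp)
      · exact Or.inr (by rw [Perm.cycleType_conj, h2])

/-- The even part of an elementary abelian two-group has index at most two. -/
theorem two_pow_dvd_card_inf_alt {E : Subgroup (Perm (Fin n))} {w : ℕ}
    (hE : Nat.card E = 2 ^ w) : 2 ^ (w - 1) ∣ Nat.card (E ⊓ alternatingGroup (Fin n) : Subgroup _) := by
  set f : E →* ℤˣ := Perm.sign.comp E.subtype with hf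
  have hker : Nat.card f.ker = Nat.card (E ⊓ alternatingGroup (Fin n) : Subgroup _) :=
    Nat.card_congr ⟨fun a => ⟨(a : E), (a : E).2, a.2⟩, fun a => ⟨⟨a, a.2.1⟩, a.2.2⟩,
      fun _ => rfl, fun _ => rfl⟩
  have h1 : f.ker.index ∣ 2 := by
    rw [Subgroup.index_ker]
    have := Subgroup.card_subgroup_dvd_card f.range
    rwa [Nat.card_eq_fintype_card (α := ℤˣ), Fintype.card_units_int] at this
  have h2 := f.ker.card_mul_index
  rw [hker, hE] at h2
  rcases Nat.eq_zero_or_pos w with rfl | hw
  · exact one_dvd _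
  · rcases (Nat.dvd_prime Nat.prime_two).1 h1 with h | h <;> rw [h] at h2
    · rw [mul_one] at h2; rw [h2]; exact pow_dvd_pow 2 (Nat.sub_le _ _)
    · have h3 : 2 ^ (w - 1) * 2 = 2 ^ w := by
        rw [← pow_succ, Nat.sub_add_cancel hw]
      rw [← h3] at h2
      exact (Nat.eq_of_mul_eq_mul_right two_pos h2.symm).dvd

variable [hp : Fact p.Prime]

/-- Characters of weight zero vanish off the regular classes. -/
theorem theta_eq_zero_of_weight_zero (U : ↥(wSets N n))
    (hw : base N + n = coreBase p (runLen (p := p) (U : Finset ℕ))) (g : Perm (Fin n)) {k : ℕ}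
    (hk : k ∈ parts g) (hpk : p ∣ k) : theta U g = 0 := by
  haveI : NeZero p := ⟨hp.out.ne_zero⟩
  have hk0 : 0 < k := g.partition.parts_pos hk
  obtain ⟨m, hm⟩ := Multiset.exists_cons_of_mem hk
  rw [theta, hm, F_cons, Finset.sum_eq_zero, Int.cast_zero]
  intro i _
  split_ifs with hki
  · refine F_eq_zero_of_not_injective _ fun hinj => ?_
    have h1 := sum_pushDown (p := p) hinj
    rw [tupLen_update hpk hki, tupLen_tup, ← hw] at h1
    have h2 : ∑ a, pushDown p (Function.update (tup U) i (tup U i - k)) a ≤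
        ∑ a, Function.update (tup U) i (tup U i - k) a :=
      sum_le_sum fun a _ => pushDown_le hinj a
    have h3 : ∑ a, Function.update (tup U) i (tup U i - k) a < ∑ a, tup U a := by
      refine sum_lt_sum (fun a _ => ?_) ⟨i, mem_univ i, by rw [Function.update_self]; omega⟩
      rcases eq_or_ne a i with rfl | h
      · rw [Function.update_self]; omega
      · rw [Function.update_of_ne h]
    rw [sum_tup] at h3
    omega
  · rfl

theorem one_le_of_ne_bot {H : Type*} [Group H] [Finite H] {D : Subgroup H} (hDp : IsPGroup p D)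
    (hD1 : D ≠ ⊥) {s : ℕ} (hs : SectionalPRankLE p s D) : 1 ≤ s := by
  haveI : Nontrivial D := (Subgroup.nontrivial_iff_ne_bot D).2 hD1
  obtain ⟨k, hk, hcard⟩ := (IsPGroup.nontrivial_iff_card hDp).1 inferInstance
  obtain ⟨a, ha⟩ := exists_prime_orderOf_dvd_card' (G := D) p
    (hcard ▸ dvd_pow_self p (by omega))
  rw [← Subgroup.orderOf_coe] at ha
  refine le_of_sectionalPRankLE (w := 1) (Subgroup.zpowers_le.2 a.2)
    (fun u hu v hv => by
      obtain ⟨i, rfl⟩ := Subgroup.mem_zpowers_iff.1 hu
      obtain ⟨j, rfl⟩ := Subgroup.mem_zpowers_iff.1 hv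
      exact ((Commute.refl (a : H)).zpow_zpow i j).eq)
    (fun u hu => by
      obtain ⟨i, rfl⟩ := Subgroup.mem_zpowers_iff.1 hu
      have h1 : (a : H) ^ p = 1 := by rw [← ha]; exact pow_orderOf_eq_one _
      rw [← zpow_natCast, ← zpow_mul, mul_comm, zpow_mul, zpow_natCast, h1, one_zpow])
    (by rw [Nat.card_zpowers, ha, pow_one]) hs

/-- The regular norms over a core add up to the number of multipartitions. -/
theorem sum_setNorm_core (hN : n ≤ N) (c : Fin p → ℕ) (hc : ∑ r, c r = N) {w : ℕ}
    (hcw : ∀ r, w ≤ c r) (hw : base N + n = coreBase p c + p * w) :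
    ∑ S ∈ coreSets p N n c, setNorm p S = (numMulti (p - 1) w : ℝ) := by
  haveI : NeZero p := ⟨hp.out.ne_zero⟩
  apply Complex.ofReal_injective
  rw [Complex.ofReal_sum, Complex.ofReal_natCast,
    ← regTrace_eq_numMulti c hc n hN w hcw hw, regTrace_eq_sum_regPerms]
  refine sum_congr rfl fun S _ => ?_
  rw [setNorm, Complex.ofReal_div, Complex.ofReal_intCast, Complex.ofReal_natCast, cast_regNorm]

variable {M : Ideal AlgInt} {B : Set (IrrCharacter ↥(alternatingGroup (Fin n)))}
  {D : Subgroup ↥(alternatingGroup (Fin n))}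

theorem two_le_of_ne_bot (hD1 : D ≠ ⊥) : 2 ≤ n := by
  by_contra h
  haveI : Subsingleton (Fin n) := Fin.subsingleton_iff_le_one.2 (by omega)
  exact hD1 (Subsingleton.elim _ _)

/-- The odd case. -/
theorem blockRank_alt_lt_pow_odd [M.IsPrime] (hM : IsPModular p M) (hB : IsPBlock M B)
    (hD : IsDefectGroup p M B D) (hD1 : D ≠ ⊥) {s : ℕ} (hs : SectionalPRankLE p s D)
    {h : ℕ} (hph : p = 2 * h + 1) : blockRank p B < p ^ s := by
  classical
  subst hph
  have hh : 1 ≤ h := by have := hp.out.two_le; omega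
  have hn := two_le_of_ne_bot hD1
  have hs1 := one_le_of_ne_bot (Blocks.isPGroup_of_isDefectGroup hD) hD1 hs
  set N := (2 * h + 1) * (n + n) with hNdef
  have hN : n ≤ N := le_trans (Nat.le_add_left n n) (Nat.le_mul_of_pos_left _ (by omega))
  have hN' : (2 * h + 1) * n + n ≤ N := by
    rw [hNdef, Nat.mul_add]; exact Nat.add_le_add_left (Nat.le_mul_of_pos_left _ (by omega)) _
  have hNN : N + N = (2 * h + 1) * (n + n + (n + n)) := by rw [hNdef]; ring
  obtain ⟨χ₀, hχ₀⟩ := Blocks.isPBlock_nonempty hB
  obtain ⟨U, hU⟩ := exists_over_set (N := N) hN χ₀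
  set c := runLen (p := 2 * h + 1) (U : Finset ℕ) with hcdef
  obtain ⟨w, hw⟩ := exists_weight (p := 2 * h + 1) U.2
  have hc : ∑ r, c r = N := (card_eq_sum_runner (p := 2 * h + 1) (U : Finset ℕ)).symm.trans
    (mem_wSets.1 U.2).1
  have hbase := base_le_coreBase _ hc
  have hpw : (2 * h + 1) * w ≤ n := by
    have : base N + n = coreBase (2 * h + 1) c + (2 * h + 1) * w := hw
    omega
  have hwn : w ≤ n := le_trans (Nat.le_mul_of_pos_left w (by omega)) hpw
  have hcw : ∀ r, w ≤ c r := fun r => hwn.trans (runLen_ge hN' U.2 r)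
  have hcore := exists_core_alt hM hB hN hχ₀ hU
  have hle : blockRank (2 * h + 1) B ≤ numMulti (2 * h) w + (fixedSets hN c).card := by
    have := blockRank_alt_le hM hB hN hn c hcore
    rw [sum_setNorm_core hN c hc hcw hw, Nat.add_sub_cancel] at this
    exact_mod_cast this
  have hmemfix : ∀ S ∈ fixedSets hN c, runLen (p := 2 * h + 1) (S : Finset ℕ) = c ∧
      flipSet ((2 * h + 1) * (n + n + (n + n))) (S : Finset ℕ) = S ∧
      (S : Finset ℕ) ⊆ range ((2 * h + 1) * (n + n + (n + n))) := by
    intro S hS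
    obtain ⟨h1, h2⟩ := mem_filter.1 hS
    rw [← hNN]
    exact ⟨mem_coreSets.1 h1, congrArg Subtype.val h2, subset_range_two hN S⟩
  have hfix : (fixedSets hN c).card ≤ numSym h w := by
    rw [← card_map (Function.Embedding.subtype _)]
    refine card_fixed_le_odd (K := n + n + (n + n)) _ (fun S hS => ?_) hw hcw
    obtain ⟨S', hS', rfl⟩ := mem_map.1 hS
    obtain ⟨h1, h2, h3⟩ := hmemfix S' hS'
    exact ⟨S'.2, h3, h2, h1⟩
  have hps : (2 * h + 1) ≤ (2 * h + 1) ^ s := Nat.le_self_pow (by omega) _
  rcases (show w = 0 ∨ w = 1 ∨ 2 ≤ w by omega) with rfl | rfl | hw2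
  · rw [numMulti_zero_right] at hle
    rw [numSym_le_one (Nat.zero_le 1)] at hfix
    omega
  · rw [numMulti_one_right] at hle
    rw [numSym_le_one le_rfl] at hfix
    rcases (fixedSets hN c).eq_empty_or_nonempty with hemp | ⟨S₀, hS₀⟩
    · rw [hemp, card_empty] at hle
      omega
    obtain ⟨h1, h2, h3⟩ := hmemfix S₀ hS₀
    have hinv : ∀ S ∈ coreSets (2 * h + 1) N n c, flipW hN S ∈ coreSets (2 * h + 1) N n c := by
      intro S hS
      rw [mem_coreSets] at hS ⊢
      funext r
      have hS3 : (S : Finset ℕ) ⊆ range ((2 * h + 1) * (n + n + (n + n))) := by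
        rw [← hNN]; exact subset_range_two hN S
      show runLen (flipSet (N + N) (S : Finset ℕ)) r = c r
      rw [hNN, runLen_flipSet hS3, hS]
      conv_rhs => rw [← h1, ← h2, runLen_flipSet h3, h1]
    have hcard : (coreSets (2 * h + 1) N n c).card = 2 * h + 1 := by
      rw [card_coreSets, card_filter_runLen c hc hw hcw, numMulti_one_right]
    have h2B := two_mul_card_block_le hN hn c hcore hinv
    rw [hcard] at h2B
    have hrk := blockRank_le_card (p := 2 * h + 1) (B := B)
    by_contra hge
    have hk : Nat.card B = blockRank (2 * h + 1) B := by omega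
    have h0 := defect_zero_of_card_eq_rank (weakOrth hM hB) hM hB hk
    exact hD1 ((Blocks.blockDefect_eq_zero_iff hM hB hD).1 h0)
  · obtain ⟨x, hct, hk, hne⟩ := exists_cycles_apply_ne_zero U hw hpw
    obtain ⟨hcard, hcomm, hexp⟩ := cycleGroup_spec hct
    obtain ⟨d, hd⟩ := exists_conj_inf_alt_le hM hB hD hD1 hχ₀ hU hk hne (IsPGroup.of_card hcard)
      (cycleGroup_le_centralizer x) fun h hh e he => conj_mem_cycleGroup x hh he
    have hEA : cycleGroup x ≤ alternatingGroup (Fin n) := by
      intro a ha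
      rw [Perm.mem_alternatingGroup]
      have := congrArg Perm.sign (hexp a ha)
      rw [map_pow, map_one] at this
      rcases Int.units_eq_one_or (Perm.sign a) with h' | h'
      · exact h'
      · rw [h', Odd.neg_one_pow ⟨h, rfl⟩] at this
        exact absurd this (by decide)
    rw [inf_eq_left.2 hEA] at hd
    have hws : w ≤ s := le_of_conj_le_map hs hd hcomm hexp (by rw [hcard])
    have h4 := numMulti_add_numSym_lt hh hw2
    have h5 := Nat.pow_le_pow_right (show 0 < 2 * h + 1 by omega) hws
    omega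

/-- The even case. -/
theorem blockRank_alt_lt_pow_two [M.IsPrime] (hp2 : p = 2) (hM : IsPModular p M)
    (hB : IsPBlock M B) (hD : IsDefectGroup p M B D) (hD1 : D ≠ ⊥) {s : ℕ}
    (hs : SectionalPRankLE p s D) : blockRank p B < p ^ s := by
  classical
  subst hp2
  have hn := two_le_of_ne_bot hD1
  have hs1 := one_le_of_ne_bot (Blocks.isPGroup_of_isDefectGroup hD) hD1 hs
  set N := 2 * (n + n) with hNdef
  have hN : n ≤ N := by omega
  have hNN : N + N = 2 * (n + n + (n + n)) := by omega
  obtain ⟨χ₀, hχ₀⟩ := Blocks.isPBlock_nonempty hB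
  obtain ⟨U, hU⟩ := exists_over_set (N := N) hN χ₀
  set c := runLen (p := 2) (U : Finset ℕ) with hcdef
  obtain ⟨w, hw⟩ := exists_weight (p := 2) U.2
  have hc : ∑ r, c r = N := (card_eq_sum_runner (p := 2) (U : Finset ℕ)).symm.trans
    (mem_wSets.1 U.2).1
  have hbase := base_le_coreBase _ hc
  have hpw : 2 * w ≤ n := by
    have : base N + n = coreBase 2 c + 2 * w := hw
    omega
  have hcw : ∀ r, w ≤ c r := fun r =>
    (show w ≤ n by omega).trans (runLen_ge (by omega) U.2 r)
  have hcore := exists_core_alt hM hB hN hχ₀ hU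
  have hle : blockRank 2 B ≤ numPartitions w + (fixedSets hN c).card := by
    have := blockRank_alt_le hM hB hN hn c hcore
    rw [sum_setNorm_core hN c hc hcw hw, show (2 : ℕ) - 1 = 1 from rfl, numMulti_one] at this
    exact_mod_cast this
  have hfix : (fixedSets hN c).card ≤ if Even w then numPartitions (w / 2) else 0 := by
    rw [← card_map (Function.Embedding.subtype _)]
    refine card_fixed_le_two (K := n + n + (n + n)) _ (fun S hS => ?_) hw hcw
    obtain ⟨S', hS', rfl⟩ := mem_map.1 hS
    obtain ⟨h1, h2⟩ := mem_filter.1 hS'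
    rw [← hNN]
    exact ⟨S'.2, subset_range_two hN S', congrArg Subtype.val h2, mem_coreSets.1 h1⟩
  rcases (show w = 0 ∨ w = 1 ∨ 2 ≤ w by omega) with rfl | rfl | hw2
  · exfalso
    refine hD1 (Blocks.eq_bot_of_vanish hM χ₀ (fun g hg => ?_)
      (Blocks.eq_blockOf_of_mem hB hχ₀ ▸ hD))
    have hgS : orderOf (g : Perm (Fin n)) = 2 := by rw [Subgroup.orderOf_coe, hg]
    have h2mem : ∃ k ∈ (g : Perm (Fin n)).cycleType, 2 ∣ k := by
      refine Nat.prime_two.prime.exists_mem_multiset_dvd ?_
      have hd : (g : Perm (Fin n)).cycleType.lcm ∣ (g : Perm (Fin n)).cycleType.prod :=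
        Multiset.lcm_dvd.2 fun a ha => Multiset.dvd_prod ha
      rwa [Equiv.Perm.lcm_cycleType, hgS] at hd
    obtain ⟨k, hk, hk2⟩ := h2mem
    have hsplit : ¬ Subgroup.centralizer ({(g : Perm (Fin n))} : Set (Perm (Fin n))) ≤
        alternatingGroup (Fin n) := by
      rw [Equiv.Perm.centralizer_le_alternating_iff]
      rintro ⟨hodd, -, -⟩
      exact (Nat.not_odd_iff_even.2 (even_iff_two_dvd.2 hk2)) (hodd k hk)
    have hth : theta U (g : Perm (Fin n)) = 0 := by
      refine theta_eq_zero_of_weight_zero U (by simpa using hw) _ ?_ hk2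
      rw [parts, Perm.parts_partition]
      exact Multiset.mem_add.2 (Or.inl hk)
    have he := centralChar_over_eq hsplit hU
    rw [centralChar, chi_apply, hth, mul_zero, mul_zero, zero_div, eq_comm, centralChar,
      div_eq_zero_iff] at he
    rcases he with he | he
    · rcases mul_eq_zero.1 he with he | he
      · exact absurd (Nat.cast_eq_zero.1 he) Subgroup.index_ne_zero_of_finite
      · exact he
    · exact absurd he (apply_one_ne_zero_of_isIrr χ₀.2)
  · rw [numPartitions_one] at hle
    rw [if_neg (by decide)] at hfix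
    calc blockRank 2 B ≤ 1 := by omega
      _ < 2 ^ s := Nat.one_lt_two_pow (by omega)
  · obtain ⟨x, hct, hk, hne⟩ := exists_cycles_apply_ne_zero U hw hpw
    rcases (show w = 2 ∨ 3 ≤ w by omega) with rfl | hw3
    · obtain ⟨E, hcard, hcomm, hexp, hEA, hEC, hEn⟩ :=
        exists_fourGroup (x := x) (by rw [hct]; rfl)
      obtain ⟨d, hd⟩ := exists_conj_inf_alt_le hM hB hD hD1 hχ₀ hU hk hne
        (IsPGroup.of_card (n := 2) hcard) hEC hEn
      rw [inf_eq_left.2 hEA] at hd
      have hws : 2 ≤ s := le_of_conj_le_map hs hd hcomm hexp (by rw [hcard]; rfl)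
      rw [if_pos (by decide), show 2 / 2 = 1 from rfl, numPartitions_one] at hfix
      rw [numPartitions_two] at hle
      have := Nat.pow_le_pow_right (show 0 < 2 by omega) hws
      omega
    · obtain ⟨hcard, hcomm, hexp⟩ := cycleGroup_spec hct
      obtain ⟨d, hd⟩ := exists_conj_inf_alt_le hM hB hD hD1 hχ₀ hU hk hne (IsPGroup.of_card hcard)
        (cycleGroup_le_centralizer x) fun h hh e he => conj_mem_cycleGroup x hh he
      have hws : w - 1 ≤ s := le_of_conj_le_map hs hd
        (fun a ha b hb => hcomm a ha.1 b hb.1) (fun a ha => hexp a ha.1)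
        (two_pow_dvd_card_inf_alt hcard)
      have h5 := Nat.pow_le_pow_right (show 0 < 2 by omega) hws
      rcases hw3.eq_or_lt with rfl | hw4
      · rw [if_neg (by decide)] at hfix
        rw [numPartitions_three] at hle
        norm_num at h5
        omega
      · have h6 := numPartitions_add_half_lt hw4
        split_ifs at hfix <;> omega

theorem blockRank_alt_lt_pow (hM : IsPModular p M) (hB : IsPBlock M B)
    (hD : IsDefectGroup p M B D) (hD1 : D ≠ ⊥) {s : ℕ} (hs : SectionalPRankLE p s D) :
    blockRank p B < p ^ s := by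
  haveI : M.IsMaximal := hM.2.1
  haveI : M.IsPrime := Ideal.IsMaximal.isPrime inferInstance
  rcases hp.out.eq_two_or_odd' with h2 | ⟨h, hh⟩
  · exact blockRank_alt_lt_pow_two h2 hM hB hD hD1 hs
  · exact blockRank_alt_lt_pow_odd hM hB hD hD1 hs hh

end CfsgLib.SymChar
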