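import Cfsg.Agent.Lib.SymChar.Cores
import Cfsg.Agent.Lib.SymChar.Defect
import Cfsg.Agent.Lib.BrauerCharacters.Consequences
import Cfsg.Agent.Lib.BrauerCharacters.Rank

/-!
# Blocks of symmetric groups

Every block lies inside one core, so its rank is at most the number of `(p-1)`-multipartitions of
the weight `w`; a character of weight `w` does not vanish at a product of `w` cycles of length
`p`, so the defect groups contain an elementary abelian subgroup of order `p ^ w`.
-/

set_option autoImplicit false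
set_option linter.unusedSectionVars false
set_option linter.style.haveILetI false

namespace CfsgLib.SymChar

open Equiv Finset Cfsg CfsgLib.CharTheory CfsgLib.BrauerCharacters
open scoped Nat ComplexConjugate

variable {p N n : ℕ}

theorem prime_dvd_lcm_iff (hp : p.Prime) (m : Multiset ℕ) : p ∣ m.lcm ↔ ∃ k ∈ m, p ∣ k := by
  induction m using Multiset.induction_on with
  | empty => simp [hp.ne_one]
  | cons a m ih =>
    rw [Multiset.lcm_cons]
    constructor
    · intro h
      rcases hp.dvd_mul.1 (h.trans (Nat.lcm_dvd_mul a m.lcm)) with h | h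
      · exact ⟨a, Multiset.mem_cons_self a m, h⟩
      · obtain ⟨k, hk, hpk⟩ := ih.1 h
        exact ⟨k, Multiset.mem_cons_of_mem hk, hpk⟩
    · rintro ⟨k, hk, hpk⟩
      rcases Multiset.mem_cons.1 hk with rfl | hk
      · exact hpk.trans (dvd_lcm_left _ _)
      · exact (ih.2 ⟨k, hk, hpk⟩).trans (dvd_lcm_right _ _)

theorem not_dvd_orderOf_iff (hp : p.Prime) (g : Perm (Fin n)) :
    ¬ p ∣ orderOf g ↔ RegParts p (parts g) := by
  rw [← Perm.lcm_cycleType, prime_dvd_lcm_iff hp]
  constructor
  · intro h k hk hpk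
    rw [parts, Perm.parts_partition, Multiset.mem_add] at hk
    rcases hk with hk | hk
    · exact h ⟨k, hk, hpk⟩
    · rw [Multiset.eq_of_mem_replicate hk] at hpk
      exact hp.one_lt.ne' (Nat.dvd_one.1 hpk)
  · rintro h ⟨k, hk, hpk⟩
    refine h k ?_ hpk
    rw [parts, Perm.parts_partition, Multiset.mem_add]
    exact Or.inl hk

theorem regInner_chi (hp : p.Prime) (S U : ↥(wSets N n)) :
    regInner p (chi S : Perm (Fin n) → ℂ) (chi U : Perm (Fin n) → ℂ) =
      sgn S * sgn U * (∑ g ∈ regPerms p n, theta S g * theta U g) / (n ! : ℂ) := by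
  classical
  have h : ∀ g : Perm (Fin n), pRegularPart p (chi S : Perm (Fin n) → ℂ) g *
      conj ((chi U : Perm (Fin n) → ℂ) g) =
      if RegParts p (parts g) then sgn S * sgn U * (theta S g * theta U g) else 0 := by
    intro g
    rw [pRegularPart_apply, chi_apply, chi_apply, map_mul, conj_sgn,
      show conj (theta U g) = theta U g from conj_thetaFun _ g]
    by_cases hg : RegParts p (parts g)
    · rw [if_pos hg, if_neg ((not_dvd_orderOf_iff hp g).2 hg)]; ring
    · rw [if_neg hg, if_pos (not_not.1 fun h => hg ((not_dvd_orderOf_iff hp g).1 h)), zero_mul]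
  rw [regInner, classInner, sum_congr rfl fun g _ => h g, ← sum_filter, ← mul_sum,
    Nat.card_eq_fintype_card, Fintype.card_perm, Fintype.card_fin, regPerms]
  ring

/-- The integer `n!` times the regular norm. -/
noncomputable def regNorm (p : ℕ) (S : ↥(wSets N n)) : ℤ :=
  ∑ g ∈ regPerms p n, F (parts g) (tup S) * F (parts g) (tup S)

theorem regNorm_nonneg (S : ↥(wSets N n)) : 0 ≤ regNorm p S :=
  sum_nonneg fun _ _ => mul_self_nonneg _

theorem cast_regNorm (S : ↥(wSets N n)) :
    (regNorm p S : ℂ) = ∑ g ∈ regPerms p n, theta S g * theta S g := by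
  simp [regNorm, theta]

variable [hp : Fact p.Prime] {M : Ideal AlgInt} {B : Set (IrrCharacter (Perm (Fin n)))}

/-- The weight sets of the characters of a block. -/
noncomputable def blockSetsOf (hN : n ≤ N) (B : Set (IrrCharacter (Perm (Fin n)))) :
    Finset ↥(wSets N n) :=
  (blockFinset B).map (chiEquiv hN).symm.toEmbedding

theorem chi_symm (hN : n ≤ N) (χ : IrrCharacter (Perm (Fin n))) :
    chi ((chiEquiv hN).symm χ) = χ := (chiEquiv hN).apply_symm_apply χ

theorem exists_core (hM : IsPModular p M) (hB : IsPBlock M B) (hN : n ≤ N) :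
    ∃ S₀ : ↥(wSets N n), chi S₀ ∈ B ∧ ∀ χ ∈ B,
      (chiEquiv hN).symm χ ∈ coreSets p N n (runLen (p := p) (S₀ : Finset ℕ)) := by
  classical
  haveI : M.IsMaximal := hM.2.1
  obtain ⟨ψ, hψ, hψ0⟩ := exists_height_eq_zero (p := p) (B := B) (Blocks.isPBlock_nonempty hB)
  refine ⟨(chiEquiv hN).symm ψ, by rwa [chi_symm], fun χ hχ => ?_⟩
  rw [mem_coreSets]
  by_contra hne
  apply regEntry_ne_zero (weakOrth hM hB) hM hB hχ hψ hψ0
  rw [regEntry, ← chi_symm hN χ, ← chi_symm hN ψ, regInner_chi hp.out,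
    sum_regPerms_eq_zero hN hne]
  simp

theorem blockRank_le_numMulti (hM : IsPModular p M) (hB : IsPBlock M B) (hN : n ≤ N)
    {S₀ : ↥(wSets N n)}
    (hcore : ∀ χ ∈ B, (chiEquiv hN).symm χ ∈ coreSets p N n (runLen (p := p) (S₀ : Finset ℕ)))
    {w : ℕ} (hcw : ∀ r, w ≤ runLen (p := p) (S₀ : Finset ℕ) r)
    (hw : base N + n = coreBase p (runLen (p := p) (S₀ : Finset ℕ)) + p * w) :
    blockRank p B ≤ numMulti (p - 1) w := by
  classical
  haveI : M.IsMaximal := hM.2.1
  haveI : NeZero p := ⟨hp.out.ne_zero⟩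
  set c := runLen (p := p) (S₀ : Finset ℕ) with hc
  have hsum : ∑ r, c r = N := by
    exact (card_eq_sum_runner (p := p) (S₀ : Finset ℕ)).symm.trans (mem_wSets.1 S₀.2).1
  have hf : (n ! : ℂ) ≠ 0 := Nat.cast_ne_zero.2 n.factorial_ne_zero
  have h1 : (blockRank p B : ℂ) * (n ! : ℂ) =
      ((∑ S ∈ blockSetsOf hN B, regNorm p S : ℤ) : ℂ) := by
    rw [← sum_regInner_self_eq_blockRank (weakOrth hM hB), sum_mul, blockSetsOf, sum_map,
      Int.cast_sum]
    refine sum_congr rfl fun χ _ => ?_
    rw [Equiv.coe_toEmbedding, cast_regNorm]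
    conv_lhs => rw [← chi_symm hN χ, regInner_chi hp.out, sgn_mul_self, one_mul]
    rw [div_mul_cancel₀ _ hf]
  have h2 : (numMulti (p - 1) w : ℂ) * (n ! : ℂ) =
      ((∑ S ∈ coreSets p N n c, regNorm p S : ℤ) : ℂ) := by
    rw [← regTrace_eq_numMulti c hsum n hN w hcw hw, regTrace_eq_sum_regPerms, sum_mul,
      Int.cast_sum]
    exact sum_congr rfl fun S _ => by rw [cast_regNorm, div_mul_cancel₀ _ hf]
  have hsub : blockSetsOf hN B ⊆ coreSets p N n c := by
    intro S hS
    obtain ⟨χ, hχ, rfl⟩ := mem_map.1 hS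
    exact hcore χ (mem_blockFinset.1 hχ)
  have h3 : ((blockRank p B : ℤ) * (n ! : ℤ)) ≤ (numMulti (p - 1) w : ℤ) * (n ! : ℤ) := by
    rw [show (blockRank p B : ℤ) * (n ! : ℤ) = ∑ S ∈ blockSetsOf hN B, regNorm p S by
        exact_mod_cast h1,
      show (numMulti (p - 1) w : ℤ) * (n ! : ℤ) = ∑ S ∈ coreSets p N n c, regNorm p S by
        exact_mod_cast h2]
    exact sum_le_sum_of_subset_of_nonneg hsub fun S _ _ => regNorm_nonneg S
  exact_mod_cast le_of_mul_le_mul_right h3 (by exact_mod_cast n.factorial_pos)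

end CfsgLib.SymChar
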