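import Cfsg.Agent.Lib.SymChar.Alt
import Cfsg.Agent.Lib.CharTheory.Orthogonality
import Cfsg.Agent.Lib.CharTheory.PermChar
import Mathlib.GroupTheory.Perm.Centralizer
import Mathlib.Data.Fin.Tuple.Sort

/-!
# The irreducible characters of the symmetric group

For `N ≥ n` the functions `g ↦ F (parts g) β`, `β` strictly increasing of weight `n`, are up to
sign exactly the irreducible characters of `Perm (Fin n)`.
-/

set_option autoImplicit false
set_option linter.unusedSectionVars false

namespace CfsgLib.SymChar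

open Equiv Finset MvPolynomial Cfsg
open scoped Nat ComplexConjugate

variable {N n : ℕ}

/-- The cycle lengths, fixed points included. -/
def parts (g : Perm (Fin n)) : Multiset ℕ := g.partition.parts

theorem parts_eq_of_isConj {g h : Perm (Fin n)} (e : IsConj g h) : parts g = parts h := by
  rw [parts, parts, Perm.partition_eq_of_isConj.1 e]

theorem isConj_iff_parts {g h : Perm (Fin n)} : IsConj g h ↔ parts g = parts h := by
  rw [Perm.partition_eq_of_isConj, Nat.Partition.ext_iff]
  rfl

theorem sum_parts (g : Perm (Fin n)) : (parts g).sum = n := by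
  rw [parts, g.partition.parts_sum, Fintype.card_fin]

/-- The orbits of a permutation: its cycles and its fixed points. -/
abbrev Orb (g : Perm (Fin n)) : Type :=
  {c // c ∈ g.cycleFactorsFinset} ⊕ {a : Fin n // g a = a}

/-- The orbit of a point. -/
def toOrb (g : Perm (Fin n)) (a : Fin n) : Orb g :=
  if h : g a = a then Sum.inr ⟨a, h⟩
  else Sum.inl ⟨g.cycleOf a, Perm.cycleOf_mem_cycleFactorsFinset_iff.2 (Perm.mem_support.2 h)⟩

/-- The size of an orbit. -/
def orbSize (g : Perm (Fin n)) : Orb g → ℕ :=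
  Sum.elim (fun c => (c : Perm (Fin n)).support.card) (fun _ => 1)

theorem parts_eq_map (g : Perm (Fin n)) : parts g = (univ : Finset (Orb g)).val.map (orbSize g) := by
  have h1 : (univ : Finset (Orb g)).val =
      (univ : Finset {c // c ∈ g.cycleFactorsFinset}).val.map Sum.inl +
        (univ : Finset {a : Fin n // g a = a}).val.map Sum.inr := by
    rw [← univ_disjSum_univ]; rfl
  rw [parts, Perm.parts_partition, h1, Multiset.map_add, Multiset.map_map, Multiset.map_map,
    Perm.cycleType_def]
  congr 1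
  · have hv : (univ : Finset {c // c ∈ g.cycleFactorsFinset}).val.map Subtype.val =
        g.cycleFactorsFinset.val := by
      rw [Finset.univ_eq_attach, Finset.attach_val]
      exact Multiset.attach_map_val _
    conv_lhs => rw [← hv, Multiset.map_map]
    rfl
  · rw [show (orbSize g ∘ Sum.inr : {a : Fin n // g a = a} → ℕ) = fun _ => 1 from rfl,
      Multiset.map_const']
    congr 1
    rw [← Finset.card_def, card_univ, Fintype.card_subtype, Fintype.card_fin]
    have h2 := card_filter_add_card_filter_not (s := (univ : Finset (Fin n))) (fun a => g a = a)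
    rw [card_univ, Fintype.card_fin] at h2
    have h3 : g.support = univ.filter fun a => ¬ g a = a := by ext a; simp
    rw [h3]
    omega

theorem toOrb_apply (g : Perm (Fin n)) (a : Fin n) : toOrb g (g a) = toOrb g a := by
  by_cases h : g a = a
  · rw [h]
  · have h' : g (g a) ≠ g a := fun e => h (g.injective e)
    simp only [toOrb, dif_neg h, dif_neg h', Sum.inl.injEq, Subtype.mk.injEq]
    exact Perm.cycleOf_self_apply g a ▸ rfl

theorem sameCycle_of_toOrb_eq {g : Perm (Fin n)} {a b : Fin n} (h : toOrb g a = toOrb g b) :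
    g.SameCycle a b := by
  by_cases ha : g a = a <;> by_cases hb : g b = b <;>
    simp [toOrb, ha, hb] at h
  · exact h ▸ Perm.SameCycle.refl g a
  · exact (Perm.sameCycle_iff_cycleOf_eq_of_mem_support (Perm.mem_support.2 ha)
      (Perm.mem_support.2 hb)).2 h

theorem comp_eq_iff {α : Type*} (g : Perm (Fin n)) (f : Fin n → α) :
    f ∘ g = f ↔ ∀ a b, toOrb g a = toOrb g b → f a = f b := by
  constructor
  · intro h a b hab
    obtain ⟨i, rfl⟩ := (sameCycle_of_toOrb_eq hab).exists_nat_pow_eq
    clear hab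
    induction i with
    | zero => rfl
    | succ i ih => rw [pow_succ', Perm.mul_apply, ih]; exact (congrFun h _).symm
  · intro h
    funext a
    exact h _ _ (toOrb_apply g a)

theorem toOrb_surjective (g : Perm (Fin n)) : Function.Surjective (toOrb g) := by
  rintro (⟨c, hc⟩ | ⟨a, ha⟩)
  · obtain ⟨hcyc, hsup⟩ := Perm.mem_cycleFactorsFinset_iff.1 hc
    obtain ⟨a, ha⟩ := hcyc.nonempty_support
    have hga : g a ≠ a := fun e => Perm.mem_support.1 ha ((hsup a ha).trans e)
    refine ⟨a, ?_⟩
    simp only [toOrb, dif_neg hga, Sum.inl.injEq, Subtype.mk.injEq]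
    exact (Perm.cycle_is_cycleOf ha hc).symm
  · exact ⟨a, by simp [toOrb, ha]⟩

theorem card_fiber_toOrb (g : Perm (Fin n)) (o : Orb g) :
    (univ.filter fun a => toOrb g a = o).card = orbSize g o := by
  rcases o with ⟨c, hc⟩ | ⟨b, hb⟩
  · show _ = c.support.card
    refine congrArg Finset.card ?_
    ext a
    simp only [mem_filter, mem_univ, true_and]
    constructor
    · intro h
      by_cases ha : g a = a
      · simp [toOrb, ha] at h
      · simp only [toOrb, dif_neg ha, Sum.inl.injEq, Subtype.mk.injEq] at h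
        rw [← h, Perm.mem_support_cycleOf_iff]
        exact ⟨Perm.SameCycle.refl g a, Perm.mem_support.2 ha⟩
    · intro ha
      obtain ⟨-, hsup⟩ := Perm.mem_cycleFactorsFinset_iff.1 hc
      have hga : g a ≠ a := fun e => Perm.mem_support.1 ha ((hsup a ha).trans e)
      simp only [toOrb, dif_neg hga, Sum.inl.injEq, Subtype.mk.injEq]
      exact (Perm.cycle_is_cycleOf ha hc).symm
  · rw [show (univ.filter fun a => toOrb g a = Sum.inr ⟨b, hb⟩) = {b} from ?_]
    · rfl
    ext a
    simp only [mem_filter, mem_univ, true_and, mem_singleton]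
    constructor
    · intro h
      by_cases ha : g a = a <;> simp [toOrb, ha] at h
      exact h
    · rintro rfl
      simp [toOrb, hb]

/-- The multiplicities of the values of a function. -/
def cnt {Ω : Type*} [DecidableEq Ω] (f : Fin n → Ω) (ω : Ω) : ℕ :=
  (univ.filter fun a => f a = ω).card

theorem prod_X_eq_monomial (f : Fin n → Fin N) :
    ∏ a, (X (f a) : MvPolynomial (Fin N) ℤ) = monomial (expo (cnt f)) 1 := by
  rw [monomial_eq, C_1, one_mul, Finsupp.prod_fintype _ _ fun i => by simp,
    ← prod_fiberwise univ f fun a => (X (f a) : MvPolynomial (Fin N) ℤ)]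
  refine prod_congr rfl fun i _ => ?_
  rw [prod_congr rfl (g := fun _ => (X i : MvPolynomial (Fin N) ℤ)) fun a ha => by
    rw [(mem_filter.1 ha).2], prod_const]
  rfl

/-- The power sums of the cycle type enumerate the invariant colourings. -/
theorem pProd_parts (g : Perm (Fin n)) :
    pProd N (parts g) = ∑ f ∈ univ.filter (fun f : Fin n → Fin N => f ∘ g = f), ∏ a, X (f a) := by
  rw [pProd, parts_eq_map, Multiset.map_map]
  show ∏ o, psum (Fin N) ℤ (orbSize g o) = _
  simp only [psum]
  rw [Fintype.prod_sum]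
  refine sum_bij (fun h _ => h ∘ toOrb g) (fun h _ => ?_) (fun h _ h' _ e => ?_) (fun f hf => ?_)
    fun h _ => ?_
  · refine mem_filter.2 ⟨mem_univ _, (comp_eq_iff g _).2 fun a b e => ?_⟩
    simp [e]
  · funext o
    obtain ⟨a, rfl⟩ := toOrb_surjective g o
    exact congrFun e a
  · refine ⟨f ∘ Function.surjInv (toOrb_surjective g), mem_univ _, funext fun a => ?_⟩
    exact (comp_eq_iff g f).1 (mem_filter.1 hf).2 _ _ (Function.surjInv_eq _ _)
  · rw [← prod_fiberwise univ (toOrb g) fun a => (X ((h ∘ toOrb g) a) : MvPolynomial (Fin N) ℤ)]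
    refine prod_congr rfl fun o _ => ?_
    rw [prod_congr rfl (g := fun _ => (X (h o) : MvPolynomial (Fin N) ℤ)) fun a ha => by
      rw [Function.comp_apply, (mem_filter.1 ha).2], prod_const, card_fiber_toOrb]

theorem coeff_pProd_parts (g : Perm (Fin n)) (α : Fin N → ℕ) :
    coeff (expo α) (pProd N (parts g)) =
      ((univ.filter fun f : Fin n → Fin N => f ∘ g = f ∧ cnt f = α).card : ℤ) := by
  classical
  rw [pProd_parts, coeff_sum, ← filter_filter, card_filter, Nat.cast_sum]
  refine sum_congr rfl fun f _ => ?_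
  rw [prod_X_eq_monomial, coeff_monomial]
  by_cases h : cnt f = α
  · rw [if_pos h, if_pos (congrArg expo h)]; rfl
  · rw [if_neg h, if_neg fun e => h (expo_inj.1 e)]; rfl

/-- Weighted orbit counting for colourings. -/
theorem sum_fixed_colourings {Ω : Type*} [Fintype Ω] [DecidableEq Ω] {R : Type*} [CommRing R]
    (W : (Ω → ℕ) → R) :
    ∑ g : Perm (Fin n), ∑ f ∈ univ.filter (fun f : Fin n → Ω => f ∘ g = f), W (cnt f) =
      ∑ c ∈ (univ : Finset Ω).piAntidiag n, (n ! : R) * W c := by
  classical
  rw [sum_sigma', ← sum_fiberwise_of_maps_to (t := (univ : Finset Ω).piAntidiag n)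
    (g := fun x : (_ : Perm (Fin n)) × (Fin n → Ω) => cnt x.2) fun x _ => by
      rw [mem_piAntidiag]
      refine ⟨?_, fun ω _ => mem_univ ω⟩
      show ∑ ω, (univ.filter fun a => x.2 a = ω).card = n
      rw [← card_eq_sum_card_fiberwise (fun a _ => mem_univ _), card_univ, Fintype.card_fin]]
  refine sum_congr rfl fun c hc => ?_
  rw [sum_congr rfl fun x hx => congrArg W (mem_filter.1 hx).2, sum_const, nsmul_eq_mul]
  congr 1
  obtain ⟨hsum, -⟩ := mem_piAntidiag.1 hc
  obtain ⟨f₀, hf₀⟩ : ∃ f₀ : Fin n → Ω, cnt f₀ = c := by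
    have e : Fin n ≃ Σ ω : Ω, Fin (c ω) := Fintype.equivOfCardEq (by simp [hsum])
    refine ⟨fun a => (e a).1, funext fun ω => ?_⟩
    rw [cnt, show (univ.filter fun a => (e a).1 = ω) =
      ((univ : Finset (Σ ω : Ω, Fin (c ω))).filter fun x => x.1 = ω).map e.symm.toEmbedding from ?_,
      card_map, show ((univ : Finset (Σ ω : Ω, Fin (c ω))).filter fun x => x.1 = ω) =
        (univ : Finset (Fin (c ω))).map ⟨Sigma.mk ω, sigma_mk_injective⟩ from ?_, card_map,
      card_univ, Fintype.card_fin]
    · ext ⟨ω', x⟩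
      simp only [mem_filter, mem_univ, true_and, mem_map, Function.Embedding.coeFn_mk]
      exact ⟨by rintro rfl; exact ⟨x, rfl⟩, by rintro ⟨y, hy⟩; exact (congrArg Sigma.fst hy).symm⟩
    · ext a
      simp only [mem_map_equiv, Equiv.symm_symm, mem_filter, mem_univ, true_and]
  have hh : ∀ f : Fin n → Ω, cnt f = c → ∃ h : Perm (Fin n), f₀ ∘ h = f := fun f hf =>
    ⟨Equiv.ofFiberEquiv fun ω => Fintype.equivOfCardEq (by
        rw [Fintype.card_subtype, Fintype.card_subtype]
        exact (congrFun hf ω).trans (congrFun hf₀ ω).symm),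
      funext fun a => Equiv.ofFiberEquiv_map _ a⟩
  choose! h hh using hh
  rw [show (n ! : R) = ((univ : Finset (Perm (Fin n))).card : R) by
    rw [card_univ, Fintype.card_perm, Fintype.card_fin]]
  congr 1
  refine card_bij' (fun x _ => h x.2 * x.1) (fun y _ => ⟨(h (f₀ ∘ y))⁻¹ * y, f₀ ∘ y⟩)
    (fun _ _ => mem_univ _) (fun y _ => ?_) (fun x hx => ?_) fun y _ => by simp
  · have hc' : cnt (f₀ ∘ y) = c := funext fun ω => by
      rw [← hf₀]
      exact card_equiv y fun a => by simp
    refine mem_filter.2 ⟨mem_sigma.2 ⟨mem_univ _, mem_filter.2 ⟨mem_univ _, ?_⟩⟩, hc'⟩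
    funext a
    have := congrFun (hh (f₀ ∘ y) hc') (((h (f₀ ∘ y))⁻¹ * y) a)
    simp only [Function.comp_apply, Perm.mul_apply, Perm.coe_inv, Equiv.apply_symm_apply] at this ⊢
    exact this.symm
  · obtain ⟨hx1, hx2⟩ := mem_filter.1 hx
    have hfix : x.2 ∘ x.1 = x.2 := (mem_filter.1 (mem_sigma.1 hx1).2).2
    have e : f₀ ∘ (h x.2 * x.1 : Perm (Fin n)) = x.2 := by
      funext a
      exact (congrFun (hh x.2 hx2) (x.1 a)).trans (congrFun hfix a)
    obtain ⟨x1, x2⟩ := x
    simp only at e ⊢
    rw [e]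
    simp

theorem sum_weight_eq_prod_hPoly (α : Fin N → ℕ) (hα : ∑ j, α j = n) :
    ∑ c ∈ (univ : Finset (Fin N × Fin N)).piAntidiag n,
      (if (fun j => ∑ i, c (i, j)) = α then ∏ x : Fin N × Fin N,
        (X x.1 : MvPolynomial (Fin N) ℤ) ^ c x else 0) = ∏ j, hPoly N (α j) := by
  classical
  simp only [hPoly]
  rw [prod_univ_sum, ← sum_filter]
  refine sum_bij' (fun c _ j i => c (i, j)) (fun d _ x => d x.2 x.1) (fun c hc => ?_)
    (fun d hd => ?_) (fun c _ => rfl) (fun d _ => rfl) fun c _ => ?_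
  · rw [Fintype.mem_piFinset]
    intro j
    rw [mem_piAntidiag]
    exact ⟨congrFun (mem_filter.1 hc).2 j, fun i _ => mem_univ i⟩
  · rw [Fintype.mem_piFinset] at hd
    have hd' : ∀ j, ∑ i, d j i = α j := fun j => (mem_piAntidiag.1 (hd j)).1
    refine mem_filter.2 ⟨mem_piAntidiag.2 ⟨?_, fun x _ => mem_univ x⟩, funext hd'⟩
    rw [Fintype.sum_prod_type_right]
    simp only [hd', hα]
  · rw [Fintype.prod_prod_type_right]

theorem sum_coeff_smul_pProd (α : Fin N → ℕ) (hα : ∑ j, α j = n) :
    ∑ g : Perm (Fin n), coeff (expo α) (pProd N (parts g)) • pProd N (parts g) =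
      (n ! : ℤ) • ∏ j, hPoly N (α j) := by
  classical
  have h := sum_fixed_colourings (n := n) (Ω := Fin N × Fin N) (fun c =>
    if (fun j => ∑ i, c (i, j)) = α then ∏ x : Fin N × Fin N,
      (X x.1 : MvPolynomial (Fin N) ℤ) ^ c x else 0)
  rw [← mul_sum, sum_weight_eq_prod_hPoly α hα] at h
  rw [zsmul_eq_mul, Int.cast_natCast, ← h]
  refine sum_congr rfl fun g _ => ?_
  rw [coeff_pProd_parts, pProd_parts, zsmul_eq_mul, Int.cast_natCast, ← nsmul_eq_mul, ← sum_const,
    ← sum_product' ]
  rw [← sum_filter]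
  refine (sum_bij' (fun f _ => ((fun a => (f a).2), fun a => (f a).1))
    (fun x _ a => (x.2 a, x.1 a)) (fun f hf => ?_) (fun x hx => ?_) (fun f _ => rfl)
    (fun x _ => rfl) ?_).symm
  · obtain ⟨hf1, hf2⟩ := mem_filter.1 hf
    have hf1' := (mem_filter.1 hf1).2
    refine mem_product.2 ⟨mem_filter.2 ⟨mem_univ _, ?_, ?_⟩, mem_filter.2 ⟨mem_univ _, ?_⟩⟩
    · exact funext fun a => congrArg Prod.snd (congrFun hf1' a)
    · rw [← hf2]
      funext j
      rw [cnt, card_eq_sum_card_fiberwise (t := univ) (f := fun a => (f a).1) fun a _ => mem_univ _]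
      exact sum_congr rfl fun i _ => by
        rw [cnt, filter_filter]
        exact congrArg Finset.card (filter_congr fun a _ => by rw [Prod.ext_iff, and_comm])
    · exact funext fun a => congrArg Prod.fst (congrFun hf1' a)
  · obtain ⟨hx1, hx2⟩ := mem_product.1 hx
    obtain ⟨-, hx1a, hx1b⟩ := mem_filter.1 hx1
    refine mem_filter.2 ⟨mem_filter.2 ⟨mem_univ _, funext fun a => Prod.ext
      (congrFun (mem_filter.1 hx2).2 a) (congrFun hx1a a)⟩, ?_⟩
    rw [← hx1b]
    funext j
    rw [cnt, card_eq_sum_card_fiberwise (t := univ) (f := x.2) fun a _ => mem_univ _]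
    exact sum_congr rfl fun i _ => by
      rw [cnt, filter_filter]
      exact congrArg Finset.card (filter_congr fun a _ => by rw [Prod.ext_iff, and_comm])
  · intro f _
    rw [← prod_fiberwise univ f fun a => (X (f a).1 : MvPolynomial (Fin N) ℤ)]
    refine prod_congr rfl fun x _ => ?_
    rw [prod_congr rfl (g := fun _ => (X x.1 : MvPolynomial (Fin N) ℤ)) fun a ha => by
      rw [(mem_filter.1 ha).2], prod_const]
    rfl

theorem sum_sub_eq {γ : Fin N → ℕ} (hγ : ∑ i, γ i = base N + n) (σ : Perm (Fin N))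
    (h : ∀ j, (σ j : ℕ) ≤ γ j) : ∑ j, (γ j - (σ j : ℕ)) = n := by
  rw [sum_tsub_distrib _ fun j _ => h j, hγ,
    Fintype.sum_equiv σ (fun j => (σ j : ℕ)) (fun j => (j : ℕ)) fun _ => rfl]
  exact Nat.add_sub_cancel_left _ _

/-- Orthonormality. -/
theorem sum_F_mul_F {β γ : Fin N → ℕ} (hβ : StrictMono β) (hγ : StrictMono γ)
    (hsum : ∑ i, γ i = base N + n) :
    ∑ g : Perm (Fin n), F (parts g) β * F (parts g) γ = if γ = β then (n ! : ℤ) else 0 := by
  classical
  have h : ∀ g : Perm (Fin n), F (parts g) γ = ∑ σ : Perm (Fin N), (Perm.sign σ : ℤ) *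
      if ∀ i, (σ i : ℕ) ≤ γ i then coeff (expo fun i => γ i - (σ i : ℕ)) (pProd N (parts g))
      else 0 := fun g => by
    rw [F, coeff_delta_mul]
    refine Fintype.sum_equiv (Equiv.inv (Perm (Fin N))) _ _ fun σ => ?_
    simp [Perm.sign_inv, Perm.coe_inv]
  calc ∑ g : Perm (Fin n), F (parts g) β * F (parts g) γ
      = ∑ σ : Perm (Fin N), (Perm.sign σ : ℤ) * if ∀ i, (σ i : ℕ) ≤ γ i then coeff (expo β)
          (delta N * ∑ g : Perm (Fin n), coeff (expo fun i => γ i - (σ i : ℕ))
            (pProd N (parts g)) • pProd N (parts g)) else 0 := by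
        simp only [h, mul_sum]
        rw [sum_comm]
        refine sum_congr rfl fun σ _ => ?_
        split_ifs with hσ
        · rw [coeff_sum, mul_sum]
          refine sum_congr rfl fun g _ => ?_
          rw [mul_smul_comm, coeff_smul, smul_eq_mul, F]
          ring
        · simp
    _ = (n ! : ℤ) * coeff (expo β) (delta N * (hMat γ).det) := by
        rw [det_hMat, mul_sum, coeff_sum, mul_sum]
        refine sum_congr rfl fun σ _ => ?_
        rw [mul_smul_comm, coeff_smul, smul_eq_mul]
        split_ifs with hσ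
        · rw [sum_coeff_smul_pProd _ (sum_sub_eq hsum σ hσ), mul_smul_comm, coeff_smul,
            smul_eq_mul]
          ring
        · simp
    _ = _ := by rw [coeff_delta_mul_det_hMat hβ hγ]; split_ifs <;> simp

end CfsgLib.SymChar
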