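import Cfsg.Agent.Lib.SymChar.Runners

/-!
# Cores and the `p`-regular classes

Removing a hook of length divisible by `p` keeps the runner lengths. Hence the projection onto
the characters of given runner lengths respects the sections, regular inner products between
different cores vanish, and the regular trace on a core counts `(p-1)`-multipartitions.
-/

set_option autoImplicit false
set_option linter.unusedSectionVars false
set_option linter.style.haveILetI false

namespace CfsgLib.SymChar

open Equiv Finset Cfsg
open scoped Nat ComplexConjugate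

variable {p N n n' : ℕ}

/-- Runner lengths of an exponent vector. -/
def tupLen (p : ℕ) (β : Fin N → ℕ) : Fin p → ℕ :=
  fun r => (univ.filter fun i => β i % p = (r : ℕ)).card

theorem tupLen_comp (β : Fin N → ℕ) (π : Perm (Fin N)) : tupLen p (β ∘ π) = tupLen p β :=
  funext fun _ => card_equiv π fun _ => by simp

theorem tupLen_update {β : Fin N → ℕ} {i : Fin N} {k : ℕ} (hk : p ∣ k) (hki : k ≤ β i) :
    tupLen p (Function.update β i (β i - k)) = tupLen p β := by
  refine funext fun r => congrArg card (filter_congr fun a _ => ?_)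
  rcases eq_or_ne a i with rfl | ha
  · obtain ⟨c, rfl⟩ := hk
    rw [Function.update_self, Nat.sub_mul_mod hki]
  · rw [Function.update_of_ne ha]

theorem tupLen_tup (S : ↥(wSets N n)) : tupLen p (tup S) = runLen (p := p) (S : Finset ℕ) := by
  funext r
  rw [runLen, card_runner, tupLen]
  conv_rhs => rw [← image_tup S, filter_image,
    card_image_of_injective _ (strictMono_tup S).injective]

/-- The weight sets with given runner lengths. -/
def coreSets (p N n : ℕ) (c : Fin p → ℕ) : Finset ↥(wSets N n) :=
  univ.filter fun S => runLen (p := p) (S : Finset ℕ) = c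

theorem mem_coreSets {c : Fin p → ℕ} {S : ↥(wSets N n)} :
    S ∈ coreSets p N n c ↔ runLen (p := p) (S : Finset ℕ) = c := by simp [coreSets]

theorem card_coreSets (c : Fin p → ℕ) :
    (coreSets p N n c).card = ((wSets N n).filter fun S => runLen (p := p) S = c).card := by
  rw [coreSets, univ_eq_attach, filter_attach (fun S => runLen (p := p) S = c) (wSets N n),
    card_map, card_attach]

/-- The kernel of the projection onto a core. -/
noncomputable def coreKer (c : Fin p → ℕ) (g₀ g : Perm (Fin n)) : ℂ :=
  (∑ S ∈ coreSets p N n c, theta S g₀ * theta S g) / (n ! : ℂ)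

theorem sum_coreKer_mul (hN : n ≤ N) (c : Fin p → ℕ) (g₀ : Perm (Fin n)) (β : Fin N → ℕ) :
    ∑ g, coreKer (N := N) c g₀ g * thetaFun β g =
      if tupLen p β = c then thetaFun β g₀ else 0 := by
  classical
  by_cases hinj : Function.Injective β
  · by_cases hs : ∑ i, β i = base N + n
    · obtain ⟨U, π, e⟩ := exists_tup hinj hs
      have hval : ∀ g : Perm (Fin n), thetaFun β g = ((Perm.sign π : ℤ) : ℂ) * theta U g := by
        intro g
        rw [theta, ← e, F_comp, thetaFun, Int.cast_mul, ← mul_assoc, ← Int.cast_mul,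
          ← Units.val_mul, Int.units_mul_self]
        simp
      have hlen : tupLen p β = runLen (p := p) (U : Finset ℕ) := by
        rw [← tupLen_tup, ← e, tupLen_comp]
      rw [hlen, if_congr (mem_coreSets (S := U)).symm rfl rfl]
      simp only [coreKer, hval]
      calc ∑ g, (∑ S ∈ coreSets p N n c, theta S g₀ * theta S g) / (n ! : ℂ) *
            (((Perm.sign π : ℤ) : ℂ) * theta U g)
          = ((Perm.sign π : ℤ) : ℂ) * ((∑ S ∈ coreSets p N n c,
              theta S g₀ * ∑ g, theta S g * theta U g) / (n ! : ℂ)) := by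
            simp only [mul_sum, sum_div, sum_mul]
            rw [sum_comm]
            exact sum_congr rfl fun S _ => sum_congr rfl fun g _ => by ring
        _ = _ := by
            simp only [sum_theta_mul_theta, mul_ite, mul_zero, sum_ite_eq']
            split_ifs
            · rw [mul_div_assoc, div_self (Nat.cast_ne_zero.2 n.factorial_ne_zero), mul_one]
            · simp
    · have h0 : ∀ g : Perm (Fin n), thetaFun β g = 0 := fun g => by
        rw [thetaFun, show F (parts g) β = 0 from by_contra fun h2 => hs (by
          rw [sum_eq_of_F_ne_zero h2, sum_parts]), Int.cast_zero]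
      simp [h0]
  · have h0 : ∀ g : Perm (Fin n), thetaFun β g = 0 := fun g => by
      rw [thetaFun, F_eq_zero_of_not_injective _ hinj, Int.cast_zero]
    simp [h0]

/-- The projection commutes with adding parts divisible by `p`. -/
theorem sum_coreKer_mul_add (hN : n ≤ N) (c : Fin p → ℕ) (g₀ : Perm (Fin n)) (m : Multiset ℕ)
    (hm : ∀ k ∈ m, p ∣ k) : ∀ β : Fin N → ℕ,
    ∑ g, coreKer (N := N) c g₀ g * (F (m + parts g) β : ℂ) =
      if tupLen p β = c then (F (m + parts g₀) β : ℂ) else 0 := by
  classical
  induction m using Multiset.induction_on with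
  | empty =>
    intro β
    simpa [thetaFun] using sum_coreKer_mul hN c g₀ β
  | cons k m ih =>
    intro β
    simp only [Multiset.cons_add, F_cons, Int.cast_sum, mul_sum]
    rw [sum_comm]
    have : ∀ i : Fin N, (∑ g, coreKer (N := N) c g₀ g *
        (((if k ≤ β i then F (m + parts g) (Function.update β i (β i - k)) else 0) : ℤ) : ℂ)) =
        if tupLen p β = c then
          (((if k ≤ β i then F (m + parts g₀) (Function.update β i (β i - k)) else 0) : ℤ) : ℂ)
        else 0 := by
      intro i
      by_cases hki : k ≤ β i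
      · simp only [if_pos hki]
        rw [ih (fun k' hk' => hm k' (Multiset.mem_cons_of_mem hk')),
          tupLen_update (hm k (Multiset.mem_cons_self k m)) hki]
      · simp [if_neg hki]
    simp only [this]
    split_ifs
    · rfl
    · simp

theorem exists_parts_add (m : Multiset ℕ) (hpos : ∀ k ∈ m, 0 < k) (g : Perm (Fin n'))
    (hsum : n = m.sum + n') : ∃ x : Perm (Fin n), parts x = m + parts g :=
  exists_parts ⟨m + parts g, fun {a} ha => (Multiset.mem_add.1 ha).elim (hpos a)
    fun h => g.partition.parts_pos h, by rw [Multiset.sum_add, sum_parts, hsum]⟩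

theorem sum_core_theta_mul (hN : n ≤ N) (c : Fin p → ℕ) {m : Multiset ℕ}
    (hm : ∀ k ∈ m, p ∣ k) (hpos : ∀ k ∈ m, 0 < k) {g₀ : Perm (Fin n')} {x : Perm (Fin n)}
    (hx : parts x = m + parts g₀) (y : Perm (Fin n)) :
    ∑ S ∈ coreSets p N n c, theta S x * theta S y =
      ∑ g : Perm (Fin n'), coreKer (N := N) c g₀ g *
        (if m + parts g = parts y then (n ! : ℂ) / numParts n (parts y) else 0) := by
  classical
  have hsum : n = m.sum + n' := by
    have h := congrArg Multiset.sum hx
    rwa [sum_parts, Multiset.sum_add, sum_parts] at h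
  have hN' : n' ≤ N := by omega
  choose z hz using fun g : Perm (Fin n') => exists_parts_add m hpos g hsum
  have h : ∀ S : ↥(wSets N n), (if S ∈ coreSets p N n c then theta S x else 0) =
      ∑ g : Perm (Fin n'), coreKer (N := N) c g₀ g * theta S (z g) := by
    intro S
    simp only [theta, hz, hx]
    rw [sum_coreKer_mul_add hN' c g₀ m hm (tup S), tupLen_tup]
    exact if_congr mem_coreSets rfl rfl
  rw [← univ_inter (coreSets p N n c), ← sum_ite_mem]
  calc ∑ S, (if S ∈ coreSets p N n c then theta S x * theta S y else 0)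
      = ∑ S, (∑ g : Perm (Fin n'), coreKer (N := N) c g₀ g * theta S (z g)) * theta S y :=
        sum_congr rfl fun S _ => by rw [← h]; split_ifs <;> simp
    _ = ∑ g : Perm (Fin n'), coreKer (N := N) c g₀ g * ∑ S, theta S (z g) * theta S y := by
        simp only [sum_mul, mul_sum]
        rw [sum_comm]
        exact sum_congr rfl fun g _ => sum_congr rfl fun S _ => by ring
    _ = _ := sum_congr rfl fun g _ => by
        rw [sum_theta_col hN, hz]
        split_ifs with he <;> simp [he]

/-- The parts divisible by `p`. -/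
def singParts (p : ℕ) (m : Multiset ℕ) : Multiset ℕ := m.filter fun k => p ∣ k

/-- No part is divisible by `p`. -/
def RegParts (p : ℕ) (m : Multiset ℕ) : Prop := ∀ k ∈ m, ¬ p ∣ k

instance (m : Multiset ℕ) : Decidable (RegParts p m) :=
  inferInstanceAs (Decidable (∀ k ∈ m, ¬ p ∣ k))

theorem exists_reg_split (x : Perm (Fin n)) : ∃ g₀ : Perm (Fin (n - (singParts p (parts x)).sum)),
    parts x = singParts p (parts x) + parts g₀ ∧ RegParts p (parts g₀) := by
  have h := Multiset.filter_add_not (fun k => p ∣ k) (parts x)
  have hs := congrArg Multiset.sum h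
  rw [Multiset.sum_add, sum_parts] at hs
  obtain ⟨g₀, hg₀⟩ := exists_parts (n := n - (singParts p (parts x)).sum)
    ⟨(parts x).filter fun k => ¬ p ∣ k,
      fun {a} ha => x.partition.parts_pos (Multiset.mem_filter.1 ha).1, by
        rw [singParts]; omega⟩
  refine ⟨g₀, ?_, ?_⟩
  · rw [hg₀]; exact h.symm
  · rw [hg₀]
    intro k hk
    have hk' : k ∈ (parts x).filter (fun a => ¬ p ∣ a) := hk
    exact (Multiset.mem_filter.1 hk').2

/-- Column orthogonality on a core between regular and singular classes. -/
theorem sum_core_theta_eq_zero (hN : n ≤ N) (c : Fin p → ℕ) {x y : Perm (Fin n)}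
    (hx : ¬ RegParts p (parts x)) (hy : RegParts p (parts y)) :
    ∑ S ∈ coreSets p N n c, theta S x * theta S y = 0 := by
  obtain ⟨g₀, h, -⟩ := exists_reg_split (p := p) x
  rw [sum_core_theta_mul hN c (fun k hk => (Multiset.mem_filter.1 hk).2)
    (fun k hk => x.partition.parts_pos (Multiset.mem_filter.1 hk).1) h y]
  refine sum_eq_zero fun g _ => ?_
  rw [if_neg, mul_zero]
  intro e
  simp only [RegParts, not_forall, not_not] at hx
  obtain ⟨k, hk, hpk⟩ := hx
  exact hy k (e ▸ Multiset.mem_add.2 (Or.inl (Multiset.mem_filter.2 ⟨hk, hpk⟩))) hpk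

/-- The regular permutations. -/
def regPerms (p n : ℕ) : Finset (Perm (Fin n)) := univ.filter fun g => RegParts p (parts g)

/-- Different cores are orthogonal on regular classes. -/
theorem sum_regPerms_eq_zero (hN : n ≤ N) {S U : ↥(wSets N n)}
    (hne : runLen (p := p) (S : Finset ℕ) ≠ runLen (p := p) (U : Finset ℕ)) :
    ∑ g ∈ regPerms p n, theta S g * theta U g = 0 := by
  classical
  set c := runLen (p := p) (S : Finset ℕ) with hc
  set u : ↥(wSets N n) → ℂ := fun V => ∑ g ∈ regPerms p n, theta V g * theta U g with hu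
  have hsing : ∀ V ∈ coreSets p N n c,
      u V = -∑ g ∈ univ.filter (fun g : Perm (Fin n) => ¬ RegParts p (parts g)),
        theta V g * theta U g := by
    intro V hV
    have h := sum_theta_mul_theta V U
    rw [if_neg (fun e => hne (by rw [← e, mem_coreSets.1 hV])),
      ← sum_filter_add_sum_filter_not univ (fun g => RegParts p (parts g))] at h
    exact eq_neg_of_add_eq_zero_left h
  have hz : ∑ V ∈ coreSets p N n c, u V * u V = 0 := by
    calc ∑ V ∈ coreSets p N n c, u V * u V
        = ∑ V ∈ coreSets p N n c, u V * -∑ g ∈ univ.filter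
            (fun g : Perm (Fin n) => ¬ RegParts p (parts g)), theta V g * theta U g :=
          sum_congr rfl fun V hV => by rw [← hsing V hV]
      _ = -∑ g ∈ univ.filter (fun g : Perm (Fin n) => ¬ RegParts p (parts g)),
            ∑ g' ∈ regPerms p n, theta U g * theta U g' *
              ∑ V ∈ coreSets p N n c, theta V g * theta V g' := by
          simp only [hu, mul_neg, sum_neg_distrib, mul_sum, sum_mul]
          rw [neg_inj, sum_comm]
          refine sum_congr rfl fun g _ => ?_
          rw [sum_comm]
          exact sum_congr rfl fun g' _ => sum_congr rfl fun V _ => by ring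
      _ = 0 := by
          rw [neg_eq_zero]
          exact sum_eq_zero fun g hg => sum_eq_zero fun g' hg' => by
            rw [sum_core_theta_eq_zero hN c (mem_filter.1 hg).2 (mem_filter.1 hg').2, mul_zero]
  have hreal : ∀ V, ∃ z : ℤ, u V = (z : ℂ) := fun V =>
    ⟨∑ g ∈ regPerms p n, F (parts g) (tup V) * F (parts g) (tup U), by
      simp [hu, theta]⟩
  choose z hz' using hreal
  simp only [hz', ← Int.cast_mul, ← Int.cast_sum, Int.cast_eq_zero] at hz
  have := (sum_eq_zero_iff_of_nonneg fun V _ => mul_self_nonneg (z V)).1 hz S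
    (mem_coreSets.2 rfl)
  show u S = 0
  rw [hz', mul_self_eq_zero.1 this, Int.cast_zero]

/-- The diagonal weight of a permutation on a core. -/
noncomputable def diag (N : ℕ) (c : Fin p → ℕ) (g : Perm (Fin n)) : ℂ :=
  (∑ S ∈ coreSets p N n c, theta S g * theta S g) / (n ! : ℂ)

/-- The weight of a class on a core. -/
noncomputable def classDiag (p N n : ℕ) (c : Fin p → ℕ) (m : Multiset ℕ) : ℂ :=
  ∑ g ∈ univ.filter (fun g : Perm (Fin n) => parts g = m), diag N c g

theorem diag_eq_of_parts_eq {c : Fin p → ℕ} {g h : Perm (Fin n)} (e : parts g = parts h) :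
    diag N c g = diag N c h := by simp [diag, theta, e]

theorem classDiag_add (hN : n ≤ N) (c : Fin p → ℕ) {m r : Multiset ℕ} (hm : ∀ k ∈ m, p ∣ k)
    (hpos : ∀ k ∈ m, 0 < k) {g₀ : Perm (Fin n')} (hg₀ : parts g₀ = r) (hsum : n = m.sum + n') :
    classDiag p N n c (m + r) = classDiag p N n' c r := by
  classical
  obtain ⟨x, hx⟩ := exists_parts_add m hpos g₀ hsum
  have hD : ∀ {k : ℕ} (z : Perm (Fin k)),
      classDiag p N k c (parts z) = numParts k (parts z) * diag N c z := fun z => by
    rw [classDiag, sum_congr rfl fun g hg => diag_eq_of_parts_eq (h := z) (mem_filter.1 hg).2,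
      sum_const, nsmul_eq_mul]
    rfl
  subst hg₀
  rw [← hx, hD, diag, sum_core_theta_mul hN c hm hpos hx x, classDiag, sum_filter, mul_div_assoc',
    mul_sum, sum_div]
  refine sum_congr rfl fun g _ => ?_
  by_cases hg : parts g = parts g₀
  · have hne : (numParts n (parts x) : ℂ) ≠ 0 := Nat.cast_ne_zero.2
      (card_pos.2 ⟨x, by simp⟩).ne'
    have hf : (n ! : ℂ) ≠ 0 := Nat.cast_ne_zero.2 n.factorial_ne_zero
    rw [if_pos hg, if_pos (by rw [hx, hg]), diag_eq_of_parts_eq hg, coreKer, diag]
    have : ∀ S : ↥(wSets N n'), theta S g = theta S g₀ := fun S => by simp [theta, hg]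
    simp only [this]
    field_simp
  · rw [if_neg hg, if_neg fun e => hg (add_left_cancel (e.trans hx)), mul_zero, mul_zero, zero_div]

/-- The regular trace on a core. -/
noncomputable def regTrace (p N n : ℕ) (c : Fin p → ℕ) : ℂ :=
  ∑ l ∈ univ.filter (fun l : Nat.Partition n => RegParts p l.parts), classDiag p N n c l.parts

theorem sum_classDiag (c : Fin p → ℕ) :
    ∑ l : Nat.Partition n, classDiag p N n c l.parts = (coreSets p N n c).card := by
  classical
  calc ∑ l : Nat.Partition n, classDiag p N n c l.parts
      = ∑ g : Perm (Fin n), diag N c g := by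
        rw [← sum_fiberwise univ (fun g : Perm (Fin n) =>
          (⟨parts g, fun {_} ha => g.partition.parts_pos ha, sum_parts g⟩ : Nat.Partition n))]
        exact sum_congr rfl fun l _ => sum_congr (filter_congr fun g _ =>
          ⟨fun e => Nat.Partition.ext e, fun e => congrArg Nat.Partition.parts e⟩) fun _ _ => rfl
    _ = (∑ S ∈ coreSets p N n c, ∑ g : Perm (Fin n), theta S g * theta S g) / (n ! : ℂ) := by
        simp only [diag, ← sum_div]
        rw [sum_comm]
    _ = _ := by
        simp only [sum_theta_mul_theta, if_true, sum_const, nsmul_eq_mul]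
        rw [mul_div_assoc, div_self (Nat.cast_ne_zero.2 n.factorial_ne_zero), mul_one]

theorem regTrace_eq_sum_regPerms (c : Fin p → ℕ) :
    regTrace p N n c = ∑ S ∈ coreSets p N n c,
      (∑ g ∈ regPerms p n, theta S g * theta S g) / (n ! : ℂ) := by
  classical
  simp only [sum_div]
  rw [sum_comm, regTrace]
  simp only [regPerms]
  rw [← sum_fiberwise_of_maps_to (s := univ.filter fun g : Perm (Fin n) => RegParts p (parts g))
    (t := univ.filter fun l : Nat.Partition n => RegParts p l.parts) (g := fun g : Perm (Fin n) =>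
      (⟨parts g, fun {_} ha => g.partition.parts_pos ha, sum_parts g⟩ : Nat.Partition n))
    (fun g hg => mem_filter.2 ⟨mem_univ _, (mem_filter.1 hg).2⟩)]
  refine sum_congr rfl fun l hl => sum_congr ?_ fun g _ => ?_
  · ext g
    simp only [mem_filter, mem_univ, true_and]
    exact ⟨fun e => ⟨e.symm ▸ (mem_filter.1 hl).2, Nat.Partition.ext e⟩,
      fun e => congrArg Nat.Partition.parts e.2⟩
  · rw [diag, sum_div]

theorem regTrace_eq_zero {c : Fin p → ℕ} (h : coreSets p N n c = ∅) : regTrace p N n c = 0 := by
  simp [regTrace_eq_sum_regPerms, h]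

/-- Splitting off the parts divisible by `p`. -/
theorem card_coreSets_eq_sum [NeZero p] (hN : n ≤ N) (c : Fin p → ℕ) :
    ((coreSets p N n c).card : ℂ) =
      ∑ j ∈ range (n / p + 1), (numPartitions j : ℂ) * regTrace p N (n - p * j) c := by
  classical
  have hp := NeZero.pos p
  have hR : ∀ j, (numPartitions j : ℂ) * regTrace p N (n - p * j) c =
      ∑ x ∈ (univ : Finset (Nat.Partition j)) ×ˢ
        univ.filter (fun l : Nat.Partition (n - p * j) => RegParts p l.parts),
        classDiag p N (n - p * j) c x.2.parts := by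
    intro j
    rw [sum_product]
    simp only
    rw [sum_const, nsmul_eq_mul]
    rfl
  simp only [hR]
  rw [← sum_classDiag c, sum_sigma']
  have hle : ∀ {j}, j ∈ range (n / p + 1) → p * j ≤ n := fun hj => by
    have := Nat.div_mul_le_self n p
    have := Nat.mul_le_mul_left p (Nat.lt_succ_iff.1 (mem_range.1 hj))
    rw [mul_comm p (n / p)] at this
    omega
  have hms : ∀ {j} (μ : Nat.Partition j), (μ.parts.map (p * ·)).sum = p * j := fun μ => by
    rw [Multiset.sum_map_mul_left, Multiset.map_id', μ.parts_sum]
  refine (sum_bij (fun x hx => (⟨x.2.1.parts.map (p * ·) + x.2.2.parts, fun {a} ha => ?_, ?_⟩ :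
    Nat.Partition n)) (fun x _ => mem_univ _) ?_ ?_ ?_).symm
  · rcases Multiset.mem_add.1 ha with h | h
    · obtain ⟨b, hb, rfl⟩ := Multiset.mem_map.1 h
      exact Nat.mul_pos hp (x.2.1.parts_pos hb)
    · exact x.2.2.parts_pos h
  · rw [Multiset.sum_add, hms, x.2.2.parts_sum]
    exact Nat.add_sub_of_le (hle (mem_sigma.1 hx).1)
  · intro x hx y hy e
    have e' : x.2.1.parts.map (p * ·) + x.2.2.parts = y.2.1.parts.map (p * ·) + y.2.2.parts :=
      congrArg Nat.Partition.parts e
    have hsp : ∀ z ∈ (range (n / p + 1)).sigma (fun j => (univ : Finset (Nat.Partition j)) ×ˢ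
        univ.filter (fun l : Nat.Partition (n - p * j) => RegParts p l.parts)),
        singParts p (z.2.1.parts.map (p * ·) + z.2.2.parts) = z.2.1.parts.map (p * ·) := by
      intro z hz
      rw [singParts, Multiset.filter_add, Multiset.filter_eq_self.2, Multiset.filter_eq_nil.2,
        add_zero]
      · exact (mem_filter.1 (mem_product.1 (mem_sigma.1 hz).2).2).2
      · intro a ha
        obtain ⟨b, -, rfl⟩ := Multiset.mem_map.1 ha
        exact dvd_mul_right p b
    have h1 := congrArg (singParts p) e'
    rw [hsp x hx, hsp y hy] at h1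
    have h2 : x.2.2.parts = y.2.2.parts := by
      rw [h1] at e'
      exact add_left_cancel e'
    have hj : x.1 = y.1 := by
      have := congrArg Multiset.sum h1
      rw [hms, hms] at this
      exact Nat.eq_of_mul_eq_mul_left hp this
    obtain ⟨j, μ, r⟩ := x
    obtain ⟨j', μ', r'⟩ := y
    subst hj
    simp only at h1 h2
    rw [Nat.Partition.ext (Multiset.map_injective (mul_right_injective₀ hp.ne') h1),
      Nat.Partition.ext h2]
  · intro l _
    have h := Multiset.filter_add_not (fun k => p ∣ k) l.parts
    have hs := congrArg Multiset.sum h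
    rw [Multiset.sum_add, l.parts_sum] at hs
    have hdiv : ((l.parts.filter fun k => p ∣ k).map (· / p)).map (p * ·) =
        l.parts.filter fun k => p ∣ k := by
      rw [Multiset.map_map]
      conv_rhs => rw [← Multiset.map_id (l.parts.filter fun k => p ∣ k)]
      exact Multiset.map_congr rfl fun a ha => Nat.mul_div_cancel' (Multiset.mem_filter.1 ha).2
    set j := ((l.parts.filter fun k => p ∣ k).map (· / p)).sum with hj
    have hpj : p * j = (l.parts.filter fun k => p ∣ k).sum := by
      conv_rhs => rw [← hdiv]
      rw [Multiset.sum_map_mul_left, Multiset.map_id']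
    refine ⟨⟨j, (⟨(l.parts.filter fun k => p ∣ k).map (· / p), fun {a} ha => ?_, rfl⟩,
      ⟨l.parts.filter fun k => ¬ p ∣ k, fun {a} ha => l.parts_pos (Multiset.mem_filter.1 ha).1,
        by omega⟩)⟩, ?_, Nat.Partition.ext ?_⟩
    · obtain ⟨b, hb, rfl⟩ := Multiset.mem_map.1 ha
      obtain ⟨hb1, hb2⟩ := Multiset.mem_filter.1 hb
      exact Nat.div_pos (Nat.le_of_dvd (l.parts_pos hb1) hb2) hp
    · refine mem_sigma.2 ⟨mem_range.2 (Nat.lt_succ_of_le
        (show j ≤ n / p from (Nat.le_div_iff_mul_le hp).2 ?_)),
        mem_product.2 ⟨mem_univ _, mem_filter.2 ⟨mem_univ _,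
          fun k hk => (Multiset.mem_filter.1 hk).2⟩⟩⟩
      rw [mul_comm]; omega
    · show _ + _ = l.parts
      rw [hdiv]; exact h
  · intro x hx
    obtain ⟨g₀, hg₀⟩ := exists_parts x.2.2
    refine (classDiag_add hN c (fun k hk => ?_) (fun k hk => ?_) hg₀ ?_).symm
    · obtain ⟨b, -, rfl⟩ := Multiset.mem_map.1 hk
      exact dvd_mul_right p b
    · obtain ⟨b, hb, rfl⟩ := Multiset.mem_map.1 hk
      exact Nat.mul_pos hp (x.2.1.parts_pos hb)
    · rw [hms]
      exact (Nat.add_sub_of_le (hle (mem_sigma.1 hx).1)).symm

/-- The regular trace on a core of weight `w` counts `(p-1)`-multipartitions. -/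
theorem regTrace_eq_numMulti [NeZero p] (c : Fin p → ℕ) (hc : ∑ r, c r = N) :
    ∀ n : ℕ, n ≤ N → ∀ w : ℕ, (∀ r, w ≤ c r) → base N + n = coreBase p c + p * w →
      regTrace p N n c = numMulti (p - 1) w := by
  intro n
  induction n using Nat.strong_induction_on with
  | _ n ih =>
    intro hN w hcw hw
    have hp := NeZero.pos p
    have hb := base_le_coreBase c hc
    have hwn : w ≤ n / p := (Nat.le_div_iff_mul_le hp).2 (by rw [mul_comm]; omega)
    have h1 := card_coreSets_eq_sum hN c
    rw [card_coreSets, card_filter_runLen c hc hw hcw] at h1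
    rw [← sum_subset (range_subset_range.2 (by omega : w + 1 ≤ n / p + 1)) fun j hj hj' => ?_,
      sum_range_succ', mul_zero, Nat.sub_zero, numPartitions_zero, Nat.cast_one, one_mul] at h1
    · obtain ⟨q, hq⟩ : ∃ q, p = q + 1 := ⟨p - 1, by omega⟩
      have h2 : numMulti p w = numMulti (q + 1) w := by rw [hq]
      rw [h2, numMulti_succ, sum_range_succ', numPartitions_zero, one_mul, Nat.sub_zero,
        Nat.cast_add, Nat.cast_sum] at h1
      rw [show p - 1 = q by omega]
      rw [sum_congr rfl (g := fun j => (numPartitions (j + 1) : ℂ) *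
        regTrace p N (n - p * (j + 1)) c) fun j hj => ?_] at h1
      · exact (add_left_cancel h1).symm
      have hj' := mem_range.1 hj
      have hpj : p * (j + 1) ≤ p * w := Nat.mul_le_mul_left p hj'
      have hpj' : 0 < p * (j + 1) := Nat.mul_pos hp (Nat.succ_pos j)
      rw [Nat.cast_mul, ih _ (by omega) (by omega) (w - (j + 1)) (fun r => by
        have := hcw r; omega) (by rw [Nat.mul_sub]; omega), show p - 1 = q by omega]
    · have hj1 := mem_range.1 hj
      have hj2 : w + 1 ≤ j := not_lt.1 fun h => hj' (mem_range.2 h)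
      have h3 : p * j ≤ n := by
        have h4 := Nat.mul_le_mul_left p (Nat.lt_succ_iff.1 hj1)
        have h5 := Nat.div_mul_le_self n p
        rw [mul_comm p (n / p)] at h4
        omega
      have h6 := Nat.mul_le_mul_left p hj2
      rw [Nat.mul_succ] at h6
      rw [regTrace_eq_zero (card_eq_zero.1 ?_), mul_zero]
      rw [card_coreSets, filter_runLen_eq_empty c (by omega), card_empty]

end CfsgLib.SymChar
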