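import Cfsg.Agent.Lib.SymChar.Cores

/-!
# Conjugate weight sets

Reflecting the complement of a weight set inside `range L` multiplies its character by the sign.
-/

set_option autoImplicit false
set_option linter.unusedSectionVars false
set_option linter.style.haveILetI false

namespace CfsgLib.SymChar

open Equiv Finset MvPolynomial
open scoped Nat

variable {N n p : ℕ}

/-- The sign of the Vandermonde product of an exponent vector. -/
def sgnV (β : Fin N → ℕ) : ℤ := Int.sign (Matrix.vandermonde fun i => (β i : ℤ)).det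

theorem sgnV_comp (β : Fin N → ℕ) (π : Perm (Fin N)) :
    sgnV (β ∘ π) = (Perm.sign π : ℤ) * sgnV β := by
  unfold sgnV
  rw [show (Matrix.vandermonde fun i => ((β ∘ π) i : ℤ)) =
    (Matrix.vandermonde fun i => (β i : ℤ)).submatrix π id from rfl, Matrix.det_permute,
    Int.sign_mul]
  congr 1
  rcases Int.units_eq_one_or (Perm.sign π) with h | h <;> simp [h]

theorem sgnV_of_strictMono {β : Fin N → ℕ} (h : StrictMono β) : sgnV β = 1 := by
  refine Int.sign_eq_one_of_pos ?_
  rw [Matrix.det_vandermonde]
  refine prod_pos fun i _ => prod_pos fun j hj => ?_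
  have := h (mem_Ioi.1 hj)
  omega

theorem sgnV_ne_zero {β : Fin N → ℕ} (h : Function.Injective β) : sgnV β ≠ 0 := by
  rw [sgnV, Ne, Int.sign_eq_zero_iff_zero]
  exact Matrix.det_vandermonde_ne_zero_iff.2 fun a b e => h (by simpa using e)

/-- Moving one entry changes the sign by the number of entries jumped over. -/
theorem sgnV_update {β : Fin N → ℕ} (hβ : Function.Injective β) (i : Fin N) {y : ℕ}
    (hy : y < β i) (hfree : ∀ l, β l ≠ y) :
    sgnV (Function.update β i y) =
      (-1) ^ (univ.filter fun l => y < β l ∧ β l < β i).card * sgnV β := by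
  obtain ⟨N', rfl⟩ : ∃ N', N = N' + 1 := ⟨N - 1, by have := i.2; omega⟩
  set π := Equiv.swap 0 i
  set rest : Fin N' → ℕ := fun j => β (π j.succ)
  have hsplit : ∀ z : ℕ, sgnV (Function.update β i z) = (Perm.sign π : ℤ) *
      ((∏ j, Int.sign ((rest j : ℤ) - z)) * sgnV rest) := by
    intro z
    have hcomp : Function.update β i z ∘ π = Fin.cons z rest := by
      funext a
      refine Fin.cases ?_ (fun j => ?_) a
      · simp [π]
      · rw [Function.comp_apply, Fin.cons_succ, Function.update_of_ne]
        intro e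
        exact Fin.succ_ne_zero j (π.injective (e.trans (Equiv.swap_apply_left 0 i).symm))
    have h := sgnV_comp (Function.update β i z) π
    have hc : sgnV (Fin.cons z rest : Fin (N' + 1) → ℕ) =
        (∏ j, Int.sign ((rest j : ℤ) - z)) * sgnV rest := by
      simp only [sgnV, Matrix.det_vandermonde, Fin.prod_univ_succ, Fin.cons_zero, Fin.cons_succ,
        Fin.prod_Ioi_zero, Fin.prod_Ioi_succ, Int.sign_mul]
      congr 1
      exact map_prod (⟨⟨Int.sign, Int.sign_one⟩, Int.sign_mul⟩ : ℤ →* ℤ) _ _
    rw [hcomp, hc] at h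
    rw [h, ← mul_assoc, ← Units.val_mul, Int.units_mul_self, Units.val_one, one_mul]
  have key : (∏ j, Int.sign ((rest j : ℤ) - y)) =
      (-1) ^ (univ.filter fun l => y < β l ∧ β l < β i).card *
        ∏ j, Int.sign ((rest j : ℤ) - β i) := by
    have hcard : (univ.filter fun l => y < β l ∧ β l < β i).card =
        (univ.filter fun j => y < rest j ∧ rest j < β i).card := by
      rw [← card_image_of_injective (univ.filter fun j => y < rest j ∧ rest j < β i)
        (π.injective.comp (Fin.succ_injective N'))]
      congr 1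
      ext l
      simp only [mem_filter, mem_univ, true_and, mem_image, Function.comp_apply, rest]
      refine ⟨fun hl => ?_, by rintro ⟨j, hj, rfl⟩; exact hj⟩
      obtain ⟨j, hj⟩ : ∃ j, Fin.succ j = π.symm l := Fin.exists_succ_eq.2 fun e => by
        have : l = i := by
          rw [← π.apply_symm_apply l, e]; exact Equiv.swap_apply_left 0 i
        exact lt_irrefl _ (this ▸ hl.2)
      exact ⟨j, by rw [hj, π.apply_symm_apply]; exact hl, by rw [hj, π.apply_symm_apply]⟩
    rw [hcard, ← prod_const, prod_filter, ← prod_mul_distrib]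
    refine prod_congr rfl fun j _ => ?_
    have h1 : rest j ≠ y := hfree _
    have h2 : rest j ≠ β i := fun e => Fin.succ_ne_zero j
      (π.injective ((hβ e).trans (Equiv.swap_apply_left 0 i).symm))
    split_ifs with h
    · rw [Int.sign_eq_one_of_pos (by omega), Int.sign_eq_neg_one_of_neg (by omega)]; norm_num
    · rw [one_mul]
      rcases lt_or_gt_of_ne h2 with h3 | h3
      · rw [Int.sign_eq_neg_one_of_neg (by omega), Int.sign_eq_neg_one_of_neg (by omega)]
      · rw [Int.sign_eq_one_of_pos (by omega), Int.sign_eq_one_of_pos (by omega)]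
  have h0 := hsplit (β i)
  rw [Function.update_eq_self] at h0
  rw [hsplit y, key, h0]
  ring

/-- The coefficient of a set. -/
noncomputable def Gset (N : ℕ) (m : Multiset ℕ) (S : Finset ℕ) : ℤ :=
  if h : S.card = N then F m (S.orderEmbOfFin h : Fin N → ℕ) else 0

theorem Gset_tup (m : Multiset ℕ) (S : ↥(wSets N n)) : Gset N m (S : Finset ℕ) = F m (tup S) :=
  dif_pos (mem_wSets.1 S.2).1

theorem F_eq_sgnV_mul_Gset (m : Multiset ℕ) {β : Fin N → ℕ} (hβ : Function.Injective β) :
    F m β = sgnV β * Gset N m (univ.image β) := by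
  have hc : (univ.image β).card = N := by
    rw [card_image_of_injective _ hβ, card_univ, Fintype.card_fin]
  have hs : StrictMono (β ∘ Tuple.sort β) :=
    (Tuple.monotone_sort β).strictMono_of_injective (hβ.comp (Tuple.sort β).injective)
  have e : β ∘ Tuple.sort β = ⇑((univ.image β).orderEmbOfFin hc) :=
    orderEmbOfFin_unique hc (fun x => mem_image_of_mem β (mem_univ _)) hs
  have h1 := sgnV_comp β (Tuple.sort β)
  rw [sgnV_of_strictMono hs] at h1
  rw [Gset, dif_pos hc, ← e, F_comp, ← mul_assoc, mul_comm (sgnV β), ← h1, one_mul]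

/-- Hook removal on sets. -/
theorem Gset_cons {k : ℕ} (hk : 0 < k) (m : Multiset ℕ) {S : Finset ℕ} (hS : S.card = N) :
    Gset N (k ::ₘ m) S = ∑ x ∈ S, if k ≤ x ∧ x - k ∉ S then
      (-1) ^ (S.filter fun z => x - k < z ∧ z < x).card * Gset N m (insert (x - k) (S.erase x))
      else 0 := by
  classical
  set β : Fin N → ℕ := ⇑(S.orderEmbOfFin hS) with hβdef
  have hinj : Function.Injective β := (S.orderEmbOfFin hS).injective
  have himg : univ.image β = S := image_orderEmbOfFin_univ S hS
  rw [Gset, dif_pos hS, F_cons]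
  conv_rhs => arg 1; rw [← himg]
  rw [sum_image fun a _ b _ e => hinj e]
  refine sum_congr rfl fun i _ => ?_
  by_cases hki : k ≤ β i
  · rw [if_pos hki]
    by_cases hfree : β i - k ∈ univ.image β
    · obtain ⟨l, -, hl⟩ := mem_image.1 hfree
      have hli : l ≠ i := fun e => by rw [e] at hl; omega
      rw [F_eq_zero_of_not_injective _ fun h => hli (h (by
        rw [Function.update_of_ne hli, Function.update_self]; exact hl)),
        if_neg fun h => h.2 (himg ▸ hfree)]
    · rw [himg] at hfree
      have hfree' : ∀ l, β l ≠ β i - k := fun l e =>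
        hfree (e ▸ himg ▸ mem_image_of_mem β (mem_univ l))
      have hinj' : Function.Injective (Function.update β i (β i - k)) := by
        intro a b e
        simp only [Function.update_apply] at e
        split_ifs at e with ha hb hb
        · rw [ha, hb]
        · exact absurd e.symm (hfree' b)
        · exact absurd e (hfree' a)
        · exact hinj e
      rw [if_pos ⟨hki, hfree⟩, F_eq_sgnV_mul_Gset _ hinj', sgnV_update hinj i (by omega) hfree',
        sgnV_of_strictMono (S.orderEmbOfFin hS).strictMono, mul_one]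
      congr 1
      · congr 1
        rw [← himg, filter_image, card_image_of_injective _ hinj]
      · congr 1
        rw [← himg]
        ext z
        simp only [mem_image, mem_univ, true_and, mem_insert, mem_erase, Function.update_apply]
        constructor
        · rintro ⟨a, rfl⟩
          split_ifs with h
          · exact Or.inl rfl
          · exact Or.inr ⟨fun e => h (hinj e), a, rfl⟩
        · rintro (rfl | ⟨hne, a, rfl⟩)
          · exact ⟨i, if_pos rfl⟩
          · exact ⟨a, if_neg fun h => hne (congrArg β h)⟩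
  · rw [if_neg hki, if_neg fun h => hki h.1]

theorem base_add (a b : ℕ) : base (a + b) = base a + base b + a * b := by
  induction b with
  | zero => simp [base]
  | succ b ih => rw [← add_assoc, base_succ, ih, base_succ, Nat.mul_succ]; omega

/-- The reflected complement inside `range L`. -/
def flipSet (L : ℕ) (S : Finset ℕ) : Finset ℕ := (range L \ S).image fun z => L - 1 - z

theorem mem_flipSet {L : ℕ} {S : Finset ℕ} {y : ℕ} :
    y ∈ flipSet L S ↔ y < L ∧ L - 1 - y ∉ S := by
  simp only [flipSet, mem_image, mem_sdiff, mem_range]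
  constructor
  · rintro ⟨z, ⟨hz, hzS⟩, rfl⟩
    exact ⟨by omega, by rwa [show L - 1 - (L - 1 - z) = z by omega]⟩
  · exact fun ⟨hy, h⟩ => ⟨L - 1 - y, ⟨by omega, h⟩, by omega⟩

theorem flipSet_subset (L : ℕ) (S : Finset ℕ) : flipSet L S ⊆ range L := fun y hy =>
  mem_range.2 (mem_flipSet.1 hy).1

theorem card_flipSet {L : ℕ} {S : Finset ℕ} (hS : S ⊆ range L) :
    (flipSet L S).card = L - S.card := by
  rw [flipSet, card_image_of_injOn fun a ha b hb e => ?_, card_sdiff_of_subset hS, card_range]
  have h1 := mem_range.1 (mem_sdiff.1 ha).1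
  have h2 := mem_range.1 (mem_sdiff.1 hb).1
  have e' : L - 1 - a = L - 1 - b := e
  omega

theorem sum_flipSet {L : ℕ} {S : Finset ℕ} (hS : S ⊆ range L) :
    (∑ y ∈ flipSet L S, y) + base S.card = (∑ x ∈ S, x) + base (L - S.card) := by
  have hinj : Set.InjOn (fun z => L - 1 - z) (range L \ S : Finset ℕ) := fun a ha b hb e => by
    have h1 := mem_range.1 (mem_sdiff.1 ha).1
    have h2 := mem_range.1 (mem_sdiff.1 hb).1
    have e' : L - 1 - a = L - 1 - b := e
    omega
  rw [flipSet, sum_image hinj]
  have h1 : ∑ z ∈ range L \ S, (L - 1 - z) + ∑ z ∈ range L \ S, z =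
      (L - S.card) * (L - 1) := by
    rw [← sum_add_distrib, sum_congr rfl (g := fun _ => L - 1) fun z hz => ?_, sum_const,
      smul_eq_mul, card_sdiff_of_subset hS, card_range]
    have := mem_range.1 (mem_sdiff.1 hz).1
    omega
  have h2 : ∑ z ∈ range L \ S, z + ∑ x ∈ S, x = base L := by
    rw [sum_sdiff hS, base, Fin.sum_univ_eq_sum_range (fun i => i)]
  obtain ⟨c, hc⟩ : ∃ c, L = S.card + c := ⟨L - S.card, by
    have := card_le_card hS
    rw [card_range] at this
    omega⟩
  rw [show L - S.card = c by omega] at h1 ⊢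
  have h3 : 2 * base c + c = c * c := by
    clear h1 hc
    induction c with
    | zero => simp [base]
    | succ c ih => rw [base_succ]; nlinarith
  have h4 : c * (L - 1) + c = c * L := by
    rcases Nat.eq_zero_or_pos c with h | h
    · simp [h]
    · rw [← Nat.mul_succ]; congr 1; omega
  rw [hc, Nat.mul_add] at h4
  rw [hc, base_add] at h2
  rw [hc] at h1
  rw [hc]
  nlinarith

theorem Gset_zero (N : ℕ) {S : Finset ℕ} (hS : S.card = N) :
    Gset N 0 S = if ∑ x ∈ S, x = base N then 1 else 0 := by
  classical
  rw [Gset, dif_pos hS]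
  split_ifs with h
  · have hR : range N ∈ wSets N 0 := mem_wSets.2 ⟨card_range N, by
      rw [add_zero, base, Fin.sum_univ_eq_sum_range (fun i => i)]⟩
    haveI : Subsingleton ↥(wSets N 0) := by
      rw [← Fintype.card_le_one_iff_subsingleton, Fintype.card_coe, card_wSets (Nat.zero_le N)]
      exact Fintype.card_le_one_iff_subsingleton.2 inferInstance
    have hSR : S = range N := congrArg Subtype.val
      (Subsingleton.elim (⟨S, mem_wSets.2 ⟨hS, by simpa using h⟩⟩ : ↥(wSets N 0)) ⟨_, hR⟩)
    subst hSR
    have e : ⇑((range N).orderEmbOfFin hS) = fun i : Fin N => (i : ℕ) :=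
      (orderEmbOfFin_unique hS (fun x => mem_range.2 x.2) fun a b hab => hab).symm
    rw [e, F, show pProd N 0 = 1 by simp [pProd], coeff_delta_mul,
      sum_eq_single (1 : Perm (Fin N))]
    · have h0 : expo (fun _ : Fin N => 0) = 0 := Finsupp.ext fun _ => rfl
      have hs : ∀ i : Fin N, (Equiv.symm (1 : Perm (Fin N))) i = i := fun _ => rfl
      simp [hs, h0]
    · intro σ _ hσ
      split_ifs with hle
      · rw [coeff_one, if_neg, mul_zero]
        intro h0
        refine hσ (Equiv.ext fun a => ?_)
        have h1 := DFunLike.congr_fun h0 (σ a)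
        simp only [Finsupp.zero_apply, expo_apply, Equiv.symm_apply_apply] at h1
        have := hle (σ a)
        rw [Equiv.symm_apply_apply] at this
        exact Fin.ext (show ((σ a : Fin N) : ℕ) = (a : ℕ) by omega)
      · simp
    · simp
  · by_contra hne
    have := sum_eq_of_F_ne_zero hne
    rw [Multiset.sum_zero, add_zero] at this
    refine h ?_
    rw [← this]
    conv_lhs => rw [← image_orderEmbOfFin_univ S hS,
      sum_image fun a _ b _ e => (S.orderEmbOfFin hS).injective e]

theorem Gset_flipSet {L : ℕ} (m : Multiset ℕ) : (∀ k ∈ m, 0 < k) → ∀ {S : Finset ℕ},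
    S ⊆ range L → Gset (L - S.card) m (flipSet L S) =
      (-1) ^ (m.sum + m.card) * Gset S.card m S := by
  classical
  induction m using Multiset.induction_on with
  | empty =>
    intro _ S hS
    rw [Gset_zero _ (card_flipSet hS), Gset_zero _ rfl]
    have := sum_flipSet hS
    simp only [Multiset.sum_zero, Multiset.card_zero, add_zero, pow_zero, one_mul]
    exact if_congr (by constructor <;> intro h <;> omega) rfl rfl
  | cons k m ih =>
    intro hpos S hS
    have hk : 0 < k := hpos k (Multiset.mem_cons_self k m)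
    rw [Gset_cons hk m (card_flipSet hS), Gset_cons hk m rfl, mul_sum, ← sum_filter]
    simp only [mul_ite, mul_zero]
    rw [← sum_filter]
    symm
    have hlt : ∀ {x}, x ∈ S → x < L := fun h => mem_range.1 (hS h)
    refine sum_bij' (fun x _ => L - 1 - (x - k)) (fun y _ => L - 1 - (y - k))
      (fun x hx => ?_) (fun y hy => ?_) (fun x hx => ?_) (fun y hy => ?_) fun x hx => ?_
    · obtain ⟨hxS, hkx, hfree⟩ := mem_filter.1 hx
      have := hlt hxS
      refine mem_filter.2 ⟨mem_flipSet.2 ⟨by omega, ?_⟩, by omega, ?_⟩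
      · rwa [show L - 1 - (L - 1 - (x - k)) = x - k by omega]
      · rw [mem_flipSet, show L - 1 - (L - 1 - (x - k) - k) = x by omega]
        exact fun h => h.2 hxS
    · obtain ⟨hyS, hky, hfree⟩ := mem_filter.1 hy
      obtain ⟨hyL, hy'⟩ := mem_flipSet.1 hyS
      rw [mem_flipSet, not_and, not_not] at hfree
      refine mem_filter.2 ⟨hfree (by omega), by omega, ?_⟩
      rwa [show L - 1 - (y - k) - k = L - 1 - y by omega]
    · obtain ⟨hxS, hkx, -⟩ := mem_filter.1 hx
      have := hlt hxS
      omega
    · obtain ⟨hyS, hky, -⟩ := mem_filter.1 hy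
      have := (mem_flipSet.1 hyS).1
      omega
    · obtain ⟨hxS, hkx, hfree⟩ := mem_filter.1 hx
      have hxL := hlt hxS
      set T := insert (x - k) (S.erase x) with hT
      have hTS : T.card = S.card := by
        rw [hT, card_insert_of_notMem (fun h => hfree (mem_of_mem_erase h)), card_erase_of_mem hxS,
          Nat.sub_add_cancel (card_pos.2 ⟨x, hxS⟩)]
      have hTL : T ⊆ range L := by
        intro z hz
        rcases mem_insert.1 hz with rfl | hz
        · exact mem_range.2 (by omega)
        · exact hS (mem_of_mem_erase hz)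
      have hflip : insert (L - 1 - (x - k) - k) ((flipSet L S).erase (L - 1 - (x - k))) =
          flipSet L T := by
        ext z
        simp only [hT, mem_insert, mem_erase, mem_flipSet]
        constructor
        · rintro (rfl | ⟨h1, h2, h3⟩)
          · refine ⟨by omega, ?_⟩
            rintro (h | ⟨h, -⟩) <;> omega
          · refine ⟨h2, ?_⟩
            rintro (h | ⟨-, h⟩)
            · omega
            · exact h3 h
        · rintro ⟨h1, h2⟩
          by_cases hz : z = L - 1 - (x - k) - k
          · exact Or.inl hz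
          · refine Or.inr ⟨fun e => h2 (Or.inl (by omega)), h1, fun h => h2 (Or.inr ⟨by omega, h⟩)⟩
      have hgap : ((flipSet L S).filter fun z => L - 1 - (x - k) - k < z ∧ z < L - 1 - (x - k)).card +
          (S.filter fun z => x - k < z ∧ z < x).card = k - 1 := by
        have h1 : (flipSet L S).filter (fun z => L - 1 - (x - k) - k < z ∧ z < L - 1 - (x - k)) =
            (Ioo (x - k) x \ S).image fun z => L - 1 - z := by
          ext z
          simp only [mem_filter, mem_flipSet, mem_image, mem_sdiff, mem_Ioo]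
          constructor
          · rintro ⟨⟨hz, hzS⟩, h2, h3⟩
            exact ⟨L - 1 - z, ⟨⟨by omega, by omega⟩, hzS⟩, by omega⟩
          · rintro ⟨z, ⟨⟨h2, h3⟩, hzS⟩, rfl⟩
            exact ⟨⟨by omega, by rwa [show L - 1 - (L - 1 - z) = z by omega]⟩, by omega, by omega⟩
        have h2 : S.filter (fun z => x - k < z ∧ z < x) = Ioo (x - k) x ∩ S := by
          ext z; simp [mem_Ioo, and_comm]
        rw [h1, h2, card_image_of_injOn fun a ha b hb e => by
          have ha' := mem_Ioo.1 (mem_sdiff.1 ha).1
          have hb' := mem_Ioo.1 (mem_sdiff.1 hb).1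
          have e' : L - 1 - a = L - 1 - b := e
          omega, card_sdiff_add_card_inter, Nat.card_Ioo]
        omega
      have hih := ih (fun k' hk' => hpos k' (Multiset.mem_cons_of_mem hk')) hTL
      rw [hTS] at hih
      rw [hflip, hih, Multiset.sum_cons, Multiset.card_cons, ← mul_assoc, ← mul_assoc, ← pow_add,
        ← pow_add]
      congr 1
      rw [neg_one_pow_eq_pow_mod_two, eq_comm, neg_one_pow_eq_pow_mod_two]
      congr 1
      omega

theorem sign_eq_neg_one_pow_parts (g : Perm (Fin n)) :
    (Perm.sign g : ℤ) = (-1) ^ ((parts g).sum + (parts g).card) := by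
  rw [Perm.sign_of_cycleType, parts, Perm.parts_partition]
  simp only [Multiset.sum_add, Multiset.card_add, Multiset.sum_replicate, Multiset.card_replicate,
    smul_eq_mul, mul_one, Units.val_pow_eq_pow_val, Units.val_neg, Units.val_one]
  rw [neg_one_pow_eq_pow_mod_two, eq_comm, neg_one_pow_eq_pow_mod_two]
  congr 1
  omega

/-- The conjugate weight set, with the same `N`. -/
def flipW (hN : n ≤ N) (S : ↥(wSets N n)) : ↥(wSets N n) :=
  ⟨flipSet (N + N) (S : Finset ℕ), by
    have hsub : (S : Finset ℕ) ⊆ range (N + N) := fun x hx => by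
      have := mem_powersetCard.1 (mem_filter.1 S.2).1
      have := mem_range.1 (this.1 hx)
      exact mem_range.2 (by omega)
    obtain ⟨h1, h2⟩ := mem_wSets.1 S.2
    have h3 := sum_flipSet hsub
    have h4 := card_flipSet hsub
    rw [h1] at h3 h4
    rw [Nat.add_sub_cancel] at h3 h4
    exact mem_wSets.2 ⟨h4, by omega⟩⟩

theorem subset_range_two (hN : n ≤ N) (S : ↥(wSets N n)) : (S : Finset ℕ) ⊆ range (N + N) := by
  intro x hx
  have := mem_powersetCard.1 (mem_filter.1 S.2).1
  have := mem_range.1 (this.1 hx)
  exact mem_range.2 (by omega)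

theorem flipW_flipW (hN : n ≤ N) (S : ↥(wSets N n)) : flipW hN (flipW hN S) = S := by
  apply Subtype.ext
  ext x
  show x ∈ flipSet (N + N) (flipSet (N + N) (S : Finset ℕ)) ↔ _
  rw [mem_flipSet, mem_flipSet]
  constructor
  · rintro ⟨hx, h⟩
    by_contra hS
    exact h ⟨by omega, by rwa [show N + N - 1 - (N + N - 1 - x) = x by omega]⟩
  · intro hS
    have := mem_range.1 (subset_range_two hN S hS)
    exact ⟨this, fun h => h.2 (by rwa [show N + N - 1 - (N + N - 1 - x) = x by omega])⟩

theorem theta_flipW (hN : n ≤ N) (S : ↥(wSets N n)) (g : Perm (Fin n)) :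
    theta (flipW hN S) g = ((Perm.sign g : ℤ) : ℂ) * theta S g := by
  rw [theta, theta, ← Int.cast_mul, ← Gset_tup, ← Gset_tup, sign_eq_neg_one_pow_parts]
  congr 1
  have h := Gset_flipSet (parts g) (fun k hk => g.partition.parts_pos hk) (subset_range_two hN S)
  rw [(mem_wSets.1 S.2).1, Nat.add_sub_cancel] at h
  exact h

/-- Runners of a reflected complement. -/
theorem runner_flipSet [NeZero p] (K : ℕ) (S : Finset ℕ) (r : Fin p) :
    runner p (flipSet (p * K) S) r = flipSet K (runner p S r.rev) := by
  have hp := NeZero.pos p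
  have hmem : ∀ (T : Finset ℕ) (s : Fin p) (y : ℕ), y ∈ runner p T s ↔ p * y + s ∈ T := by
    intro T s y
    simp only [runner, mem_image, mem_filter]
    constructor
    · rintro ⟨x, ⟨hx, hs⟩, rfl⟩
      rwa [← hs, Nat.div_add_mod]
    · exact fun h => ⟨_, ⟨h, by rw [Nat.mul_add_mod, Nat.mod_eq_of_lt s.2]⟩,
        by rw [Nat.mul_add_div hp, Nat.div_eq_of_lt s.2, add_zero]⟩
  ext y
  rw [hmem, mem_flipSet, mem_flipSet, hmem, Fin.val_rev]
  have hr := r.2
  constructor
  · rintro ⟨h1, h2⟩
    have hy : y < K := by
      by_contra h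
      have := Nat.mul_le_mul_left p (not_lt.1 h)
      omega
    refine ⟨hy, ?_⟩
    obtain ⟨z, rfl⟩ : ∃ z, K = y + 1 + z := ⟨K - y - 1, by omega⟩
    rw [Nat.mul_add, Nat.mul_succ] at h2
    rwa [show y + 1 + z - 1 - y = z by omega,
      show p * z + (p - ((r : ℕ) + 1)) = p * y + p + p * z - 1 - (p * y + r) by omega]
  · rintro ⟨hy, h2⟩
    obtain ⟨z, rfl⟩ : ∃ z, K = y + 1 + z := ⟨K - y - 1, by omega⟩
    rw [show y + 1 + z - 1 - y = z by omega] at h2
    rw [Nat.mul_add, Nat.mul_succ]
    refine ⟨by omega, ?_⟩
    rwa [show p * y + p + p * z - 1 - (p * y + r) = p * z + (p - ((r : ℕ) + 1)) by omega]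

theorem runner_subset [NeZero p] {K : ℕ} {S : Finset ℕ} (hS : S ⊆ range (p * K)) (r : Fin p) :
    runner p S r ⊆ range K := by
  intro y hy
  obtain ⟨x, hx, rfl⟩ := mem_image.1 hy
  have := mem_range.1 (hS (mem_filter.1 hx).1)
  exact mem_range.2 (Nat.div_lt_of_lt_mul this)

end CfsgLib.SymChar
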