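import Cfsg.Agent.Lib.SymChar.Char
import Cfsg.Agent.Lib.BrauerCharacters.Projection

/-!
# Completeness: the bijection between weight sets and irreducible characters

`wSets N n` is the set of `N`-element sets of natural numbers with sum `base N + n`; for `N ≥ n`
it is in bijection with the irreducible characters of `Perm (Fin n)`.
-/

set_option autoImplicit false
set_option linter.unusedSectionVars false
set_option linter.style.haveILetI false

namespace CfsgLib.SymChar

open Equiv Finset MvPolynomial Cfsg CfsgLib.CharTheory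
open scoped Nat ComplexConjugate

variable {N n : ℕ}

theorem base_succ (N : ℕ) : base (N + 1) = base N + N := by
  rw [base, base, Fin.sum_univ_castSucc]
  simp

theorem base_le_sum (A : Finset ℕ) : base A.card ≤ ∑ x ∈ A, x := by
  induction A using Finset.induction_on_max with
  | empty => simp [base]
  | insert x A hlt ih =>
    have hx : x ∉ A := fun h => lt_irrefl x (hlt x h)
    have hc : A.card ≤ x := by
      simpa using card_le_card (fun a ha => mem_range.2 (hlt a ha) : A ⊆ range x)
    rw [card_insert_of_notMem hx, sum_insert hx, base_succ]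
    omega

/-- The `N`-element sets of weight `n`. -/
def wSets (N n : ℕ) : Finset (Finset ℕ) :=
  ((range (N + n)).powersetCard N).filter fun S => ∑ x ∈ S, x = base N + n

theorem mem_wSets {S : Finset ℕ} : S ∈ wSets N n ↔ S.card = N ∧ ∑ x ∈ S, x = base N + n := by
  simp only [wSets, mem_filter, mem_powersetCard]
  refine ⟨fun h => ⟨h.1.2, h.2⟩, fun h => ⟨⟨fun x hx => mem_range.2 ?_, h.1⟩, h.2⟩⟩
  obtain ⟨N', rfl⟩ : ∃ N', N = N' + 1 := ⟨N - 1, by
    have := card_pos.2 ⟨x, hx⟩
    omega⟩
  have h1 := base_le_sum (S.erase x)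
  rw [card_erase_of_mem hx, h.1, Nat.add_sub_cancel] at h1
  have h2 := add_sum_erase S (fun y => y) hx
  rw [h.2, base_succ] at h2
  omega

/-- The increasing enumeration of a weight set. -/
def tup (S : ↥(wSets N n)) : Fin N → ℕ :=
  (S : Finset ℕ).orderEmbOfFin (mem_wSets.1 S.2).1

theorem strictMono_tup (S : ↥(wSets N n)) : StrictMono (tup S) :=
  ((S : Finset ℕ).orderEmbOfFin (mem_wSets.1 S.2).1).strictMono

theorem image_tup (S : ↥(wSets N n)) : univ.image (tup S) = (S : Finset ℕ) :=
  image_orderEmbOfFin_univ _ _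

theorem sum_tup (S : ↥(wSets N n)) : ∑ i, tup S i = base N + n := by
  rw [← (mem_wSets.1 S.2).2]
  conv_rhs => rw [← image_tup S, sum_image fun a _ b _ e => (strictMono_tup S).injective e]

theorem tup_injective : Function.Injective (tup (N := N) (n := n)) := fun S T e =>
  Subtype.ext (by rw [← image_tup S, ← image_tup T, e])

theorem exists_tup {β : Fin N → ℕ} (hβ : Function.Injective β)
    (hsum : ∑ i, β i = base N + n) :
    ∃ (S : ↥(wSets N n)) (π : Perm (Fin N)), β ∘ π = tup S := by
  have hmem : univ.image β ∈ wSets N n := by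
    rw [mem_wSets, card_image_of_injective _ hβ, card_univ, Fintype.card_fin,
      sum_image fun a _ b _ e => hβ e]
    exact ⟨rfl, hsum⟩
  refine ⟨⟨_, hmem⟩, Tuple.sort β, ?_⟩
  refine orderEmbOfFin_unique (mem_wSets.1 hmem).1 (fun x => ?_) ?_
  · exact mem_image_of_mem β (mem_univ _)
  · exact (Tuple.monotone_sort β).strictMono_of_injective (hβ.comp (Tuple.sort β).injective)

/-- The character function of a weight set. -/
noncomputable def theta (S : ↥(wSets N n)) (g : Perm (Fin n)) : ℂ := (F (parts g) (tup S) : ℂ)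

/-- The class functions given by the alternant. -/
noncomputable def thetaFun (β : Fin N → ℕ) (g : Perm (Fin n)) : ℂ := (F (parts g) β : ℂ)

/-- Colourings with prescribed multiplicities. -/
def Col (n : ℕ) (α : Fin N → ℕ) : Type := {f : Fin n → Fin N // cnt f = α}

instance (α : Fin N → ℕ) : Fintype (Col n α) :=
  inferInstanceAs (Fintype {f : Fin n → Fin N // cnt f = α})

instance (α : Fin N → ℕ) : MulAction (Perm (Fin n)) (Col n α) where
  smul g f := ⟨f.1 ∘ ⇑(g⁻¹), funext fun i =>
    (card_equiv g⁻¹ fun a => by simp).trans (congrFun f.2 i)⟩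
  one_smul f := Subtype.ext rfl
  mul_smul g h f := Subtype.ext (funext fun a => by
    show f.1 ((g * h)⁻¹ a) = f.1 (h⁻¹ (g⁻¹ a))
    rw [mul_inv_rev]; rfl)

theorem coeff_pProd_eq_card_fixedBy (g : Perm (Fin n)) (α : Fin N → ℕ) :
    ((coeff (expo α) (pProd N (parts g)) : ℤ) : ℂ) =
      (Nat.card (MulAction.fixedBy (Col n α) g) : ℂ) := by
  rw [coeff_pProd_parts, Int.cast_natCast]
  congr 1
  rw [← Fintype.card_coe, ← Nat.card_eq_fintype_card]
  refine Nat.card_congr
    ⟨fun x => ⟨⟨x.1, (mem_filter.1 x.2).2.2⟩, ?_⟩,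
      fun x => ⟨x.1.1, mem_filter.2 ⟨mem_univ _, ?_, x.1.2⟩⟩, fun x => rfl, fun x => rfl⟩
  · refine Subtype.ext (funext fun a => ?_)
    show x.1 (g⁻¹ a) = x.1 a
    have h := congrFun (mem_filter.1 x.2).2.1 (g⁻¹ a)
    simp only [Function.comp_apply, Perm.coe_inv, Equiv.apply_symm_apply] at h
    exact h.symm
  · funext a
    have h := congrFun (congrArg Subtype.val x.2) (g a)
    change x.1.1 (g⁻¹ (g a)) = x.1.1 (g a) at h
    simpa using h.symm

theorem isGeneralizedCharacter_thetaFun (β : Fin N → ℕ) :
    IsGeneralizedCharacter (Perm (Fin n)) (thetaFun β) := by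
  classical
  haveI := Fintype.ofFinite (IrrCharacter (Perm (Fin n)))
  choose k hk using fun α : Fin N → ℕ => IsCharacter.exists_sum
    (isCharacter_card_fixedBy (G := Perm (Fin n)) (Col n α))
  rw [isGeneralizedCharacter_iff_exists_sum]
  refine ⟨fun ψ => ∑ σ : Perm (Fin N), (Perm.sign σ : ℤ) *
    if ∀ i, (σ.symm i : ℕ) ≤ β i then (k (fun i => β i - (σ.symm i : ℕ)) ψ : ℤ) else 0,
    funext fun g => ?_⟩
  simp only [Finset.sum_apply, Pi.smul_apply, smul_eq_mul, thetaFun, F, coeff_delta_mul,
    Int.cast_sum, sum_mul]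
  rw [sum_comm]
  refine sum_congr rfl fun σ _ => ?_
  push_cast
  simp only [mul_assoc, ← mul_sum]
  congr 1
  split_ifs with h
  · rw [coeff_pProd_eq_card_fixedBy]
    exact (congrFun (hk fun i => β i - (σ.symm i : ℕ)) g).trans (by simp [Finset.sum_apply])
  · simp

theorem isClassFunction_thetaFun (β : Fin N → ℕ) :
    IsClassFunction (Perm (Fin n)) (thetaFun β) := fun g h => by
  rw [thetaFun, thetaFun, parts_eq_of_isConj (isConj_iff.2 ⟨h, rfl⟩ : IsConj g (h * g * h⁻¹))]

theorem conj_thetaFun (β : Fin N → ℕ) (g : Perm (Fin n)) :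
    conj (thetaFun β g) = thetaFun β g := map_intCast _ _

theorem sum_theta_mul_theta (S T : ↥(wSets N n)) :
    ∑ g : Perm (Fin n), theta S g * theta T g = if S = T then (n ! : ℂ) else 0 := by
  simp only [theta, ← Int.cast_mul, ← Int.cast_sum,
    sum_F_mul_F (strictMono_tup S) (strictMono_tup T) (sum_tup T)]
  by_cases h : S = T
  · rw [if_pos h, if_pos (by rw [h])]; simp
  · rw [if_neg h, if_neg fun e => h (tup_injective e).symm]; simp

theorem classInner_theta (S T : ↥(wSets N n)) :
    classInner (theta S) (theta T) = if S = T then 1 else 0 := by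
  have h : ∀ g, conj (theta T g) = theta T g := conj_thetaFun (tup T)
  simp only [classInner, h, sum_theta_mul_theta, Nat.card_eq_fintype_card, Fintype.card_perm,
    Fintype.card_fin]
  split_ifs
  · exact inv_mul_cancel₀ (Nat.cast_ne_zero.2 n.factorial_ne_zero)
  · simp

theorem exists_sign (S : ↥(wSets N n)) : ∃ χ : IrrCharacter (Perm (Fin n)), ∃ ε : ℂ,
    ε * ε = 1 ∧ conj ε = ε ∧ ∀ g, (χ : Perm (Fin n) → ℂ) g = ε * theta S g := by
  rcases exists_sign_irr_of_norm_one (isGeneralizedCharacter_thetaFun (n := n) (tup S))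
    ((classInner_theta S S).trans (if_pos rfl)) with h | h
  · exact ⟨⟨_, h⟩, 1, by simp, by simp, fun g => (one_mul _).symm⟩
  · exact ⟨⟨_, h⟩, -1, by simp, by simp, fun g => (neg_one_mul _).symm⟩

/-- The irreducible character of a weight set. -/
noncomputable def chi (S : ↥(wSets N n)) : IrrCharacter (Perm (Fin n)) := (exists_sign S).choose

/-- Its sign. -/
noncomputable def sgn (S : ↥(wSets N n)) : ℂ := (exists_sign S).choose_spec.choose

theorem sgn_mul_self (S : ↥(wSets N n)) : sgn S * sgn S = 1 :=
  (exists_sign S).choose_spec.choose_spec.1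

theorem conj_sgn (S : ↥(wSets N n)) : conj (sgn S) = sgn S :=
  (exists_sign S).choose_spec.choose_spec.2.1

theorem chi_apply (S : ↥(wSets N n)) (g : Perm (Fin n)) :
    (chi S : Perm (Fin n) → ℂ) g = sgn S * theta S g :=
  (exists_sign S).choose_spec.choose_spec.2.2 g

theorem chi_injective : Function.Injective (chi (N := N) (n := n)) := by
  intro S T e
  by_contra hne
  have hsum := sum_theta_mul_theta S T
  have h : ∀ g, theta S g = sgn S * sgn T * theta T g := fun g => by
    have h1 := chi_apply S g
    rw [e, chi_apply T g] at h1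
    calc theta S g = sgn S * sgn S * theta S g := by rw [sgn_mul_self, one_mul]
      _ = sgn S * (sgn T * theta T g) := by rw [h1, mul_assoc]
      _ = _ := by ring
  rw [if_neg hne] at hsum
  simp only [h, mul_assoc, ← mul_sum, sum_theta_mul_theta, if_true] at hsum
  rcases mul_eq_zero.1 hsum with h1 | h1
  · simpa [h1] using sgn_mul_self S
  rcases mul_eq_zero.1 h1 with h2 | h2
  · simpa [h2] using sgn_mul_self T
  · exact n.factorial_ne_zero (Nat.cast_eq_zero.1 h2)

/-- A weighting of permutations killed by all alternant functions kills all colour counts. -/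
theorem sum_mul_coeff_eq_zero (w : Perm (Fin n) → ℂ)
    (h : ∀ S : ↥(wSets N n), ∑ g, w g * theta S g = 0) (α : Fin N → ℕ) :
    ∑ g, w g * ((coeff (expo α) (pProd N (parts g)) : ℤ) : ℂ) = 0 := by
  classical
  have hall : ∀ β : Fin N → ℕ, ∑ g, w g * thetaFun β g = 0 := by
    intro β
    by_cases hinj : Function.Injective β
    · by_cases hs : ∑ i, β i = base N + n
      · obtain ⟨S, π, e⟩ := exists_tup hinj hs
        have h1 := h S
        simp only [theta, ← e, F_comp, Int.cast_mul] at h1
        rw [sum_congr rfl (g := fun g => ((Perm.sign π : ℤ) : ℂ) * (w g * thetaFun β g))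
          (fun g _ => by rw [thetaFun]; ring), ← mul_sum] at h1
        rcases mul_eq_zero.1 h1 with h2 | h2
        · rcases Int.units_eq_one_or (Perm.sign π) with h3 | h3 <;> simp [h3] at h2
        · exact h2
      · refine sum_eq_zero fun g _ => ?_
        rw [thetaFun, show F (parts g) β = 0 from by_contra fun h2 => hs (by
          rw [sum_eq_of_F_ne_zero h2, sum_parts]), Int.cast_zero, mul_zero]
    · exact sum_eq_zero fun g _ => by
        rw [thetaFun, F_eq_zero_of_not_injective _ hinj, Int.cast_zero, mul_zero]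
  set Q : MvPolynomial (Fin N) ℂ :=
    ∑ g, w g • MvPolynomial.map (Int.castRingHom ℂ) (pProd N (parts g)) with hQ
  have h0 : MvPolynomial.map (Int.castRingHom ℂ) (delta N) * Q = 0 := by
    refine MvPolynomial.ext _ _ fun d => ?_
    rw [hQ, mul_sum, coeff_sum, coeff_zero, ← hall (⇑d)]
    refine sum_congr rfl fun g _ => ?_
    rw [mul_smul_comm, coeff_smul, smul_eq_mul, ← map_mul, coeff_map, thetaFun, F, expo_coe]
    rfl
  have hd : MvPolynomial.map (Int.castRingHom ℂ) (delta N) ≠ 0 := fun h1 => delta_ne_zero N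
    (map_injective _ (Int.castRingHom ℂ).injective_int (h1.trans (map_zero _).symm))
  have hQ0 := congrArg (coeff (expo α)) ((mul_eq_zero.1 h0).resolve_left hd)
  rw [hQ, coeff_sum, coeff_zero] at hQ0
  rw [← hQ0]
  refine sum_congr rfl fun g _ => ?_
  rw [coeff_smul, smul_eq_mul, coeff_map]
  rfl

theorem card_orb_le (g : Perm (Fin n)) : Fintype.card (Orb g) ≤ n :=
  (Fintype.card_le_of_surjective _ (toOrb_surjective g)).trans_eq (Fintype.card_fin n)

theorem parts_eq_of_colour {g₀ g : Perm (Fin n)} (ι : Orb g₀ ↪ Fin N) {h : Fin n → Fin N}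
    (hg : h ∘ g = h) (hc : cnt h = cnt (ι ∘ toOrb g₀)) :
    Fintype.card (Orb g₀) ≤ Fintype.card (Orb g) ∧
      (Fintype.card (Orb g₀) = Fintype.card (Orb g) → parts g = parts g₀) := by
  classical
  obtain ⟨h', hh'⟩ : ∃ h' : Orb g → Fin N, ∀ a, h' (toOrb g a) = h a :=
    ⟨h ∘ Function.surjInv (toOrb_surjective g), fun a =>
      (comp_eq_iff g h).1 hg _ _ (Function.surjInv_eq _ _)⟩
  have hsub : ∀ o : Orb g₀, ∃ o' : Orb g, h' o' = ι o := by
    intro o
    obtain ⟨a, rfl⟩ := toOrb_surjective g₀ o
    have hpos : 0 < cnt h (ι (toOrb g₀ a)) := by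
      rw [hc, cnt, card_pos]
      exact ⟨a, mem_filter.2 ⟨mem_univ _, rfl⟩⟩
    obtain ⟨b, hb⟩ := card_pos.1 hpos
    exact ⟨toOrb g b, (hh' b).trans (mem_filter.1 hb).2⟩
  choose u hu using hsub
  have huinj : Function.Injective u := fun o o' e => ι.injective (by rw [← hu o, e, hu o'])
  refine ⟨Fintype.card_le_of_injective u huinj, fun hcard => ?_⟩
  have hub := (Fintype.bijective_iff_injective_and_card u).2 ⟨huinj, hcard⟩
  have hsize : ∀ o, orbSize g (u o) = orbSize g₀ o := by
    intro o
    rw [← card_fiber_toOrb, ← card_fiber_toOrb]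
    have h1 : (univ.filter fun a => toOrb g a = u o) = univ.filter fun a => h a = ι o := by
      refine filter_congr fun a _ => ⟨fun e => by rw [← hh' a, e, hu o], fun e => ?_⟩
      obtain ⟨o', ho'⟩ := hub.2 (toOrb g a)
      rw [← ho', ι.injective (by rw [← hu o', ho', hh' a, e] : ι o' = ι o)]
    have h2 : (univ.filter fun a => toOrb g₀ a = o) =
        univ.filter fun a => (ι ∘ toOrb g₀) a = ι o :=
      filter_congr fun a _ => ι.injective.eq_iff.symm
    rw [h1, h2]
    exact congrFun hc (ι o)
  rw [parts_eq_map, parts_eq_map, ← map_univ_equiv (Equiv.ofBijective u hub), map_val,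
    Multiset.map_map]
  exact Multiset.map_congr rfl fun o _ => hsize o

theorem eq_zero_of_sum_mul_theta (hN : n ≤ N) {w : Perm (Fin n) → ℂ}
    (hw : IsClassFunction (Perm (Fin n)) w)
    (h : ∀ S : ↥(wSets N n), ∑ g, w g * theta S g = 0) : w = 0 := by
  classical
  suffices ∀ k, ∀ g₀ : Perm (Fin n), n - Fintype.card (Orb g₀) = k → w g₀ = 0 from
    funext fun g => this _ g rfl
  intro k
  induction k using Nat.strong_induction_on with
  | _ k ih =>
    intro g₀ hk
    obtain ⟨ι⟩ : Nonempty (Orb g₀ ↪ Fin N) := Function.Embedding.nonempty_of_card_le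
      (by rw [Fintype.card_fin]; exact (card_orb_le g₀).trans hN)
    set α := cnt (ι ∘ toOrb g₀) with hα
    have key := sum_mul_coeff_eq_zero w h α
    simp only [coeff_pProd_parts, Int.cast_natCast] at key
    have hterm : ∀ g : Perm (Fin n),
        w g * ((univ.filter fun f : Fin n → Fin N => f ∘ g = f ∧ cnt f = α).card : ℂ) =
          w g₀ * if IsConj g₀ g then
            ((univ.filter fun f : Fin n → Fin N => f ∘ g = f ∧ cnt f = α).card : ℂ) else 0 := by
      intro g
      split_ifs with hg
      · obtain ⟨c, hc⟩ := isConj_iff.1 hg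
        rw [← hc, hw]
      · rw [mul_zero]
        by_cases he : (univ.filter fun f : Fin n → Fin N => f ∘ g = f ∧ cnt f = α).Nonempty
        · obtain ⟨f, hf⟩ := he
          obtain ⟨h1, h2⟩ := parts_eq_of_colour ι (mem_filter.1 hf).2.1 (mem_filter.1 hf).2.2
          have hne : Fintype.card (Orb g₀) ≠ Fintype.card (Orb g) := fun e =>
            hg (isConj_iff_parts.2 (h2 e).symm)
          have hle := card_orb_le g
          rw [ih _ (by omega) g rfl, zero_mul]
        · rw [not_nonempty_iff_eq_empty.1 he, card_empty, Nat.cast_zero, mul_zero]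
    rw [sum_congr rfl fun g _ => hterm g, ← mul_sum] at key
    refine (mul_eq_zero.1 key).resolve_right ?_
    rw [← sum_filter, ← Nat.cast_sum, ← ne_eq, Nat.cast_ne_zero]
    refine (sum_pos' (fun _ _ => Nat.zero_le _)
      ⟨g₀, mem_filter.2 ⟨mem_univ _, IsConj.refl g₀⟩, card_pos.2 ⟨ι ∘ toOrb g₀,
        mem_filter.2 ⟨mem_univ _, ?_, rfl⟩⟩⟩).ne'
    funext a
    simp [toOrb_apply]

theorem chi_surjective (hN : n ≤ N) : Function.Surjective (chi (N := N) (n := n)) := by
  intro χ
  by_contra hne
  push Not at hne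
  have h0 := eq_zero_of_sum_mul_theta hN (IsIrrCharacter.isClassFunction χ.2) fun S => ?_
  · exact apply_one_ne_zero_of_isIrr χ.2 (congrFun h0 1)
  · have h1 : classInner (χ : Perm (Fin n) → ℂ) (chi S : Perm (Fin n) → ℂ) = 0 :=
      classInner_eq_zero_of_ne χ.2 (chi S).2 fun e => hne S (Subtype.ext e.symm)
    simp only [classInner, chi_apply, map_mul, conj_sgn, mul_eq_zero, inv_eq_zero,
      Nat.cast_eq_zero, Nat.card_pos.ne', false_or] at h1
    rw [sum_congr rfl (g := fun g => sgn S * ((χ : Perm (Fin n) → ℂ) g * theta S g)) fun g _ => by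
      rw [show conj (theta S g) = theta S g from conj_thetaFun _ g]; ring, ← mul_sum] at h1
    refine (mul_eq_zero.1 h1).resolve_left fun h2 => ?_
    simpa [h2] using sgn_mul_self S

/-- The irreducible characters are indexed by the weight sets. -/
noncomputable def chiEquiv (hN : n ≤ N) : ↥(wSets N n) ≃ IrrCharacter (Perm (Fin n)) :=
  Equiv.ofBijective chi ⟨chi_injective, chi_surjective hN⟩

/-- Number of permutations with given cycle lengths. -/
def numParts (n : ℕ) (m : Multiset ℕ) : ℕ :=
  (univ.filter fun g : Perm (Fin n) => parts g = m).card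

theorem numParts_mul_centralizer (g : Perm (Fin n)) :
    numParts n (parts g) * Nat.card (Subgroup.centralizer ({g} : Set (Perm (Fin n)))) = n ! := by
  have h : numParts n (parts g) = Nat.card {x : Perm (Fin n) // IsConj g x} := by
    classical
    rw [numParts, Nat.card_eq_fintype_card, Fintype.card_subtype]
    exact congrArg Finset.card (filter_congr fun x _ => by rw [isConj_iff_parts, eq_comm])
  rw [h, card_isConj, Subgroup.index_mul_card, Nat.card_eq_fintype_card, Fintype.card_perm,
    Fintype.card_fin]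

/-- Column orthogonality. -/
theorem sum_theta_col (hN : n ≤ N) (g h : Perm (Fin n)) :
    ∑ S : ↥(wSets N n), theta S g * theta S h =
      if parts g = parts h then (n ! : ℂ) / numParts n (parts g) else 0 := by
  classical
  haveI := Fintype.ofFinite (IrrCharacter (Perm (Fin n)))
  rw [← if_congr (isConj_iff_parts (g := g) (h := h)) rfl rfl]
  have h1 := sum_mul_conj g h
  rw [← Fintype.sum_equiv (chiEquiv hN) (fun S => theta S g * theta S h) _ fun S => ?_] at h1
  · rw [h1]
    split_ifs with hc
    · have hne : (numParts n (parts g) : ℂ) ≠ 0 := Nat.cast_ne_zero.2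
        (card_pos.2 ⟨g, by simp⟩).ne'
      rw [eq_div_iff hne, ← Nat.cast_mul, mul_comm, numParts_mul_centralizer]
    · rfl
  · show _ = (chi S : Perm (Fin n) → ℂ) g * conj ((chi S : Perm (Fin n) → ℂ) h)
    rw [chi_apply, chi_apply, map_mul, conj_sgn, show conj (theta S h) = theta S h from
      conj_thetaFun _ h]
    calc theta S g * theta S h = sgn S * sgn S * (theta S g * theta S h) := by
          rw [sgn_mul_self, one_mul]
      _ = _ := by ring

theorem exists_parts (l : Nat.Partition n) : ∃ g : Perm (Fin n), parts g = l.parts := by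
  have hle : (l.parts.filter fun k => 2 ≤ k).sum ≤ Fintype.card (Fin n) := by
    rw [Fintype.card_fin]
    have := congrArg Multiset.sum (Multiset.filter_add_not (fun k => 2 ≤ k) l.parts)
    rw [Multiset.sum_add, l.parts_sum] at this
    omega
  obtain ⟨g, hg⟩ := (Perm.exists_with_cycleType_iff (Fin n)
    (m := l.parts.filter fun k => 2 ≤ k)).2 ⟨hle, fun a ha => (Multiset.mem_filter.1 ha).2⟩
  · refine ⟨g, ?_⟩
    have h1 : (parts g).filter (fun k => 2 ≤ k) = l.parts.filter fun k => 2 ≤ k := by
      rw [parts, Perm.filter_parts_partition_eq_cycleType, hg]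
    have h2 : ∀ {m : Multiset ℕ}, (∀ a ∈ m, 0 < a) →
        m.filter (fun k => ¬ 2 ≤ k) = Multiset.replicate (m.filter fun k => ¬ 2 ≤ k).card 1 :=
      fun hm => Multiset.eq_replicate_card.2 fun a ha => by
        have := hm a (Multiset.mem_filter.1 ha).1
        have := (Multiset.mem_filter.1 ha).2
        omega
    have hs1 := congrArg Multiset.sum (Multiset.filter_add_not (fun k => 2 ≤ k) (parts g))
    have hs2 := congrArg Multiset.sum (Multiset.filter_add_not (fun k => 2 ≤ k) l.parts)
    rw [h2 (m := parts g) (fun a ha => (g.partition).parts_pos ha), Multiset.sum_add, sum_parts, h1,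
      Multiset.sum_replicate, smul_eq_mul, mul_one] at hs1
    rw [h2 (m := l.parts) (fun a ha => l.parts_pos ha), Multiset.sum_add, l.parts_sum, Multiset.sum_replicate,
      smul_eq_mul, mul_one] at hs2
    rw [← Multiset.filter_add_not (fun k => 2 ≤ k) (parts g),
      ← Multiset.filter_add_not (fun k => 2 ≤ k) l.parts, h1,
      h2 (m := parts g) (fun a ha => (g.partition).parts_pos ha),
      h2 (m := l.parts) (fun a ha => l.parts_pos ha),
      show ((parts g).filter fun k => ¬ 2 ≤ k).card = (l.parts.filter fun k => ¬ 2 ≤ k).card by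
        omega]

/-- The number of weight sets is the number of partitions. -/
theorem card_wSets (hN : n ≤ N) : (wSets N n).card = Fintype.card (Nat.Partition n) := by
  have h : Nat.card (ConjClasses (Perm (Fin n))) = Nat.card (Nat.Partition n) := by
    refine Nat.card_congr (Equiv.ofBijective (Quotient.lift
      (fun g : Perm (Fin n) => (⟨parts g, fun {_} ha => g.partition.parts_pos ha, sum_parts g⟩ :
        Nat.Partition n)) fun a b e => Nat.Partition.ext (parts_eq_of_isConj e)) ⟨?_, ?_⟩)
    · intro a b e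
      induction a using Quotient.inductionOn with
      | h a =>
        induction b using Quotient.inductionOn with
        | h b => exact Quotient.sound (isConj_iff_parts.2 (congrArg Nat.Partition.parts e :))
    · intro l
      obtain ⟨g, hg⟩ := exists_parts l
      exact ⟨Quotient.mk _ g, Nat.Partition.ext hg⟩
  rw [← Fintype.card_coe, ← Nat.card_eq_fintype_card, Nat.card_congr (chiEquiv hN),
    card_irrCharacter, h, Nat.card_eq_fintype_card]

end CfsgLib.SymChar
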