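import Cfsg.Agent.Lib.SymChar.Irr
import Mathlib.Combinatorics.Enumerative.Composition

/-!
# Weight sets on an abacus with `p` runners

A finite set of natural numbers is the same as a `p`-tuple of them. Weight sets with prescribed
runner lengths `c`, all at least the weight `w`, are counted by `p`-multipartitions of `w`.
-/

set_option autoImplicit false
set_option linter.unusedSectionVars false

namespace CfsgLib.SymChar

open Finset

/-- Number of partitions. -/
def numPartitions (n : ℕ) : ℕ := Fintype.card (Nat.Partition n)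

/-- Number of `q`-multipartitions of `w`. -/
def numMulti (q w : ℕ) : ℕ :=
  ∑ d ∈ (univ : Finset (Fin q)).piAntidiag w, ∏ r, numPartitions (d r)

theorem numPartitions_zero : numPartitions 0 = 1 := Fintype.card_unique

theorem numPartitions_succ_le (j : ℕ) : numPartitions (j + 1) ≤ 2 ^ j :=
  (Fintype.card_le_of_surjective _ Nat.Partition.ofComposition_surj).trans_eq
    (composition_card (j + 1))

theorem numMulti_zero_left {w : ℕ} (hw : w ≠ 0) : numMulti 0 w = 0 := by
  rw [numMulti]
  refine sum_eq_zero fun d hd => absurd (mem_piAntidiag.1 hd).1 ?_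
  simpa using Ne.symm hw

theorem numMulti_zero_right (q : ℕ) : numMulti q 0 = 1 := by
  rw [numMulti, piAntidiag_zero, sum_singleton]
  exact prod_eq_one fun r _ => numPartitions_zero

theorem numMulti_succ (q w : ℕ) :
    numMulti (q + 1) w = ∑ j ∈ range (w + 1), numPartitions j * numMulti q (w - j) := by
  simp only [numMulti, mul_sum]
  rw [sum_sigma']
  refine (sum_bij' (fun x _ => Fin.cons x.1 x.2) (fun d _ => ⟨d 0, Fin.tail d⟩) (fun x hx => ?_)
    (fun d hd => ?_) (fun x _ => ?_) (fun d _ => Fin.cons_self_tail d) fun x _ => ?_).symm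
  · obtain ⟨h1, h2⟩ := mem_sigma.1 hx
    refine mem_piAntidiag.2 ⟨?_, fun r _ => mem_univ r⟩
    rw [Fin.sum_univ_succ, Fin.cons_zero]
    simp only [Fin.cons_succ]
    rw [(mem_piAntidiag.1 h2).1]
    have := mem_range.1 h1
    omega
  · have h := (mem_piAntidiag.1 hd).1
    rw [Fin.sum_univ_succ] at h
    refine mem_sigma.2 ⟨mem_range.2 (show d 0 < w + 1 by omega),
      mem_piAntidiag.2 ⟨?_, fun r _ => mem_univ r⟩⟩
    show ∑ i, Fin.tail d i = w - d 0
    simp only [Fin.tail]
    omega
  · simp [Fin.tail]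
  · rw [Fin.prod_univ_succ, Fin.cons_zero]
    simp [Fin.cons_succ]

theorem numMulti_bound : ∀ q w : ℕ,
    numMulti q w ≤ (q + 1) ^ w ∧ (w ≠ 0 → numMulti q w < (q + 1) ^ w) := by
  intro q
  induction q with
  | zero =>
    intro w
    rcases eq_or_ne w 0 with rfl | hw
    · simp [numMulti_zero_right]
    · simp [numMulti_zero_left hw]
  | succ q ih =>
    intro w
    rcases eq_or_ne w 0 with rfl | hw
    · simp [numMulti_zero_right]
    suffices h : numMulti (q + 1) w < (q + 1 + 1) ^ w from ⟨h.le, fun _ => h⟩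
    obtain ⟨w, rfl⟩ : ∃ v, w = v + 1 := ⟨w - 1, by omega⟩
    rw [numMulti_succ, sum_range_succ', numPartitions_zero, one_mul, Nat.sub_zero]
    have hgeo : ∑ j ∈ range (w + 1), (q + 1 + 1) ^ j * (q + 1) ^ (w - j) + (q + 1) ^ (w + 1) =
        (q + 1 + 1) ^ (w + 1) := by
      have h := geom_sum₂_mul_add (1 : ℕ) (q + 1) (w + 1)
      rw [mul_one, add_comm 1 (q + 1)] at h
      simpa using h
    rw [← hgeo]
    refine add_lt_add_of_le_of_lt (sum_le_sum fun j hj => ?_) ((ih (w + 1)).2 (Nat.succ_ne_zero w))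
    rw [show w + 1 - (j + 1) = w - j by omega]
    exact Nat.mul_le_mul ((numPartitions_succ_le j).trans (Nat.pow_le_pow_left (by omega) j))
      (ih (w - j)).1

variable (p : ℕ)

/-- The least sum of a set with given runner lengths. -/
def coreBase (c : Fin p → ℕ) : ℕ := ∑ r : Fin p, ((r : ℕ) * c r + p * base (c r))

/-- The runner `r` of a set. -/
def runner (S : Finset ℕ) (r : Fin p) : Finset ℕ :=
  (S.filter fun x => x % p = (r : ℕ)).image fun x => x / p

/-- A set from its runners. -/
def joinRunners (A : Fin p → Finset ℕ) : Finset ℕ :=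
  univ.biUnion fun r : Fin p => (A r).image fun y => p * y + (r : ℕ)

variable {p}

theorem card_runner (S : Finset ℕ) (r : Fin p) :
    (runner p S r).card = (S.filter fun x => x % p = (r : ℕ)).card := by
  refine card_image_of_injOn fun a ha b hb e => ?_
  have e' : a / p = b / p := e
  rw [← Nat.div_add_mod a p, ← Nat.div_add_mod b p, e', (mem_filter.1 ha).2, (mem_filter.1 hb).2]

theorem mem_joinRunners [NeZero p] {A : Fin p → Finset ℕ} {x : ℕ} :
    x ∈ joinRunners p A ↔ x / p ∈ A ⟨x % p, Nat.mod_lt x (NeZero.pos p)⟩ := by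
  simp only [joinRunners, mem_biUnion, mem_univ, true_and, mem_image]
  constructor
  · rintro ⟨r, y, hy, rfl⟩
    have h1 : (p * y + (r : ℕ)) % p = (r : ℕ) := by
      rw [Nat.mul_add_mod, Nat.mod_eq_of_lt r.2]
    have h2 : (p * y + (r : ℕ)) / p = y := by
      rw [Nat.mul_add_div (NeZero.pos p), Nat.div_eq_of_lt r.2, add_zero]
    rw [h2]
    exact (Fin.ext h1.symm : r = ⟨_, Nat.mod_lt _ (NeZero.pos p)⟩) ▸ hy
  · exact fun h => ⟨_, _, h, Nat.div_add_mod x p⟩

theorem joinRunners_runner [NeZero p] (S : Finset ℕ) : joinRunners p (runner p S) = S := by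
  ext x
  rw [mem_joinRunners, runner, mem_image]
  constructor
  · rintro ⟨y, hy, hxy⟩
    obtain ⟨hy1, hy2⟩ := mem_filter.1 hy
    have : y = x := by
      rw [← Nat.div_add_mod y p, ← Nat.div_add_mod x p, hxy, hy2]
    exact this ▸ hy1
  · exact fun h => ⟨x, mem_filter.2 ⟨h, rfl⟩, rfl⟩

theorem runner_joinRunners [NeZero p] (A : Fin p → Finset ℕ) (r : Fin p) :
    runner p (joinRunners p A) r = A r := by
  ext y
  simp only [runner, mem_image, mem_filter, mem_joinRunners]
  constructor
  · rintro ⟨x, ⟨hx, hr⟩, rfl⟩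
    exact (Fin.ext hr : (⟨x % p, Nat.mod_lt x (NeZero.pos p)⟩ : Fin p) = r) ▸ hx
  · intro hy
    have h1 : (p * y + (r : ℕ)) % p = (r : ℕ) := by
      rw [Nat.mul_add_mod, Nat.mod_eq_of_lt r.2]
    have h2 : (p * y + (r : ℕ)) / p = y := by
      rw [Nat.mul_add_div (NeZero.pos p), Nat.div_eq_of_lt r.2, add_zero]
    refine ⟨p * y + r, ⟨?_, h1⟩, h2⟩
    rw [h2, show (⟨(p * y + (r : ℕ)) % p, Nat.mod_lt _ (NeZero.pos p)⟩ : Fin p) = r from Fin.ext h1]
    exact hy

theorem sum_eq_sum_runner [NeZero p] (S : Finset ℕ) :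
    ∑ x ∈ S, x = ∑ r : Fin p, ((r : ℕ) * (runner p S r).card + p * ∑ y ∈ runner p S r, y) := by
  conv_lhs => rw [← joinRunners_runner (p := p) S]
  rw [joinRunners, sum_biUnion]
  · refine sum_congr rfl fun r _ => ?_
    rw [sum_image fun a _ b _ e => Nat.eq_of_mul_eq_mul_left (NeZero.pos p) (Nat.add_right_cancel e),
      sum_add_distrib, sum_const, smul_eq_mul, mul_sum, add_comm, mul_comm (r : ℕ)]
  · intro r _ r' _ hne
    rw [Function.onFun, disjoint_left]
    intro x hx hx'
    obtain ⟨a, -, rfl⟩ := mem_image.1 hx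
    obtain ⟨b, -, e⟩ := mem_image.1 hx'
    refine hne (Fin.ext ?_)
    have := congrArg (fun z => z % p) e
    simpa [Nat.mul_add_mod, Nat.mod_eq_of_lt r.2, Nat.mod_eq_of_lt r'.2] using this.symm

theorem card_eq_sum_runner [NeZero p] (S : Finset ℕ) :
    S.card = ∑ r : Fin p, (runner p S r).card := by
  simp only [card_runner]
  rw [card_eq_sum_card_fiberwise (f := fun x => (⟨x % p, Nat.mod_lt x (NeZero.pos p)⟩ : Fin p))
    (t := univ) fun x _ => mem_univ _]
  exact sum_congr rfl fun r _ => congrArg card (filter_congr fun x _ => by rw [Fin.ext_iff])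

variable {N n : ℕ}

/-- The runner lengths. -/
def runLen (S : Finset ℕ) : Fin p → ℕ := fun r => (runner p S r).card

theorem exists_weight [NeZero p] {S : Finset ℕ} (hS : S ∈ wSets N n) :
    ∃ w, base N + n = coreBase p (runLen (p := p) S) + p * w := by
  refine ⟨∑ r, (∑ y ∈ runner p S r, y - base (runner p S r).card), ?_⟩
  rw [← (mem_wSets.1 hS).2, sum_eq_sum_runner (p := p) S, coreBase, mul_sum, ← sum_add_distrib]
  refine sum_congr rfl fun r _ => ?_
  have h := base_le_sum (runner p S r)
  rw [runLen, add_assoc, ← Nat.mul_add, Nat.add_sub_of_le h]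

theorem base_le_coreBase [NeZero p] (c : Fin p → ℕ) (hc : ∑ r, c r = N) :
    base N ≤ coreBase p c := by
  set S := joinRunners p fun r => range (c r) with hS
  have hrun : ∀ r, runner p S r = range (c r) := fun r => runner_joinRunners _ r
  have h1 := base_le_sum S
  rw [card_eq_sum_runner (p := p) S, sum_eq_sum_runner (p := p) S] at h1
  simp only [hrun, card_range, hc] at h1
  refine h1.trans_eq (sum_congr rfl fun r _ => ?_)
  rw [base, Fin.sum_univ_eq_sum_range (fun i => i)]

theorem runLen_ge [NeZero p] (hN : p * n + n ≤ N) {S : Finset ℕ} (hS : S ∈ wSets N n) (r : Fin p) :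
    n ≤ runLen (p := p) S r := by
  have hsub : ∀ x < p * n, x ∈ S := by
    intro x hx
    by_contra hxS
    have h1 := base_le_sum (insert x S)
    rw [card_insert_of_notMem hxS, sum_insert hxS, (mem_wSets.1 hS).1, (mem_wSets.1 hS).2,
      base_succ] at h1
    omega
  rw [runLen, ← card_range n]
  refine card_le_card fun y hy => ?_
  have h1 : (p * y + (r : ℕ)) % p = (r : ℕ) := by
    rw [Nat.mul_add_mod, Nat.mod_eq_of_lt r.2]
  refine mem_image.2 ⟨p * y + r, mem_filter.2 ⟨hsub _ ?_, h1⟩, ?_⟩
  · calc p * y + (r : ℕ) < p * y + p := Nat.add_lt_add_left r.2 _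
      _ = p * (y + 1) := by ring
      _ ≤ p * n := Nat.mul_le_mul_left p (mem_range.1 hy)
  · rw [Nat.mul_add_div (NeZero.pos p), Nat.div_eq_of_lt r.2, add_zero]

theorem card_filter_runLen [NeZero p] (c : Fin p → ℕ) (hc : ∑ r, c r = N) {w : ℕ}
    (hw : base N + n = coreBase p c + p * w) (hcw : ∀ r, w ≤ c r) :
    ((wSets N n).filter fun S => runLen (p := p) S = c).card = numMulti p w := by
  classical
  have h1 : numMulti p w = ((univ : Finset (Fin p)).piAntidiag w |>.sigma fun d =>
      Fintype.piFinset fun r => wSets (c r) (d r)).card := by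
    rw [card_sigma, numMulti]
    refine sum_congr rfl fun d hd => ?_
    rw [Fintype.card_piFinset]
    refine prod_congr rfl fun r _ => (card_wSets ?_).symm
    exact (single_le_sum (fun i _ => Nat.zero_le (d i)) (mem_univ r)).trans
      ((mem_piAntidiag.1 hd).1.le.trans (hcw r))
  rw [h1]
  refine card_bij' (fun S _ => ⟨fun r => ∑ y ∈ runner p S r, y - base (c r), runner p S⟩)
    (fun x _ => joinRunners p x.2) (fun S hS => ?_) (fun x hx => ?_)
    (fun S _ => joinRunners_runner S) fun x hx => ?_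
  · obtain ⟨hS1, hS2⟩ := mem_filter.1 hS
    have hlen : ∀ r, (runner p S r).card = c r := fun r => congrFun hS2 r
    have hge : ∀ r, base (c r) ≤ ∑ y ∈ runner p S r, y := fun r => hlen r ▸ base_le_sum _
    refine mem_sigma.2 ⟨mem_piAntidiag.2 ⟨?_, fun r _ => mem_univ r⟩,
      Fintype.mem_piFinset.2 fun r => mem_wSets.2 ⟨hlen r, (Nat.add_sub_of_le (hge r)).symm⟩⟩
    have h2 := sum_eq_sum_runner (p := p) S
    rw [(mem_wSets.1 hS1).2, hw, coreBase] at h2
    have h3 : ∑ r : Fin p, ((r : ℕ) * (runner p S r).card + p * ∑ y ∈ runner p S r, y) =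
        ∑ r : Fin p, ((r : ℕ) * c r + p * base (c r)) +
          p * ∑ r, (∑ y ∈ runner p S r, y - base (c r)) := by
      rw [mul_sum, ← sum_add_distrib]
      exact sum_congr rfl fun r _ => by
        rw [hlen r, add_assoc, ← Nat.mul_add, Nat.add_sub_of_le (hge r)]
    rw [h3] at h2
    exact Nat.eq_of_mul_eq_mul_left (NeZero.pos p) (Nat.add_left_cancel h2).symm
  · obtain ⟨hx1, hx2⟩ := mem_sigma.1 hx
    have hx3 := fun r => mem_wSets.1 (Fintype.mem_piFinset.1 hx2 r)
    have hrun : ∀ r, runner p (joinRunners p x.2) r = x.2 r := runner_joinRunners x.2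
    refine mem_filter.2 ⟨mem_wSets.2 ⟨?_, ?_⟩, funext fun r => ?_⟩
    · rw [card_eq_sum_runner (p := p), ← hc]
      exact sum_congr rfl fun r _ => by rw [hrun r, (hx3 r).1]
    · rw [sum_eq_sum_runner (p := p), hw, coreBase, ← (mem_piAntidiag.1 hx1).1, mul_sum,
        ← sum_add_distrib]
      exact sum_congr rfl fun r _ => by rw [hrun r, (hx3 r).1, (hx3 r).2]; ring
    · rw [runLen, hrun r, (hx3 r).1]
  · obtain ⟨-, hx2⟩ := mem_sigma.1 hx
    obtain ⟨d, A⟩ := x
    have hA : runner p (joinRunners p A) = A := funext (runner_joinRunners A)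
    have hd : (fun r => ∑ y ∈ runner p (joinRunners p A) r, y - base (c r)) = d := funext fun r => by
      rw [hA, (mem_wSets.1 (Fintype.mem_piFinset.1 hx2 r)).2, Nat.add_sub_cancel_left]
    simp only
    rw [hd, hA]

theorem filter_runLen_eq_empty [NeZero p] (c : Fin p → ℕ) (h : base N + n < coreBase p c) :
    ((wSets N n).filter fun S => runLen (p := p) S = c) = ∅ := by
  rw [filter_eq_empty_iff]
  intro S hS e
  obtain ⟨w, hw⟩ := exists_weight (p := p) hS
  rw [e] at hw
  omega

end CfsgLib.SymChar
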